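import Cfsg.Agent.Brauer.RootBlock
import Cfsg.Agent.BlockVal.RegGen
import Cfsg.Agent.BlockVal.SquareSum
import Cfsg.Agent.BlkChar.Contribution
import Cfsg.Agent.BrauerPairs.Rank

/-!
Blocks and a central `p`-subgroup: the block of the quotient, the regular parts, and integrality
of regular sums against generalized characters of the quotient vanishing on singular elements.
-/

set_option autoImplicit false
set_option linter.style.haveILetI false
set_option linter.unusedSectionVars false

namespace Cfsg.Agent.BlockCount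

open Cfsg
open Cfsg.Agent.Block
open scoped ComplexConjugate Classical
open Cfsg.Agent.Brauer (regSum)

universe u

variable {G : Type u} [Group G] [Fintype G] {p : ℕ} [hp : Fact p.Prime] {M : Ideal AlgInt}
  {Z : Subgroup G} [Z.Normal]

/-- The members of `B` trivial on `Z`, as characters of the quotient. -/
def quotBlock (Z : Subgroup G) [Z.Normal] (B : Set (IrrCharacter G)) :
    Set (IrrCharacter (G ⧸ Z)) :=
  {φ | (Char.irrEquivQuotient Z φ : IrrCharacter G) ∈ B}

theorem sup_centralizer_eq_top (hZc : Z ≤ Subgroup.center G) :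
    Z ⊔ Subgroup.centralizer (Z : Set G) = ⊤ :=
  top_le_iff.1 fun g _ => Subgroup.mem_sup_right (Subgroup.mem_centralizer_iff.2 fun u hu =>
    (Subgroup.mem_center_iff.1 (hZc hu) g).symm)

theorem commute_of_mem (hZc : Z ≤ Subgroup.center G) {u : G} (hu : u ∈ Z) (g : G) :
    Commute u g := (Subgroup.mem_center_iff.1 (hZc hu) g).symm

theorem pPart_mul_of_mem (hZc : Z ≤ Subgroup.center G) (hZp : IsPGroup p Z) {z y : G}
    (hz : z ∈ Z) (g : G) (hg : g = z * y) :
    Element.pPart p g = z * Element.pPart p y ∧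
      Element.pComplPart p g = Element.pComplPart p y := by
  obtain ⟨k, hk⟩ := IsPGroup.iff_orderOf.mp hZp ⟨z, hz⟩
  rw [Subgroup.orderOf_mk] at hk
  have hc : Commute z (Element.pPart p y) := commute_of_mem hZc hz _
  obtain ⟨i, hi⟩ : ∃ i, orderOf (Element.pPart p y) = p ^ i :=
    ⟨_, Element.orderOf_pPart_eq_pow hp.out y⟩
  have hd : orderOf (z * Element.pPart p y) ∣ p ^ (k + i) := by
    refine hc.orderOf_mul_dvd_mul_orderOf.trans ?_
    rw [hk, hi, pow_add]
  obtain ⟨j, -, hj⟩ := (Nat.dvd_prime_pow hp.out).1 hd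
  obtain ⟨h1, h2⟩ := Element.eq_pPart hp.out (g := g) (a := z * Element.pPart p y)
    (b := Element.pComplPart p y)
    ((commute_of_mem hZc hz _).mul_left (Element.commute_pPart_pComplPart p y))
    (by rw [mul_assoc, Element.pPart_mul_pComplPart, hg]) hj
    (Element.coprime_orderOf_pComplPart hp.out y)
  exact ⟨h1.symm, h2.symm⟩

theorem not_dvd_orderOf_mk {g : G} (hg : ¬ p ∣ orderOf g) : ¬ p ∣ orderOf (g : G ⧸ Z) :=
  fun h => hg (h.trans (orderOf_map_dvd (QuotientGroup.mk' Z) g))

theorem pPart_mem_of_regular {g : G} (hg : ¬ p ∣ orderOf (g : G ⧸ Z)) :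
    Element.pPart p g ∈ Z := by
  rw [← QuotientGroup.eq_one_iff]
  have h := (Element.map_pPart hp.out (QuotientGroup.mk' Z) g).1
  rw [QuotientGroup.mk'_apply, QuotientGroup.mk'_apply] at h
  rw [h, ← orderOf_eq_one_iff, Element.orderOf_pPart_eq_pow hp.out,
    Nat.factorization_eq_zero_of_not_dvd hg, pow_zero]

theorem exists_regular_lift {q : G ⧸ Z} (hq : ¬ p ∣ orderOf q) :
    ∃ g : G, ¬ p ∣ orderOf g ∧ (g : G ⧸ Z) = q := by
  obtain ⟨g, rfl⟩ := QuotientGroup.mk_surjective q
  refine ⟨Element.pComplPart p g,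
    hp.out.coprime_iff_not_dvd.mp (Nat.coprime_comm.mp (Element.coprime_orderOf_pComplPart hp.out g)),
    ?_⟩
  conv_rhs => rw [← Element.pPart_mul_pComplPart p g, QuotientGroup.mk_mul,
    (QuotientGroup.eq_one_iff _).2 (pPart_mem_of_regular hq), one_mul]

theorem eq_of_regular (hZc : Z ≤ Subgroup.center G) (hZp : IsPGroup p Z) {g g' : G}
    (hg : ¬ p ∣ orderOf g) (hg' : ¬ p ∣ orderOf g') (h : (g : G ⧸ Z) = g') : g = g' := by
  rw [QuotientGroup.eq] at h
  have h1 := Brauer.eq_one_of_mul_regular hZp h (commute_of_mem hZc h g).symm hg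
    (by rwa [mul_inv_cancel_left])
  exact (inv_mul_eq_one.1 h1)

theorem regSum_comp_mk [Fintype (G ⧸ Z)] (hZc : Z ≤ Subgroup.center G) (hZp : IsPGroup p Z)
    (a b : G ⧸ Z → ℂ) :
    regSum p (fun g : G => a g) (fun g : G => b g) = regSum p a b := by
  refine Finset.sum_bij (fun g _ => (g : G ⧸ Z)) (fun g hg => ?_) (fun g hg g' hg' h => ?_)
    (fun q hq => ?_) (fun g _ => rfl)
  · exact Finset.mem_filter.2 ⟨Finset.mem_univ _, not_dvd_orderOf_mk (Finset.mem_filter.1 hg).2⟩
  · exact eq_of_regular hZc hZp (Finset.mem_filter.1 hg).2 (Finset.mem_filter.1 hg').2 h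
  · obtain ⟨g, hg, he⟩ := exists_regular_lift (Finset.mem_filter.1 hq).2
    exact ⟨g, Finset.mem_filter.2 ⟨Finset.mem_univ _, hg⟩, he⟩

theorem card_centralizer_mk (hZc : Z ≤ Subgroup.center G) (hZp : IsPGroup p Z) {g : G}
    (hg : ¬ p ∣ orderOf g) :
    Nat.card (Subgroup.centralizer ({g} : Set G)) =
      Nat.card Z * Nat.card (Subgroup.centralizer ({(g : G ⧸ Z)} : Set (G ⧸ Z))) := by
  have heq : (Subgroup.centralizer ({(g : G ⧸ Z)} : Set (G ⧸ Z))).comap (QuotientGroup.mk' Z)
      = Subgroup.centralizer ({g} : Set G) := by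
    refine le_antisymm (fun x hx => ?_) (Brauer.centralizer_le_comap_mk Z g)
    rw [Subgroup.mem_comap, Subgroup.mem_centralizer_singleton_iff, QuotientGroup.mk'_apply,
      ← QuotientGroup.mk_mul, ← QuotientGroup.mk_mul] at hx
    rw [Subgroup.mem_centralizer_singleton_iff]
    have h1 : ((x * g * x⁻¹ : G) : G ⧸ Z) = g := by
      rw [QuotientGroup.mk_mul, hx, QuotientGroup.mk_mul, mul_assoc, ← QuotientGroup.mk_mul,
        mul_inv_cancel, QuotientGroup.mk_one, mul_one]
    have h2 := eq_of_regular hZc hZp (by rwa [← MulAut.conj_apply, MulEquiv.orderOf_eq]) hg h1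
    exact mul_inv_eq_iff_eq_mul.1 h2
  have h1 := Brauer.index_comap_centralizer_mk Z g
  rw [heq] at h1
  have h2 := Subgroup.card_mul_index (Subgroup.centralizer ({g} : Set G))
  have h3 := Subgroup.card_mul_index Z
  have h4 := Subgroup.card_mul_index (Subgroup.centralizer ({(g : G ⧸ Z)} : Set (G ⧸ Z)))
  rw [Subgroup.index_eq_card Z] at h3
  rw [h1] at h2
  refine Nat.eq_of_mul_eq_mul_right (Nat.pos_of_ne_zero (Subgroup.index_ne_zero_of_finite
    (H := Subgroup.centralizer ({(g : G ⧸ Z)} : Set (G ⧸ Z))))) ?_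
  rw [h2, mul_assoc, h4, h3]

theorem blockCoeff_quotBlock (hM : IsPModular p M) [Fintype (G ⧸ Z)]
    (hZc : Z ≤ Subgroup.center G) (hZp : IsPGroup p Z) {B : Set (IrrCharacter G)}
    (hB : IsPBlock M B) {g : G} (hg : ¬ p ∣ orderOf g) :
    blockCoeff (quotBlock Z B) (g : G ⧸ Z) = blockCoeff B g := by
  haveI : M.IsPrime := isPrime_of_isPModular hM
  haveI := Fintype.ofFinite Z
  rw [quotBlock, ← Brauer.sum_blockCoeff_coset Z B g, Finset.sum_eq_single (1 : Z)]
  · simp
  · intro u _ hu
    refine Brauer.blockCoeff_eq_zero_of_integral hM B (blockCoeff_memLocalRing hB) ?_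
    by_contra hreg
    exact hu (Subtype.ext (Brauer.eq_one_of_mul_regular hZp u.2
      (commute_of_mem hZc u.2 g).symm hg hreg))
  · simp

theorem centralizer_eq_top (hZc : Z ≤ Subgroup.center G) (g : G) :
    g ∈ Subgroup.centralizer (Z : Set G) :=
  Subgroup.mem_centralizer_iff.2 fun u hu => (Subgroup.mem_center_iff.1 (hZc hu) g).symm

theorem quotBlock_nonempty (hM : IsPModular p M) (hZc : Z ≤ Subgroup.center G)
    (hZp : IsPGroup p Z) {B : Set (IrrCharacter G)} (hB : IsPBlock M B) :
    (quotBlock Z B).Nonempty := by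
  haveI : M.IsPrime := isPrime_of_isPModular hM
  haveI := Fintype.ofFinite (G ⧸ Z)
  obtain ⟨g, hg⟩ := exists_isDefectClass hB
  by_contra hne
  apply hg.2.1
  rw [← blockCoeff_quotBlock hM hZc hZp hB (not_dvd_orderOf_of_isDefectClass hM hB hg),
    Set.not_nonempty_iff_eq_empty.1 hne, blockCoeff, finsum_mem_empty, mul_zero]
  exact memLocalIdeal_zero

theorem isPBlock_quotBlock (hM : IsPModular p M) (hZc : Z ≤ Subgroup.center G)
    (hZp : IsPGroup p Z) {B : Set (IrrCharacter G)} (hB : IsPBlock M B) :
    IsPBlock M (quotBlock Z B) := by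
  haveI : M.IsPrime := isPrime_of_isPModular hM
  haveI := Fintype.ofFinite (G ⧸ Z)
  obtain ⟨φ, hφ⟩ := quotBlock_nonempty hM hZc hZp hB
  suffices quotBlock Z B = blockOf M (φ : G ⧸ Z → ℂ) by rw [this]; exact isPBlock_blockOf φ
  ext ψ
  constructor
  · intro hψ
    refine Brauer.sameBlock_of_regular hM φ ψ fun q hq => ?_
    obtain ⟨g, hg, rfl⟩ := exists_regular_lift hq
    have h := pBlock_sameBlock hB hφ hψ g
    rw [← Brauer.centralChar_comp_mk_of_regular Z hZp _ hg (centralizer_eq_top hZc g),
      ← Brauer.centralChar_comp_mk_of_regular Z hZp _ hg (centralizer_eq_top hZc g)]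
    exact h
  · intro hψ
    show (Char.irrEquivQuotient Z ψ : IrrCharacter G) ∈ B
    rw [pBlock_eq hB hφ]
    exact Brauer.sameBlock_comp_mk Z hψ

theorem blockDefect_quotBlock (hM : IsPModular p M) (hZc : Z ≤ Subgroup.center G)
    (hZp : IsPGroup p Z) {B : Set (IrrCharacter G)} (hB : IsPBlock M B) :
    (Nat.card Z).factorization p + blockDefect p (quotBlock Z B) = blockDefect p B := by
  haveI : M.IsPrime := isPrime_of_isPModular hM
  haveI := Fintype.ofFinite (G ⧸ Z)
  obtain ⟨g, hg⟩ := exists_isDefectClass hB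
  have hreg := not_dvd_orderOf_of_isDefectClass hM hB hg
  have hq : IsDefectClass M (quotBlock Z B) (g : G ⧸ Z) := by
    refine ⟨?_, ?_, fun φ hφ => ?_⟩
    · rw [blockCoeff_quotBlock hM hZc hZp hB hreg]; exact hg.1
    · rw [blockCoeff_quotBlock hM hZc hZp hB hreg]; exact hg.2.1
    · rw [← Brauer.centralChar_comp_mk_of_regular Z hZp _ hreg (centralizer_eq_top hZc g)]
      exact hg.2.2 _ hφ
  rw [← (BlockVal.defect_eq_of_isDefectClass hM hB hg).2,
    ← (BlockVal.defect_eq_of_isDefectClass hM (isPBlock_quotBlock hM hZc hZp hB) hq).2,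
    card_centralizer_mk hZc hZp hreg, Nat.factorization_mul Nat.card_pos.ne' Nat.card_pos.ne',
    Finsupp.add_apply]

/-- The regular parts of `B` are spanned by those of its members trivial on `Z`. -/
theorem span_le_infl (hM : IsPModular p M) (hZc : Z ≤ Subgroup.center G) (hZp : IsPGroup p Z)
    {B : Set (IrrCharacter G)} (hB : IsPBlock M B) :
    Submodule.span ℂ ((fun χ : IrrCharacter G => pRegularPart p (χ : G → ℂ)) '' B) ≤
      Submodule.span ℂ ((fun φ : IrrCharacter (G ⧸ Z) =>
        pRegularPart p ((Char.irrEquivQuotient Z φ : IrrCharacter G) : G → ℂ)) ''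
          quotBlock Z B) := by
  intro f hf
  haveI : M.IsPrime := isPrime_of_isPModular hM
  have hfc : IsClassFunction G f := by
    refine Submodule.span_induction ?_ ?_ ?_ ?_ hf
    · rintro _ ⟨χ, -, rfl⟩
      exact BrauerPairs.pRegularPart_classFunction (Char.irr_isClassFunction χ.2)
    · exact fun g h => rfl
    · intro a b _ _ h1 h2 g h; simp [h1 g h, h2 g h]
    · intro c a _ h1 g h; simp [h1 g h]
  have hf0 : ∀ g, p ∣ orderOf g → f g = 0 := by
    intro g hg
    refine Submodule.span_induction ?_ ?_ ?_ ?_ hf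
    · rintro _ ⟨χ, -, rfl⟩; simp [pRegularPart, IsPRegular, hg]
    · rfl
    · intro a b _ _ h1 h2; simp [h1, h2]
    · intro c a _ h1; simp [h1]
  set F : G → ℂ := fun g =>
    if Element.pPart p g ∈ Z then f (Element.pComplPart p g) else 0 with hF
  have hFc : IsClassFunction G F := by
    intro g x
    simp only [hF, (Element.pPart_conj hp.out x g).1, (Element.pPart_conj hp.out x g).2]
    refine if_ctx_congr ⟨fun h => ?_, fun h => (inferInstance : Z.Normal).conj_mem _ h x⟩
      (fun _ => hfc _ _) (fun _ => rfl)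
    simpa [mul_assoc] using (inferInstance : Z.Normal).conj_mem _ h x⁻¹
  have hFz : ∀ z ∈ Z, ∀ g, F (z * g) = F g := by
    intro z hz g
    obtain ⟨h1, h2⟩ := pPart_mul_of_mem (p := p) hZc hZp hz (z * g) rfl
    simp only [hF, h1, h2, Subgroup.mul_mem_cancel_left Z hz]
  have hone : ∀ y : G, ¬ p ∣ orderOf y → Element.pPart p y = 1 := by
    intro y hy
    rw [← orderOf_eq_one_iff, Element.orderOf_pPart_eq_pow hp.out,
      Nat.factorization_eq_zero_of_not_dvd hy, pow_zero]
  have hcompl : ∀ y : G, ¬ p ∣ orderOf y → Element.pComplPart p y = y := by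
    intro y hy
    have := Element.pPart_mul_pComplPart p y
    rwa [hone y hy, one_mul] at this
  have hval : ∀ y : G, ¬ p ∣ orderOf y → F y = f y := by
    intro y hy
    simp only [hF, hone y hy, if_pos Z.one_mem, hcompl y hy]
  have hzero : ∀ η : IrrCharacter G,
      (η ∉ B ∨ ¬ ∀ n ∈ Z, (η : G → ℂ) n = (η : G → ℂ) 1) → classInner F (η : G → ℂ) = 0 := by
    rintro η (hη | hη)
    · haveI := Fintype.ofFinite Z
      have hreg : regSum p f (η : G → ℂ) = 0 := by
        refine Submodule.span_induction ?_ ?_ ?_ ?_ hf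
        · rintro _ ⟨χ, hχ, rfl⟩
          rw [BlkChar.Contrib.regSum_pRegularPart_left]
          exact Brauer.regSum_eq_zero_of_integral hM B (blockCoeff_memLocalRing hB) hχ hη
        · simp [regSum]
        · intro a b _ _ h1 h2; rw [BlkChar.Contrib.regSum_add_left, h1, h2, add_zero]
        · intro c a _ h1; rw [BlkChar.Contrib.regSum_smul_left, h1, mul_zero]
      rw [classInner, ← Finset.sum_filter_add_sum_filter_not Finset.univ
          (fun g : G => Element.pPart p g ∈ Z),
        Finset.sum_eq_zero (s := Finset.univ.filter fun g : G => ¬ Element.pPart p g ∈ Z)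
          (fun g hg => by simp [hF, (Finset.mem_filter.1 hg).2]), add_zero,
        Brauer.sum_sections_eq Z (sup_centralizer_eq_top hZc) hp.out hZp,
        Finset.sum_eq_zero, mul_zero]
      intro z _
      obtain ⟨ω, -, -, hω⟩ := Char.irr_mul_center η.2 (hZc z.2)
      rw [Finset.sum_congr rfl fun y hy => by
        rw [hFz _ z.2, hval y (Finset.mem_filter.1 hy).2, hω, map_mul, mul_left_comm]]
      rw [← Finset.mul_sum]
      exact mul_eq_zero_of_right _ hreg
    · push Not at hη
      obtain ⟨z, hz, hne⟩ := hη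
      obtain ⟨ω, -, hω1, hω⟩ := Char.irr_mul_center η.2 (hZc hz)
      have h : classInner F (η : G → ℂ) = conj ω * classInner F (η : G → ℂ) := by
        rw [classInner, mul_left_comm, Finset.mul_sum]
        conv_lhs => rw [← Equiv.sum_comp (Equiv.mulLeft z)]
        simp only [Finset.mul_sum]
        refine Finset.sum_congr rfl fun g _ => ?_
        rw [Equiv.coe_mulLeft, hFz z hz, hω, map_mul]
        ring
      have hω' : conj ω ≠ 1 := by
        intro h1
        apply hne
        rw [hω1, show ω = 1 by simpa using congrArg conj h1, one_mul]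
      by_contra h0
      exact hω' (mul_left_eq_self₀.1 h.symm |>.resolve_right h0)
  have hexp : f = ∑ η : IrrCharacter G, classInner F (η : G → ℂ) • pRegularPart p (η : G → ℂ) := by
    funext y
    by_cases hy : p ∣ orderOf y
    · rw [hf0 y hy, Finset.sum_apply]
      symm
      exact Finset.sum_eq_zero fun η _ => by simp [pRegularPart, IsPRegular, hy]
    · rw [← hval y hy]
      conv_lhs => rw [Char.eq_sum_classInner_smul hFc]
      simp [pRegularPart, IsPRegular, hy]
  rw [hexp]
  refine Submodule.sum_mem _ fun η _ => ?_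
  by_cases h : η ∈ B ∧ ∀ n ∈ Z, (η : G → ℂ) n = (η : G → ℂ) 1
  · refine Submodule.smul_mem _ _ (Submodule.subset_span ⟨(Char.irrEquivQuotient Z).symm ⟨η, h.2⟩,
      ?_, ?_⟩)
    · show _ ∈ B
      rw [Equiv.apply_symm_apply]
      exact h.1
    · simp only [Equiv.apply_symm_apply]
  · rw [hzero η (not_and_or.1 h), zero_smul]
    exact Submodule.zero_mem _

theorem blockRank_le_card_quotBlock (hM : IsPModular p M) (hZc : Z ≤ Subgroup.center G)
    (hZp : IsPGroup p Z) {B : Set (IrrCharacter G)} (hB : IsPBlock M B) :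
    blockRank p B ≤ Nat.card (quotBlock Z B) := by
  haveI := Fintype.ofFinite (G ⧸ Z)
  refine (Submodule.finrank_mono (span_le_infl hM hZc hZp hB)).trans
    ((finrank_span_le_card _).trans ?_)
  rw [Set.toFinset_image, Nat.card_eq_fintype_card, ← Set.toFinset_card]
  exact Finset.card_image_le

/-- `|Z| / |G|` times the regular sum of a character with the lift of a generalized character of
the quotient vanishing on singular elements is an integer. -/
theorem exists_int_regSum_infl [Fintype (G ⧸ Z)] (hZc : Z ≤ Subgroup.center G)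
    (hZp : IsPGroup p Z) {ψ : G ⧸ Z → ℂ} (hψ : IsGeneralizedCharacter (G ⧸ Z) ψ)
    (hvan : ∀ q, p ∣ orderOf q → ψ q = 0) (ξ : IrrCharacter G) :
    ∃ n : ℤ, (Nat.card Z : ℂ) / (Nat.card G : ℂ) *
      regSum p (ξ : G → ℂ) (fun g : G => ψ g) = n := by
  have hψc := Char.isGeneralizedCharacter_isClassFunction hψ
  set Φ : G → ℂ := fun g => if p ∣ orderOf g then 0 else (Nat.card Z : ℂ) * ψ g with hΦ
  have hord : ∀ g h : G, orderOf (h * g * h⁻¹) = orderOf g := fun g h => by
    rw [← MulAut.conj_apply, MulEquiv.orderOf_eq]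
  have hΦc : IsClassFunction G Φ := fun g h => by
    simp only [hΦ, hord, QuotientGroup.mk_mul, QuotientGroup.mk_inv, hψc (g : G ⧸ Z) (h : G ⧸ Z)]
  have hgen : IsGeneralizedCharacter G Φ := by
    refine S0164.result Φ hΦc fun E q hq hE => ?_
    haveI := Char.isNilpotent_of_isElementary hq hE
    haveI := Fintype.ofFinite E
    obtain ⟨A, B, hB, hcard⟩ := Char.exists_pRegular_subgroup (E := E) p
    haveI := Fintype.ofFinite B
    haveI : (A : Subgroup E).Normal := inferInstance
    refine Char.isGeneralizedCharacter_iff_classInner_int.mpr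
      ⟨fun g h => hΦc (g : G) (h : G), fun η => ?_⟩
    -- the projection to the regular part
    set r : B →* E ⧸ (A : Subgroup E) :=
      (QuotientGroup.mk' (A : Subgroup E)).comp B.subtype with hr
    have hrbij : Function.Bijective r := by
      refine (Nat.bijective_iff_injective_and_card r).2 ⟨?_, ?_⟩
      · rw [injective_iff_map_eq_one]
        intro b hb
        have h1 : (b : E) ∈ (A : Subgroup E) := (QuotientGroup.eq_one_iff _).1 hb
        obtain ⟨i, hi⟩ := IsPGroup.iff_orderOf.mp A.isPGroup' ⟨b, h1⟩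
        rw [Subgroup.orderOf_mk] at hi
        rcases Nat.eq_zero_or_pos i with h0 | h0
        · rw [h0, pow_zero, orderOf_eq_one_iff] at hi
          exact Subtype.ext hi
        · exact absurd (hi ▸ dvd_pow_self p h0.ne') ((hB _).1 b.2)
      · rw [← Subgroup.index_eq_card]
        exact Nat.eq_of_mul_eq_mul_left Nat.card_pos (hcard.trans (Subgroup.card_mul_index _).symm)
    set π : E →* B :=
      (MulEquiv.ofBijective r hrbij).symm.toMonoidHom.comp (QuotientGroup.mk' (A : Subgroup E))
      with hπ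
    have hπB : ∀ b : B, π b = b := fun b =>
      (MulEquiv.ofBijective r hrbij).symm_apply_apply b
    have hπA : ∀ a ∈ (A : Subgroup E), π a = 1 := by
      intro a ha
      simp [hπ, (QuotientGroup.eq_one_iff a).2 ha]
    set θ : E → ℂ := (fun b : B => (η : E → ℂ) b) ∘ π with hθ
    have hθchar : IsCharacter E θ :=
      Char.isCharacter_comp (Char.isCharacter_restrict (Char.isCharacter_of_irr η.2) B) π
    obtain ⟨n, hn⟩ := Char.classInner_generalized_int
      (Char.isGeneralizedCharacter_comp hψ ((QuotientGroup.mk' Z).comp E.subtype))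
      (Char.isGeneralizedCharacter_of_isCharacter hθchar)
    set ZE : Subgroup E := Z.subgroupOf E with hZE
    haveI := Fintype.ofFinite ZE
    have hZEc : ZE ≤ Subgroup.center E := fun a ha => Subgroup.mem_center_iff.2 fun e =>
      Subtype.ext (Subgroup.mem_center_iff.1 (hZc (Subgroup.mem_subgroupOf.1 ha)) (e : G))
    have hZEp : IsPGroup p ZE := hZp.comap_of_injective E.subtype E.subtype_injective
    have hZEA : ∀ a ∈ ZE, a ∈ (A : Subgroup E) := by
      intro a ha
      obtain ⟨P, hP⟩ := hZEp.exists_le_sylow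
      haveI : Subsingleton (Sylow p E) := by
        haveI := Sylow.unique_of_normal A inferInstance
        infer_instance
      rw [Subsingleton.elim A P]
      exact hP ha
    set T : ℂ := ∑ y ∈ Finset.univ.filter (fun y : E => ¬ p ∣ orderOf y),
      ψ (((y : G) : G ⧸ Z)) * conj ((η : E → ℂ) y) with hT
    -- inner product with the inflated character
    have h1 : (Nat.card E : ℂ)⁻¹ * ((Nat.card ZE : ℂ) * T) = (n : ℂ) := by
      rw [← hn, classInner]
      congr 1
      rw [← Finset.sum_filter_add_sum_filter_not Finset.univ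
          (fun g : E => Element.pPart p g ∈ ZE),
        Finset.sum_eq_zero (s := Finset.univ.filter fun g : E => ¬ Element.pPart p g ∈ ZE)
          (fun g hg => ?_), add_zero,
        Brauer.sum_sections_eq ZE (sup_centralizer_eq_top hZEc) hp.out hZEp,
        Finset.sum_congr rfl (g := fun _ : ZE => T) (fun z _ => ?_), Finset.sum_const,
        Finset.card_univ, nsmul_eq_mul, Nat.card_eq_fintype_card]
      · refine Finset.sum_congr rfl fun y hy => ?_
        have hyB : y ∈ B := (hB y).2 (Finset.mem_filter.1 hy).2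
        congr 1
        · show ψ (((z : E) * y : E) : G ⧸ Z) = _
          rw [Subgroup.coe_mul, QuotientGroup.mk_mul,
            (QuotientGroup.eq_one_iff _).2 (Subgroup.mem_subgroupOf.1 z.2), one_mul]
        · rw [hθ, Function.comp_apply, map_mul, hπA _ (hZEA _ z.2), one_mul,
            show π y = (⟨y, hyB⟩ : B) from hπB ⟨y, hyB⟩]
      · show ψ ((g : G) : G ⧸ Z) * _ = 0
        rw [hvan _ ?_, zero_mul]
        by_contra hreg
        refine (Finset.mem_filter.1 hg).2 ?_
        rw [hZE, Subgroup.mem_subgroupOf]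
        rw [show ((Element.pPart p g : E) : G) = Element.pPart p (g : G) from
          (Element.map_pPart hp.out E.subtype g).1]
        exact pPart_mem_of_regular hreg
    have hreg : classInner (fun e : E => Φ e) (η : E → ℂ) =
        (Nat.card E : ℂ)⁻¹ * ((Nat.card Z : ℂ) * T) := by
      rw [classInner, hT, Finset.mul_sum, Finset.sum_filter]
      simp only [Finset.mul_sum]
      refine Finset.sum_congr rfl fun e _ => ?_
      simp only [hΦ, Subgroup.orderOf_coe]
      split_ifs <;> ring
    obtain ⟨c, hc⟩ : Nat.card ZE ∣ Nat.card Z := by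
      rw [← Subgroup.card_map_of_injective (K := ZE) E.subtype_injective]
      exact Subgroup.card_dvd_of_le (by rw [hZE, Subgroup.subgroupOf_map_subtype]; exact inf_le_left)
    refine ⟨(c : ℤ) * n, ?_⟩
    rw [hreg, hc]
    push_cast
    linear_combination (c : ℂ) * h1
  obtain ⟨n, hn⟩ := Char.classInner_generalized_int hgen
    (Char.isGeneralizedCharacter_of_isCharacter (Char.isCharacter_of_irr ξ.2))
  refine ⟨n, ?_⟩
  have h := congrArg conj hn
  rw [map_intCast, classInner] at h
  rw [← h, regSum, Finset.sum_filter, Finset.mul_sum, map_mul, map_inv₀, map_natCast, map_sum,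
    Finset.mul_sum]
  refine Finset.sum_congr rfl fun g _ => ?_
  simp only [hΦ]
  split_ifs <;> simp [Complex.conj_natCast]
  ring

end Cfsg.Agent.BlockCount
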