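import Cfsg.Agent.BlockCount.DefectOneForm
import Cfsg.Agent.BlockCount.CentralQuotient
import Cfsg.Agent.BlkChar.RankBound
import Cfsg.Agent.BlkChar.ContribBounds
import Cfsg.Agent.BlockHeight.MajorPairs
import Cfsg.Agent.S4494
import Cfsg.Agent.S4710

/-!
The bound on the number of irreducible characters in a block of given defect.
-/

set_option autoImplicit false
set_option linter.style.haveILetI false
set_option linter.unusedSectionVars false
set_option maxHeartbeats 800000

namespace Cfsg.Agent.BlockCount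

open Cfsg
open Cfsg.Agent.Block Cfsg.Agent.BlkChar.Contrib
open scoped ComplexConjugate Classical
open Cfsg.Agent.Brauer (regSum)

universe u

variable {p : ℕ} [hp : Fact p.Prime] {M : Ideal AlgInt}

/-- A major subsection at a central element of prime order of a defect group. -/
theorem exists_major {G : Type u} [Group G] [Fintype G] (hM : IsPModular p M)
    {B : Set (IrrCharacter G)} (hB : IsPBlock M B) (hd : blockDefect p B ≠ 0) :
    ∃ (z : G) (C : Subgroup G) (Z : Subgroup C) (b : Set (IrrCharacter C)),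
      Z.Normal ∧ Z ≤ Subgroup.center C ∧ IsPGroup p Z ∧ Nat.card Z = p ∧
        IsSection p 1 z C ∧ IsInducedBlock M C b B ∧
        blockDefect p b = blockDefect p B := by
  haveI : M.IsPrime := isPrime_of_isPModular hM
  haveI := Block.charP_resF (M := M) hM
  obtain ⟨D, hD⟩ := exists_isDefectGroup (p := p) (M := M) hB
  have hDp : IsPGroup p D := isDefectGroup_isPGroup hD
  have hcard : Nat.card D = p ^ blockDefect p B := Block.card_isDefectGroup hM hB hD
  haveI : Nontrivial D := by
    rw [← Finite.one_lt_card_iff_nontrivial, hcard]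
    exact Nat.one_lt_pow hd hp.out.one_lt
  haveI := hDp.center_nontrivial
  obtain ⟨n, hn⟩ := (hDp.to_subgroup (Subgroup.center D)).exists_card_eq
  have hpdvd : p ∣ Nat.card (Subgroup.center D) := by
    rw [hn]
    refine dvd_pow_self p fun h0 => ?_
    have h1 := Finite.one_lt_card (α := Subgroup.center D)
    rw [hn, h0, pow_zero] at h1
    exact lt_irrefl _ h1
  obtain ⟨z₀, hz₀⟩ := exists_prime_orderOf_dvd_card' p hpdvd
  set z : G := ((z₀ : D) : G) with hz
  have hord : orderOf z = p := by rw [hz, Subgroup.orderOf_coe, Subgroup.orderOf_coe, hz₀]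
  have hzc : ∀ x ∈ D, x * z = z * x := fun x hx =>
    congrArg Subtype.val (Subgroup.mem_center_iff.1 z₀.2 ⟨x, hx⟩)
  set BB : BrauerPairs.Blk M G := ⟨B, hB⟩
  have hdef : BrauerPairs.IsDef (BrauerPairs.blockSysTop M) p BB D :=
    BrauerPairs.isDef_of_isDefectGroup hD
  obtain ⟨c, hm⟩ := BrauerPairs.exists_maxPair_of_isDef
    (ι := fun P => BrauerPairs.Blk M (Subgroup.centralizer (P : Set G)))
    (S := BrauerPairs.pairSys M G) hdef
  obtain ⟨f, hf, -⟩ := BrauerPairs.existsUnique_sle (S := BrauerPairs.pairSys M G)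
    (b := (⟨D, c⟩ : BrauerPairs.PairIdx M G)) (Q := Subgroup.zpowers z) hDp
    (Subgroup.zpowers_le.2 (z₀ : D).2)
  obtain ⟨h1, h2⟩ := BlockHeight.isDefIn_conj (g := 1) hm hzc hf (u := z) (β := f)
    ⟨by ext x; simp, (BrauerPairs.cj_one _).symm⟩
  have hle : Subgroup.zpowers z ≤ Subgroup.centralizer (Subgroup.zpowers z : Set G) :=
    Subgroup.zpowers_le.2 (BlockHeight.mem_centralizer_zpowers.2 rfl)
  have hZcard : Nat.card ((Subgroup.zpowers z).subgroupOf
      (Subgroup.centralizer (Subgroup.zpowers z : Set G))) = p := by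
    rw [Nat.card_congr (Subgroup.subgroupOfEquivOfLe hle).toEquiv, Nat.card_zpowers, hord]
  have hZc : (Subgroup.zpowers z).subgroupOf (Subgroup.centralizer (Subgroup.zpowers z : Set G)) ≤
      Subgroup.center (Subgroup.centralizer (Subgroup.zpowers z : Set G)) := fun a ha =>
    Subgroup.mem_center_iff.2 fun g => Subtype.ext
      (Subgroup.mem_centralizer_iff.1 g.2 a (Subgroup.mem_subgroupOf.1 ha)).symm
  refine ⟨z, Subgroup.centralizer (Subgroup.zpowers z : Set G),
    (Subgroup.zpowers z).subgroupOf (Subgroup.centralizer (Subgroup.zpowers z : Set G)), f.1,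
    ⟨fun n hn g => by rwa [Subgroup.mem_center_iff.1 (hZc hn) g, mul_inv_cancel_right]⟩, hZc,
    IsPGroup.of_card (n := 1) (by rw [hZcard, pow_one]), hZcard,
    ⟨fun g => BlockHeight.mem_centralizer_zpowers, ?_⟩,
    (BlockCover.isInducedBlock_iff_pairOf h2.1 f BB).2 h2,
    BlockHeight.blockDefect_eq_of_isDefIn hM hm (g := 1) h1⟩
  rw [pow_one, ← hord, pow_orderOf_eq_one]

/-- A block of defect two has at most `p ^ 2` members. -/
theorem card_le_of_defect_two {G : Type u} [Group G] [Fintype G] (hM : IsPModular p M)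
    {B : Set (IrrCharacter G)} (hB : IsPBlock M B) (hd : blockDefect p B = 2) :
    Nat.card B ≤ p ^ 2 := by
  haveI : M.IsPrime := isPrime_of_isPModular hM
  obtain ⟨z, C, Z, b, hZn, hZc, hZp, hZcard, hS, hind, hbd⟩ := exists_major hM hB (by omega)
  haveI := hZn
  haveI := Fintype.ofFinite C
  haveI := Fintype.ofFinite (C ⧸ Z)
  set β := quotBlock Z b
  have hβ : IsPBlock M β := isPBlock_quotBlock hM hZc hZp hind.1
  have hβd : blockDefect p β = 1 := by
    have h := blockDefect_quotBlock hM hZc hZp hind.1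
    rw [hZcard, hp.out.factorization_self, hbd, hd] at h
    show blockDefect p (quotBlock Z b) = 1
    omega
  obtain ⟨N, w, c, hc, hvan, hsep, hcost⟩ := exists_defectOne_functionals hM hβ hβd
  set T := Finset.univ.filter (· ∈ β) with hT
  set ψ : Fin N → C ⧸ Z → ℂ := fun r => ∑ φ ∈ T, (w r φ : ℂ) • (φ : C ⧸ Z → ℂ) with hψ
  set g : Fin N → C → ℂ := fun r => ∑ φ ∈ T, (w r φ : ℂ) •
    pRegularPart p ((Char.irrEquivQuotient Z φ : IrrCharacter C) : C → ℂ) with hg
  have hgψ : ∀ r, g r = pRegularPart p (fun y : C => ψ r (y : C ⧸ Z)) := by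
    intro r
    funext y
    simp only [hg, hψ, Finset.sum_apply, Pi.smul_apply, smul_eq_mul, pRegularPart, IsPRegular]
    by_cases h : p ∣ orderOf y <;> simp [h, Char.irrEquivQuotient_apply]
  have hψv : ∀ r q, p ∣ orderOf q → ψ r q = 0 := by
    intro r q hq
    simp only [hψ, Finset.sum_apply, Pi.smul_apply, smul_eq_mul]
    exact hvan r q hq
  have hψg : ∀ r, IsGeneralizedCharacter (C ⧸ Z) (ψ r) := by
    intro r
    refine CharInd.genChar_sum T fun φ _ => ?_
    exact CharInd.genChar_zsmul (CharInd.genChar_irr φ.2) _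
  have hψn : ∀ r, regSum p (ψ r) (ψ r) =
      (Nat.card (C ⧸ Z) : ℂ) * ((∑ φ ∈ T, (w r φ : ℝ) ^ 2 : ℝ) : ℂ) := by
    intro r
    have e : regSum p (ψ r) (ψ r) = ∑ q, ψ r q * conj (ψ r q) := by
      rw [regSum]
      refine Finset.sum_filter_of_ne fun q _ hne hq => hne ?_
      rw [hψv r q hq, zero_mul]
    rw [e, Char.sum_mul_conj_eq_card_mul_classInner]
    congr 1
    simp only [hψ, CharInd.classInner_sum_left, Char.classInner_smul_left,
      CharInd.classInner_sum_right, Char.classInner_smul_right, map_intCast,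
      Char.classInner_irrCharacter, mul_ite, mul_one, mul_zero, Finset.sum_ite_eq']
    push_cast
    refine Finset.sum_congr rfl fun φ hφ => ?_
    rw [if_pos hφ]
    ring
  have hC0 : (Nat.card C : ℂ) ≠ 0 := Nat.cast_ne_zero.2 Nat.card_pos.ne'
  have hp0 : (p : ℂ) ≠ 0 := Nat.cast_ne_zero.2 hp.out.ne_zero
  have key := card_le_weight hS hM hind hbd g (fun r => Submodule.sum_mem _ fun φ hφ =>
      Submodule.smul_mem _ _ (Submodule.subset_span
        ⟨(Char.irrEquivQuotient Z φ : IrrCharacter C), (Finset.mem_filter.1 hφ).2, rfl⟩))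
    ((p : ℂ) / (Nat.card C : ℂ)) (div_ne_zero hp0 hC0) c hc
    (fun r ξ _ => by
      obtain ⟨n, hn⟩ := exists_int_regSum_infl hZc hZp (hψg r) (hψv r) ξ
      rw [hZcard] at hn
      exact ⟨n, by rw [hgψ, regSum_pRegularPart_right]; exact hn⟩)
    (fun f hf hf0 => by
      -- the coefficients of `f` on the quotient
      obtain ⟨a, ha⟩ : ∃ a : IrrCharacter (C ⧸ Z) → ℂ, f = pRegularPart p
          (fun y : C => ∑ φ ∈ T, a φ * (φ : C ⧸ Z → ℂ) (y : C ⧸ Z)) := by
        refine Submodule.span_induction ?_ ?_ ?_ ?_ (span_le_infl hM hZc hZp hind.1 hf)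
        · rintro _ ⟨φ₀, hφ₀, rfl⟩
          refine ⟨fun φ => if φ = φ₀ then 1 else 0, funext fun y => ?_⟩
          have hmem : φ₀ ∈ T := Finset.mem_filter.2 ⟨Finset.mem_univ _, hφ₀⟩
          simp [pRegularPart, Char.irrEquivQuotient_apply, hmem]
        · exact ⟨0, funext fun y => by simp [pRegularPart]⟩
        · rintro _ _ _ _ ⟨a, rfl⟩ ⟨a', rfl⟩
          refine ⟨a + a', funext fun y => ?_⟩
          simp only [Pi.add_apply, pRegularPart, add_mul, Finset.sum_add_distrib]
          split_ifs <;> simp
        · rintro t _ _ ⟨a, rfl⟩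
          refine ⟨t • a, funext fun y => ?_⟩
          simp only [Pi.smul_apply, smul_eq_mul, pRegularPart, mul_assoc, ← Finset.mul_sum]
          split_ifs <;> simp
      set F : C ⧸ Z → ℂ := fun q => ∑ φ ∈ T, a φ * (φ : C ⧸ Z → ℂ) q with hF
      have hFc : IsClassFunction (C ⧸ Z) F := fun q h => by
        simp only [hF, Char.irr_isClassFunction (Subtype.prop _) q h]
      set v : IrrCharacter (C ⧸ Z) → ℂ := fun φ =>
        classInner (pRegularPart p F) (φ : C ⧸ Z → ℂ) with hv
      have hL : ∀ φ : IrrCharacter (C ⧸ Z),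
          regSum p f ((Char.irrEquivQuotient Z φ : IrrCharacter C) : C → ℂ) =
            (Nat.card (C ⧸ Z) : ℂ) * v φ := by
        intro φ
        simp only [hv]
        rw [BrauerPairs.classInner_pRegularPart,
          mul_div_cancel₀ _ (Nat.cast_ne_zero.2 Nat.card_pos.ne'), ha, regSum_pRegularPart_left]
        exact regSum_comp_mk hZc hZp F (φ : C ⧸ Z → ℂ)
      have hv0 : ∀ φ, φ ∉ β → v φ = 0 := by
        intro φ hφ
        have e : regSum p F (φ : C ⧸ Z → ℂ) =
            ∑ φ' ∈ T, a φ' * regSum p (φ' : C ⧸ Z → ℂ) (φ : C ⧸ Z → ℂ) := by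
          simp only [hF, regSum, Finset.sum_mul, Finset.mul_sum]
          rw [Finset.sum_comm]
          exact Finset.sum_congr rfl fun _ _ => Finset.sum_congr rfl fun _ _ => by ring
        simp only [hv]
        rw [BrauerPairs.classInner_pRegularPart, e, Finset.sum_eq_zero, zero_div]
        intro φ' hφ'
        rw [Brauer.regSum_eq_zero_of_integral hM β (blockCoeff_memLocalRing hβ)
          (Finset.mem_filter.1 hφ').2 hφ, mul_zero]
      have hexp : ∀ q, pRegularPart p F q = ∑ φ ∈ T, v φ * (φ : C ⧸ Z → ℂ) q := by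
        intro q
        conv_lhs => rw [Char.eq_sum_classInner_smul (BrauerPairs.pRegularPart_classFunction hFc)]
        rw [Finset.sum_apply, hT, Finset.sum_filter_of_ne]
        · rfl
        · intro φ _ hne
          by_contra h
          exact hne (by rw [hv0 φ h, zero_mul])
      refine (hsep (fun φ => regSum p f
        ((Char.irrEquivQuotient Z φ : IrrCharacter C) : C → ℂ)) ⟨fun φ => conj (v φ), ?_, ?_⟩).trans
        (le_of_eq (Finset.sum_congr (Finset.filter_congr fun r _ => ?_) fun _ _ => rfl))
      · intro q hq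
        have h1 : pRegularPart p F q⁻¹ = 0 := by
          simp [pRegularPart, IsPRegular, orderOf_inv, hq]
        rw [hexp] at h1
        have h2 := congrArg conj h1
        rw [map_sum, map_zero] at h2
        rw [← h2]
        refine Finset.sum_congr rfl fun φ _ => ?_
        rw [map_mul, Char.irr_inv φ.2, Complex.conj_conj]
      · simp only [hL]
        intro h0
        apply hf0
        have h1 : ∑ φ ∈ T, Complex.normSq (v φ) = 0 := by
          rw [← Complex.ofReal_eq_zero, Complex.ofReal_sum]
          refine mul_left_cancel₀ (Nat.cast_ne_zero.2 (Nat.card_pos (α := C ⧸ Z)).ne') ?_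
          rw [mul_zero, ← h0, Finset.mul_sum]
          exact Finset.sum_congr rfl fun φ _ => by rw [← Complex.mul_conj]; ring
        rw [Finset.sum_eq_zero_iff_of_nonneg fun φ _ => Complex.normSq_nonneg _] at h1
        have hF0 : ∀ q, pRegularPart p F q = 0 := fun q => by
          rw [hexp]
          exact Finset.sum_eq_zero fun φ hφ => by
            rw [Complex.normSq_eq_zero.1 (h1 φ hφ), zero_mul]
        rw [ha]
        funext y
        by_cases hy : p ∣ orderOf y
        · simp [pRegularPart, IsPRegular, hy]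
        · have h2 := hF0 (y : C ⧸ Z)
          simp only [pRegularPart, IsPRegular, not_dvd_orderOf_mk hy, not_false_eq_true,
            if_true] at h2
          simp only [pRegularPart, IsPRegular, hy, not_false_eq_true, if_true, Pi.zero_apply]
          exact h2
      · have e : regSum p f (g r) = ∑ φ ∈ T, (w r φ : ℂ) *
            regSum p f ((Char.irrEquivQuotient Z φ : IrrCharacter C) : C → ℂ) := by
          simp only [hg, regSum_sum_right, regSum_smul_right, map_intCast,
            regSum_pRegularPart_right]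
        rw [e])
  have hterm : ∀ r, Complex.normSq ((p : ℂ) / (Nat.card C : ℂ)) * (Nat.card C : ℝ) *
      (regSum p (g r) (g r)).re = (p : ℝ) * ∑ φ ∈ T, (w r φ : ℝ) ^ 2 := by
    intro r
    rw [hgψ, regSum_pRegularPart_left, regSum_pRegularPart_right, regSum_comp_mk hZc hZp, hψn,
      ← Complex.ofReal_natCast (Nat.card (C ⧸ Z)), ← Complex.ofReal_mul, Complex.ofReal_re,
      map_div₀, Complex.normSq_natCast, Complex.normSq_natCast]
    have hcc : (Nat.card C : ℝ) = (p : ℝ) * (Nat.card (C ⧸ Z) : ℝ) := by
      rw [← Nat.cast_mul, ← hZcard, ← Subgroup.index_eq_card, Subgroup.card_mul_index]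
    have hne : (Nat.card (C ⧸ Z) : ℝ) ≠ 0 := Nat.cast_ne_zero.2 Nat.card_pos.ne'
    have hp' : (p : ℝ) ≠ 0 := Nat.cast_ne_zero.2 hp.out.ne_zero
    rw [hcc]
    field_simp
  have h2 : (Nat.card B : ℝ) ≤ ((p ^ 2 : ℕ) : ℝ) := by
    refine key.trans ?_
    rw [Finset.sum_congr rfl fun r _ => by rw [hterm r, mul_left_comm], ← Finset.mul_sum]
    push_cast
    rw [pow_two]
    exact mul_le_mul_of_nonneg_left hcost (Nat.cast_nonneg p)
  exact_mod_cast h2

/-- The bound for every defect. -/
theorem card_le_bound (hM : IsPModular p M) (d : ℕ) :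
    ∀ {G : Type u} [Group G] [Fintype G] {B : Set (IrrCharacter G)}, IsPBlock M B →
      blockDefect p B = d →
      (d ≤ 2 → Nat.card B ≤ p ^ d) ∧ (3 ≤ d → Nat.card B ≤ p ^ (2 * d - 2)) := by
  induction d using Nat.strong_induction_on with
  | _ d ih =>
  intro G _ _ B hB hd
  refine ⟨fun h2 => ?_, fun h3 => ?_⟩
  · rcases (show d = 0 ∨ d = 1 ∨ d = 2 by omega) with rfl | rfl | rfl
    · have h := S4494.result p M hM B hB
      rw [hd] at h
      simp only [mul_zero, pow_zero] at h ⊢
      omega
    · obtain ⟨z, C, Z, b, hZn, hZc, hZp, hZcard, hS, hind, hbd⟩ := exists_major hM hB (by omega)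
      haveI := hZn
      haveI := Fintype.ofFinite C
      have hq := blockDefect_quotBlock hM hZc hZp hind.1
      rw [hZcard, hp.out.factorization_self, hbd, hd] at hq
      have h := S4494.result p M hM (quotBlock Z b) (isPBlock_quotBlock hM hZc hZp hind.1)
      rw [show blockDefect p (quotBlock Z b) = 0 by omega] at h
      have hl := blockRank_le_card_quotBlock hM hZc hZp hind.1
      simp only [mul_zero, pow_zero] at h
      have := BlkChar.RankTwo.card_le_pow_defect hS hM hind hbd (by omega)
      rwa [hd] at this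
    · exact card_le_of_defect_two hM hB hd
  · by_cases hh : ∃ χ ∈ B, 0 < blockHeight p B (χ : G → ℂ)
    · have h := (S4710.result p M hM B hB d hd).1 hh
      omega
    · push Not at hh
      obtain ⟨z, C, Z, b, hZn, hZc, hZp, hZcard, hS, hind, hbd⟩ := exists_major hM hB (by omega)
      haveI := hZn
      haveI := Fintype.ofFinite C
      haveI := Fintype.ofFinite (C ⧸ Z)
      have hq := blockDefect_quotBlock hM hZc hZp hind.1
      rw [hZcard, hp.out.factorization_self, hbd, hd] at hq
      have hl := blockRank_le_card_quotBlock hM hZc hZp hind.1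
      obtain ⟨i1, i2⟩ := ih (d - 1) (by omega) (G := C ⧸ Z)
        (isPBlock_quotBlock hM hZc hZp hind.1) (by omega)
      have hk : blockRank p b ≤ p ^ (2 * d - 4) := by
        refine hl.trans ?_
        rcases (show d = 3 ∨ 4 ≤ d by omega) with rfl | h4
        · exact i1 (by omega)
        · refine (i2 (by omega)).trans (le_of_eq ?_)
          congr 1
          omega
      have hzero : Nat.card B = (heightZero p B).card := by
        rw [← card_heightZero]
        exact Nat.card_congr (Equiv.subtypeEquivRight fun χ =>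
          ⟨fun h => ⟨h, Nat.le_zero.1 (hh χ h)⟩, fun h => h.1⟩)
      have hsq := sq_card_heightZero_le hS hM hind
      rw [hbd, hd, ← hzero] at hsq
      have h4 : Nat.card B ^ 2 ≤ (p ^ (2 * d - 2)) ^ 2 := by
        refine hsq.trans ((Nat.mul_le_mul_left _ hk).trans (le_of_eq ?_))
        rw [← pow_add, ← pow_mul]
        congr 1
        omega
      exact (Nat.pow_le_pow_iff_left two_ne_zero).1 h4

end Cfsg.Agent.BlockCount
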