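import Mathlib

/-!
Integer matrices with Gram matrix `1 + e J` and the integral functionals orthogonal to their
columns: a weighted separating family of total norm at most `e m + 1`.
-/

set_option autoImplicit false
set_option linter.unusedSectionVars false
set_option linter.style.haveILetI false
set_option maxHeartbeats 1000000

namespace Cfsg.Agent.BlockCount

open scoped Classical

universe u w

variable {X : Type u} [Fintype X] {ι : Type w} [Fintype ι]

/-- The vectors with both `i` and `l` differing. -/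
theorem gram_diff {a : X → ι → ℤ} {e : ℤ}
    (hgram : ∀ i l, ∑ x, a x i * a x l = (if i = l then 1 else 0) + e) {i l : ι} (h : i ≠ l) :
    (∀ x, (a x i - a x l) ^ 2 ≤ 1) ∧
      (Finset.univ.filter fun x => a x i ≠ a x l).card = 2 ∧
      ∑ x ∈ Finset.univ.filter (fun x => a x i ≠ a x l), (a x i ^ 2 - a x l ^ 2) = 0 := by
  have h1 := hgram i i
  have h2 := hgram l l
  have h3 := hgram i l
  rw [if_pos rfl] at h1 h2
  rw [if_neg h] at h3
  have hsum : ∑ x, (a x i - a x l) ^ 2 = 2 := by
    simp only [sub_sq, Finset.sum_add_distrib, Finset.sum_sub_distrib, mul_assoc,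
      ← Finset.mul_sum]
    simp only [pow_two]
    rw [h1, h2, h3]
    ring
  have hle : ∀ x, (a x i - a x l) ^ 2 ≤ 1 := by
    intro x
    have h4 : (a x i - a x l) ^ 2 ≤ 2 :=
      (Finset.single_le_sum (f := fun x => (a x i - a x l) ^ 2) (fun x _ => sq_nonneg _)
        (Finset.mem_univ x)).trans_eq hsum
    by_contra hc
    have h5 : (a x i - a x l) ^ 2 = 2 := by omega
    have h6 : -1 ≤ a x i - a x l ∧ a x i - a x l ≤ 1 := by
      constructor <;> nlinarith
    rcases (show a x i - a x l = -1 ∨ a x i - a x l = 0 ∨ a x i - a x l = 1 by omega) with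
      h | h | h <;> rw [h] at h5 <;> norm_num at h5
  refine ⟨hle, ?_, ?_⟩
  · have : ∑ x, (a x i - a x l) ^ 2 = ∑ x, if a x i ≠ a x l then (1 : ℤ) else 0 := by
      refine Finset.sum_congr rfl fun x _ => ?_
      by_cases hx : a x i = a x l
      · rw [if_neg (not_not.2 hx), hx, sub_self]; rfl
      · rw [if_pos hx]
        refine le_antisymm (hle x) ?_
        have : 0 < (a x i - a x l) ^ 2 := lt_of_le_of_ne (sq_nonneg _)
          (Ne.symm (pow_ne_zero 2 (sub_ne_zero.2 hx)))
        omega
    rw [hsum, ← Finset.sum_filter, Finset.sum_const, nsmul_eq_mul, mul_one] at this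
    exact_mod_cast this.symm
  · rw [Finset.sum_filter_of_ne (p := fun x => a x i ≠ a x l)
      (fun x _ hx heq => hx (by rw [heq, sub_self]))]
    simp only [Finset.sum_sub_distrib, pow_two]
    rw [h1, h2, sub_self]

/-- In a triple exactly one vector separates the first from the other two. -/
theorem existsUnique_triple {a : X → ι → ℤ} {e : ℤ}
    (hgram : ∀ i l, ∑ x, a x i * a x l = (if i = l then 1 else 0) + e) {i j l : ι}
    (hij : i ≠ j) (hil : i ≠ l) (hjl : j ≠ l) :
    ∃! x, a x i ≠ a x j ∧ a x i ≠ a x l := by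
  obtain ⟨b1, c1, -⟩ := gram_diff hgram hij
  obtain ⟨b2, c2, -⟩ := gram_diff hgram hil
  obtain ⟨b3, c3, -⟩ := gram_diff hgram hjl
  set S := Finset.univ.filter fun x => a x i ≠ a x j
  set T := Finset.univ.filter fun x => a x i ≠ a x l
  have hR : (Finset.univ.filter fun x => a x j ≠ a x l) = (S ∪ T) \ (S ∩ T) := by
    ext x
    have d1 : -1 ≤ a x i - a x j ∧ a x i - a x j ≤ 1 := abs_le.1 (abs_le_one_iff_mul_self_le_one.2
      (by rw [← pow_two]; exact b1 x))
    have d2 : -1 ≤ a x i - a x l ∧ a x i - a x l ≤ 1 := abs_le.1 (abs_le_one_iff_mul_self_le_one.2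
      (by rw [← pow_two]; exact b2 x))
    have d3 : -1 ≤ a x j - a x l ∧ a x j - a x l ≤ 1 := abs_le.1 (abs_le_one_iff_mul_self_le_one.2
      (by rw [← pow_two]; exact b3 x))
    simp only [S, T, Finset.mem_filter, Finset.mem_univ, true_and, Finset.mem_sdiff,
      Finset.mem_union, Finset.mem_inter]
    omega
  have h4 := Finset.card_sdiff_add_card_eq_card (Finset.inter_subset_union (s := S) (t := T))
  have h5 := Finset.card_union_add_card_inter S T
  rw [← hR] at h4
  have h6 : (S ∩ T).card = 1 := by omega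
  obtain ⟨x, hx⟩ := Finset.card_eq_one.1 h6
  refine ⟨x, ?_, fun y hy => ?_⟩
  · have := Finset.mem_singleton_self x
    rw [← hx] at this
    simpa [S, T] using this
  · have : y ∈ S ∩ T := by simpa [S, T] using hy
    rw [hx] at this
    exact Finset.mem_singleton.1 this

/-- No vector splits four indices two against two. -/
theorem no_two_two {a : X → ι → ℤ} {e : ℤ}
    (hgram : ∀ i l, ∑ x, a x i * a x l = (if i = l then 1 else 0) + e) {i j l n : ι} {r : X}
    (hij : i ≠ j) (hln : l ≠ n) (h1 : a r i = a r j) (h2 : a r i ≠ a r l) (h3 : a r i ≠ a r n) :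
    False := by
  have hil : i ≠ l := fun h => h2 (by rw [h])
  have hin : i ≠ n := fun h => h3 (by rw [h])
  have hjl : j ≠ l := fun h => h2 (by rw [h1, h])
  have hjn : j ≠ n := fun h => h3 (by rw [h1, h])
  obtain ⟨r2, ⟨p1, p2⟩, -⟩ := existsUnique_triple hgram hij hil hjl
  obtain ⟨r3, ⟨q1, q2⟩, -⟩ := existsUnique_triple hgram hij.symm hjl hil
  have n2 : r ≠ r2 := fun h => p1 (h ▸ h1)
  have n3 : r ≠ r3 := fun h => q1 (h ▸ h1.symm)
  -- the values of the two other vectors at `n`
  have e2 : a r2 i = a r2 n := by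
    by_contra hne
    exact n2 ((existsUnique_triple hgram hil hin hln).unique ⟨h2, h3⟩ ⟨p2, hne⟩)
  have e3 : a r3 j = a r3 n := by
    by_contra hne
    exact n3 ((existsUnique_triple hgram hjl hjn hln).unique ⟨h1 ▸ h2, h1 ▸ h3⟩ ⟨q2, hne⟩)
  have bd : ∀ {i l : ι}, i ≠ l → ∀ x, -1 ≤ a x i - a x l ∧ a x i - a x l ≤ 1 := fun h x =>
    abs_le.1 (abs_le_one_iff_mul_self_le_one.2 (by rw [← pow_two]; exact (gram_diff hgram h).1 x))
  have d2 : a r2 j = a r2 l := by
    have := bd hij r2; have := bd hil r2; have := bd hjl r2; omega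
  have d3 : a r3 i = a r3 l := by
    have := bd hij r3; have := bd hil r3; have := bd hjl r3; omega
  have n23 : r2 ≠ r3 := fun h => p2 (h ▸ d3)
  have pair : ∀ {i l : ι} {x y : X}, i ≠ l → x ≠ y → a x i ≠ a x l → a y i ≠ a y l →
      a x i ^ 2 - a x l ^ 2 + (a y i ^ 2 - a y l ^ 2) = 0 := by
    intro i l x y h hxy hx hy
    obtain ⟨-, c, s⟩ := gram_diff hgram h
    have : (Finset.univ.filter fun x => a x i ≠ a x l) = {x, y} := by
      refine (Finset.eq_of_subset_of_card_le (fun z hz => ?_) ?_).symm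
      · simp only [Finset.mem_insert, Finset.mem_singleton] at hz
        simp only [Finset.mem_filter, Finset.mem_univ, true_and]
        rcases hz with rfl | rfl <;> assumption
      · rw [c, Finset.card_pair hxy]
    rwa [this, Finset.sum_pair hxy] at s
  have E1 := pair hij n23 p1 q1.symm
  have E2 := pair hil n2 h2 p2
  have E3 := pair hin n3 h3 (by rw [d3, ← e3]; exact q2.symm)
  rw [d2] at E1
  rw [d3] at E1
  rw [d3, ← e3] at E3
  have hrn : a r n = a r l := by
    have := bd hil r; have := bd hin r; have := bd hln r; omega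
  rw [hrn] at E3
  have h0 : a r i ^ 2 = a r l ^ 2 := by linarith
  rcases sq_eq_sq_iff_eq_or_eq_neg.1 h0 with h | h
  · exact h2 h
  · have := bd hil r
    omega

/-- The special vectors. -/
theorem exists_special {a : X → ι → ℤ} {e : ℤ}
    (hgram : ∀ i l, ∑ x, a x i * a x l = (if i = l then 1 else 0) + e)
    (hcard : 2 ≤ Fintype.card ι) :
    ∃ y : ι → X, Function.Injective y ∧
      ∀ {i l : ι}, i ≠ l → ∀ x, a x i ≠ a x l ↔ x = y i ∨ x = y l := by
  suffices h : ∃ y : ι → X, Function.Injective y ∧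
      ∀ {i l : ι}, i ≠ l → a (y i) i ≠ a (y i) l by
    obtain ⟨y, hy, hne⟩ := h
    refine ⟨y, hy, fun {i l} hil x => ?_⟩
    obtain ⟨-, c, -⟩ := gram_diff hgram hil
    have : (Finset.univ.filter fun x => a x i ≠ a x l) = {y i, y l} := by
      refine (Finset.eq_of_subset_of_card_le (fun z hz => ?_) ?_).symm
      · simp only [Finset.mem_insert, Finset.mem_singleton] at hz
        simp only [Finset.mem_filter, Finset.mem_univ, true_and]
        rcases hz with rfl | rfl
        · exact hne hil
        · exact (hne hil.symm).symm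
      · rw [c, Finset.card_pair (hy.ne hil)]
    rw [← show x ∈ ({y i, y l} : Finset X) ↔ x = y i ∨ x = y l by simp, ← this]
    simp
  rcases hcard.lt_or_eq with h3 | h2
  · -- three or more
    have hs : ∀ i, ∃ x, ∀ l, i ≠ l → a x i ≠ a x l := by
      intro i
      obtain ⟨j, hj⟩ : ∃ j, j ≠ i := Fintype.exists_ne_of_one_lt_card (by omega) i
      obtain ⟨l, hl⟩ : ((Finset.univ.erase i).erase j).Nonempty := by
        rw [← Finset.card_pos, Finset.card_erase_of_mem (by simp [hj]),
          Finset.card_erase_of_mem (Finset.mem_univ _), Finset.card_univ]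
        omega
      simp only [Finset.mem_erase, Finset.mem_univ, and_true] at hl
      obtain ⟨x, ⟨x1, x2⟩, -⟩ := existsUnique_triple hgram hj.symm hl.2.symm hl.1.symm
      refine ⟨x, fun n hn hxn => ?_⟩
      exact no_two_two hgram hn hl.1.symm hxn x1 x2
    choose y hy using hs
    refine ⟨y, fun i l h => ?_, fun h => hy _ _ h⟩
    by_contra hil
    obtain ⟨j, hj⟩ : ((Finset.univ.erase i).erase l).Nonempty := by
      rw [← Finset.card_pos, Finset.card_erase_of_mem (by simp [Ne.symm hil]),
        Finset.card_erase_of_mem (Finset.mem_univ _), Finset.card_univ]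
      omega
    simp only [Finset.mem_erase, Finset.mem_univ, and_true] at hj
    have bd : ∀ {i l : ι}, i ≠ l → ∀ x, -1 ≤ a x i - a x l ∧ a x i - a x l ≤ 1 := fun h x =>
      abs_le.1 (abs_le_one_iff_mul_self_le_one.2
        (by rw [← pow_two]; exact (gram_diff hgram h).1 x))
    have u1 := hy i l hil
    have u2 := hy i j hj.2.symm
    have u3 := hy l j hj.1.symm
    rw [← h] at u3
    have := bd hil (y i)
    have := bd hj.2.symm (y i)
    have := bd hj.1.symm (y i)
    omega
  · -- exactly two
    obtain ⟨i, l, hil, huniv⟩ := Finset.card_eq_two.1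
      (show (Finset.univ : Finset ι).card = 2 by rw [Finset.card_univ]; omega)
    obtain ⟨-, c, -⟩ := gram_diff hgram hil
    obtain ⟨x, y, hxy, hS⟩ := Finset.card_eq_two.1 c
    have hxmem : a x i ≠ a x l := by
      have : x ∈ ({x, y} : Finset X) := by simp
      rw [← hS] at this; simpa using this
    have hymem : a y i ≠ a y l := by
      have : y ∈ ({x, y} : Finset X) := by simp
      rw [← hS] at this; simpa using this
    have hall : ∀ n, n = i ∨ n = l := fun n => by
      have := Finset.mem_univ n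
      rw [huniv] at this; simpa using this
    refine ⟨fun n => if n = i then x else y, fun n n' h => ?_, fun {n n'} h => ?_⟩
    · rcases hall n with rfl | rfl <;> rcases hall n' with rfl | rfl <;>
        simp_all [hil.symm, Ne.symm hxy]
    · rcases hall n with rfl | rfl <;> rcases hall n' with rfl | rfl <;>
        simp_all [hil.symm, Ne.symm hymem]

/-- A separating family of edges of a complete graph on the vertices `E`. -/
theorem complete_graph {a : X → ι → ℤ} {V : Type*} [Fintype V] (d : V → ℤ) (E : V → X → ℤ)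
    {p : ℕ} (hd : ∀ i, d i ≠ 0) (hcard : 2 ≤ Fintype.card V)
    (hE : ∀ i l, ∑ x, E i x * a x l = d i)
    (horth : ∀ i j, i ≠ j → ∀ x, E i x * E j x = 0)
    (hdec : ∀ v : X → ℂ, (∀ l, ∑ x, v x * (a x l : ℂ) = 0) →
      ∃ t : V → ℂ, (∀ x, v x = ∑ i, t i * (E i x : ℂ)) ∧ ∑ i, t i * (d i : ℂ) = 0)
    (hcost : (∑ i, d i ^ 2) * (∑ i, ∑ x, E i x ^ 2) - ∑ i, d i ^ 2 * ∑ x, E i x ^ 2 ≤
      (p : ℤ) * ((Fintype.card V : ℤ) - 1)) :
    ∃ (N : ℕ) (w : Fin N → X → ℤ) (c : Fin N → ℝ),
      (∀ r, 0 ≤ c r) ∧ (∀ r l, ∑ x, w r x * a x l = 0) ∧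
      (∀ L : X → ℂ, (∃ v : X → ℂ, (∀ l, ∑ x, v x * (a x l : ℂ) = 0) ∧ ∑ x, v x * L x ≠ 0) →
        1 ≤ ∑ r ∈ Finset.univ.filter (fun r => ∑ x, (w r x : ℂ) * L x ≠ 0), c r) ∧
      ∑ r, c r * ∑ x, (w r x : ℝ) ^ 2 ≤ p := by
  set n := Fintype.card V with hn
  set eR := Fintype.equivFin (V × V)
  set W : V × V → X → ℤ := fun q x => d q.2 * E q.1 x - d q.1 * E q.2 x with hW
  set κ : ℝ := 1 / (2 * ((n : ℝ) - 1)) with hκ
  have hn1 : (0 : ℝ) < (n : ℝ) - 1 := by
    have : (2 : ℝ) ≤ n := by exact_mod_cast hcard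
    linarith
  have hκ0 : 0 < κ := by rw [hκ]; positivity
  refine ⟨_, fun r => W (eR.symm r), fun _ => κ, fun _ => hκ0.le, fun r l => ?_, fun L hL => ?_, ?_⟩
  · simp only [hW, sub_mul, mul_assoc, Finset.sum_sub_distrib, ← Finset.mul_sum, hE]
    ring
  · obtain ⟨v, hv, hvL⟩ := hL
    obtain ⟨t, ht, htd⟩ := hdec v hv
    set Li : V → ℂ := fun i => ∑ x, (E i x : ℂ) * L x with hLi
    have hval : ∀ q : V × V, ∑ x, (W q x : ℂ) * L x =
        (d q.2 : ℂ) * Li q.1 - (d q.1 : ℂ) * Li q.2 := by
      intro q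
      simp only [hW, hLi, Finset.mul_sum, ← Finset.sum_sub_distrib]
      exact Finset.sum_congr rfl fun x _ => by push_cast; ring
    obtain ⟨i, j, hij⟩ : ∃ i j, (d j : ℂ) * Li i - (d i : ℂ) * Li j ≠ 0 := by
      by_contra hcon
      push Not at hcon
      apply hvL
      obtain ⟨i₀⟩ : Nonempty V := Fintype.card_pos_iff.1 (by omega)
      have h1 : ∑ x, v x * L x = ∑ i, t i * Li i := by
        simp only [ht, Finset.sum_mul, hLi, Finset.mul_sum]
        rw [Finset.sum_comm]
        exact Finset.sum_congr rfl fun i _ => Finset.sum_congr rfl fun x _ => by ring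
      have hne : (d i₀ : ℂ) ≠ 0 := Int.cast_ne_zero.2 (hd i₀)
      rw [h1]
      refine mul_left_cancel₀ hne ?_
      rw [mul_zero, Finset.mul_sum]
      calc ∑ i, (d i₀ : ℂ) * (t i * Li i) = ∑ i, t i * (d i : ℂ) * Li i₀ :=
            Finset.sum_congr rfl fun i _ => by linear_combination t i * hcon i i₀
        _ = 0 := by rw [← Finset.sum_mul, htd, zero_mul]
    have hijne : i ≠ j := fun h => hij (by rw [h]; ring)
    have hmid : ∀ k : V, (d k : ℂ) * Li i - (d i : ℂ) * Li k ≠ 0 ∨
        (d j : ℂ) * Li k - (d k : ℂ) * Li j ≠ 0 := by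
      intro k
      by_contra hcon
      push Not at hcon
      apply hij
      have hne : (d k : ℂ) ≠ 0 := Int.cast_ne_zero.2 (hd k)
      refine mul_left_cancel₀ hne ?_
      linear_combination (d j : ℂ) * hcon.1 + (d i : ℂ) * hcon.2
    set f : {k : V // k ≠ i} → V × V := fun k =>
      if (d k.1 : ℂ) * Li i - (d i : ℂ) * Li k.1 ≠ 0 then (i, k.1) else (k.1, j) with hf
    have hfne : ∀ k, (d (f k).2 : ℂ) * Li (f k).1 - (d (f k).1 : ℂ) * Li (f k).2 ≠ 0 := by
      intro k
      simp only [hf]
      split_ifs with h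
      · exact h
      · exact (hmid k.1).resolve_left h
    set g : {k : V // k ≠ i} × Bool → Fin (Fintype.card (V × V)) := fun q =>
      eR (if q.2 then f q.1 else (f q.1).swap) with hg
    have hfc : ∀ k, f k = (i, k.1) ∨ (f k = (k.1, j) ∧ k.1 ≠ j) := by
      intro k
      simp only [hf]
      split_ifs with h
      · exact Or.inl rfl
      · exact Or.inr ⟨rfl, fun e => h (e ▸ hij)⟩
    have hginj : Function.Injective g := by
      rintro ⟨⟨k, hk⟩, b⟩ ⟨⟨k', hk'⟩, b'⟩ h
      have h' := eR.injective h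
      rcases hfc ⟨k, hk⟩ with e1 | ⟨e1, e1'⟩ <;> rcases hfc ⟨k', hk'⟩ with e2 | ⟨e2, e2'⟩ <;>
        cases b <;> cases b' <;>
        simp only [Bool.false_eq_true, if_false, if_true, e1, e2, Prod.swap_prod_mk, Prod.mk.injEq]
          at h' <;>
        obtain ⟨h'1, h'2⟩ := h' <;>
        first
          | grind
    have hsub : Finset.univ.image g ⊆
        Finset.univ.filter (fun r => ∑ x, (W (eR.symm r) x : ℂ) * L x ≠ 0) := by
      intro r hr
      obtain ⟨⟨k, b⟩, -, rfl⟩ := Finset.mem_image.1 hr
      simp only [Finset.mem_filter, Finset.mem_univ, true_and, hg, Equiv.symm_apply_apply, hval]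
      cases b
      · simp only [Bool.false_eq_true, if_false, Prod.fst_swap, Prod.snd_swap]
        intro h0
        exact hfne k (by linear_combination -h0)
      · exact hfne k
    refine le_trans (le_of_eq ?_) (Finset.sum_le_sum_of_subset_of_nonneg hsub fun _ _ _ => hκ0.le)
    rw [Finset.sum_const, Finset.card_image_of_injective _ hginj, Finset.card_univ,
      Fintype.card_prod, Fintype.card_bool, Fintype.card_subtype_compl, Fintype.card_subtype_eq,
      nsmul_eq_mul, hκ, ← hn, Nat.cast_mul, Nat.cast_sub (by omega)]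
    push_cast
    field_simp
  · set μ : V → ℤ := fun i => ∑ x, E i x ^ 2 with hμ
    have hnorm : ∀ i j, ∑ x, W (i, j) x ^ 2 = if i = j then 0 else d j ^ 2 * μ i + d i ^ 2 * μ j := by
      intro i j
      split_ifs with h
      · subst h; simp [hW]
      · simp only [hW, hμ, Finset.mul_sum, ← Finset.sum_add_distrib]
        exact Finset.sum_congr rfl fun x _ => by linear_combination (-2 * d i * d j) * horth i j h x
    have htot : ∑ q : V × V, ∑ x, W q x ^ 2 =
        2 * ((∑ i, d i ^ 2) * (∑ i, μ i) - ∑ i, d i ^ 2 * μ i) := by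
      rw [Fintype.sum_prod_type]
      have e1 : ∀ i j, ∑ x, W (i, j) x ^ 2 = (d j ^ 2 * μ i + d i ^ 2 * μ j) -
          (if i = j then 2 * (d i ^ 2 * μ i) else 0) := by
        intro i j
        rw [hnorm]
        split_ifs with h
        · subst h; ring
        · ring
      simp only [e1, Finset.sum_sub_distrib, Finset.sum_add_distrib, Finset.sum_ite_eq,
        Finset.mem_univ, if_true, ← Finset.mul_sum, ← Finset.sum_mul]
      ring
    rw [← Finset.mul_sum]
    rw [Equiv.sum_comp eR.symm (fun q => ∑ x, (W q x : ℝ) ^ 2)]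
    have h2 : ((∑ q : V × V, ∑ x, W q x ^ 2 : ℤ) : ℝ) ≤ 2 * ((p : ℝ) * ((n : ℝ) - 1)) := by
      have : ∑ q : V × V, ∑ x, W q x ^ 2 ≤ 2 * ((p : ℤ) * ((n : ℤ) - 1)) := by
        rw [htot]; linarith
      exact_mod_cast this
    push_cast at h2
    rw [hκ, div_mul_eq_mul_div, one_mul, div_le_iff₀ (by positivity)]
    linarith

/-- The separating family of an integer matrix with Gram matrix `1 + e J`. -/
theorem exists_functionals' {a : X → ι → ℤ} {p e : ℕ} [Nonempty ι]
    (hker : ∃ v : X → ℂ, v ≠ 0 ∧ ∀ l, ∑ x, v x * (a x l : ℂ) = 0)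
    (he : e * Fintype.card ι + 1 = p) (hrow : ∀ x, ∃ i, a x i ≠ 0)
    (hgram : ∀ i l, ∑ x, a x i * a x l = (if i = l then 1 else 0) + (e : ℤ)) :
    ∃ (N : ℕ) (w : Fin N → X → ℤ) (c : Fin N → ℝ),
      (∀ r, 0 ≤ c r) ∧ (∀ r l, ∑ x, w r x * a x l = 0) ∧
      (∀ L : X → ℂ, (∃ v : X → ℂ, (∀ l, ∑ x, v x * (a x l : ℂ) = 0) ∧ ∑ x, v x * L x ≠ 0) →
        1 ≤ ∑ r ∈ Finset.univ.filter (fun r => ∑ x, (w r x : ℂ) * L x ≠ 0), c r) ∧
      ∑ r, c r * ∑ x, (w r x : ℝ) ^ 2 ≤ p := by
  obtain ⟨v₀, hv₀, hva₀⟩ := hker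
  rcases (show Fintype.card ι = 1 ∨ 2 ≤ Fintype.card ι by
    have := Fintype.card_pos (α := ι); omega) with h1 | h2
  · obtain ⟨i₀, hi₀⟩ := Fintype.card_eq_one_iff.1 h1
    rw [h1, mul_one] at he
    have hg : ∑ x, a x i₀ * a x i₀ = (p : ℤ) := by
      rw [hgram, if_pos rfl, ← he]; push_cast; ring
    have hd : ∀ x, a x i₀ ≠ 0 := fun x => by
      obtain ⟨i, hi⟩ := hrow x
      rwa [hi₀ i] at hi
    have hcard : 2 ≤ Fintype.card X := by
      by_contra hlt
      rcases (show Fintype.card X = 0 ∨ Fintype.card X = 1 by omega) with h | h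
      · haveI := Fintype.card_eq_zero_iff.1 h
        rw [Fintype.sum_empty] at hg
        exact hv₀ (funext fun x => isEmptyElim x)
      · obtain ⟨x₀, hx₀⟩ := Fintype.card_eq_one_iff.1 h
        have h2 := hva₀ i₀
        rw [Fintype.sum_eq_single x₀ fun x hx => absurd (hx₀ x) hx] at h2
        refine hv₀ (funext fun x => ?_)
        rw [hx₀ x]
        exact (mul_eq_zero.1 h2).resolve_right (Int.cast_ne_zero.2 (hd x₀))
    refine complete_graph (fun x => a x i₀) (fun i x => if x = i then 1 else 0) hd hcard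
      (fun i l => by simp [hi₀ l]) (fun i j h x => by
        split_ifs with h1 h2 <;> first | rfl | simp
        exact h (h1 ▸ h2)) (fun v hv => ⟨v, fun x => by simp, by simpa using hv i₀⟩) ?_
    simp only [pow_two, mul_ite, mul_one, mul_zero, Finset.sum_ite_eq', Finset.mem_univ, if_true,
      Finset.sum_const, Finset.card_univ, nsmul_eq_mul, hg]
    ring_nf
    exact le_refl _
  · obtain ⟨y, hy, hdiff⟩ := exists_special hgram h2
    have hconst : ∀ x, (∀ i, y i ≠ x) → ∀ i l, a x i = a x l := by
      intro x hx i l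
      by_contra hne
      have hil : i ≠ l := fun h => hne (by rw [h])
      rcases (hdiff hil x).1 hne with h | h <;> exact hx _ h.symm
    have hother : ∀ {i l l' : ι}, i ≠ l → i ≠ l' → a (y i) l = a (y i) l' := by
      intro i l l' h h'
      by_contra hne
      have hll : l ≠ l' := fun e => hne (by rw [e])
      rcases (hdiff hll (y i)).1 hne with e | e
      · exact h (hy e)
      · exact h' (hy e)
    choose o ho using fun i : ι => Fintype.exists_ne_of_one_lt_card (by omega) i
    set σ : ι → ℤ := fun i => a (y i) i - a (y i) (o i) with hσ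
    have hσ1 : ∀ i, σ i * σ i = 1 := by
      intro i
      have h1 := (gram_diff hgram (ho i).symm).1 (y i)
      have h2 : a (y i) i - a (y i) (o i) ≠ 0 :=
        sub_ne_zero.2 ((hdiff (ho i).symm _).2 (Or.inl rfl))
      rw [← pow_two]
      have h3 : 0 < (σ i) ^ 2 := lt_of_le_of_ne (sq_nonneg _) (Ne.symm (pow_ne_zero 2 h2))
      have h4 : (σ i) ^ 2 ≤ 1 := h1
      omega
    set T : ι → ℤ := fun i => σ i * a (y i) (o i) with hT
    have hval : ∀ i l, a (y i) l = σ i * ((if i = l then 1 else 0) + T i) := by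
      intro i l
      rw [mul_add, hT, ← mul_assoc, hσ1, one_mul]
      by_cases h : i = l
      · subst h; rw [if_pos rfl, hσ]; ring
      · rw [if_neg h, mul_zero, zero_add]; exact hother h (ho i).symm
    clear_value σ T
    obtain ⟨i₀⟩ := ‹Nonempty ι›
    have hTc : ∀ i, T i = T i₀ := by
      intro i
      rcases eq_or_ne i i₀ with rfl | h
      · rfl
      obtain ⟨-, c, s⟩ := gram_diff hgram h
      have hS : (Finset.univ.filter fun x => a x i ≠ a x i₀) = {y i, y i₀} := by
        ext x; simp [hdiff h x]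
      rw [hS, Finset.sum_pair (hy.ne h), hval, hval, hval, hval, if_pos rfl, if_neg h,
        if_neg h.symm, if_pos rfl] at s
      have h5 : 2 * T i = 2 * T i₀ := by
        linear_combination s - (2 * T i + 1) * hσ1 i + (2 * T i₀ + 1) * hσ1 i₀
      omega
    set τ := T i₀ with hτ
    simp only [hTc] at hval
    set m : ℤ := (Fintype.card ι : ℤ) with hm
    -- the vertices
    set d : Option {x : X // ∀ i, y i ≠ x} → ℤ := fun v => v.elim (m * τ + 1) fun x => a x.1 i₀
      with hd
    set E : Option {x : X // ∀ i, y i ≠ x} → X → ℤ := fun v x =>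
      v.elim (∑ i, if y i = x then σ i else 0) fun x' => if x = x'.1 then 1 else 0 with hE
    have hstar : ∀ g : X → ℤ, ∑ x, (∑ i, if y i = x then σ i else 0) * g x = ∑ i, σ i * g (y i) := by
      intro g
      simp only [Finset.sum_mul]
      rw [Finset.sum_comm]
      exact Finset.sum_congr rfl fun i _ => by simp
    have hstarv : ∀ i, (∑ l, if y l = y i then σ l else 0) = σ i := fun i => by
      rw [Finset.sum_eq_single i (fun l _ hl => if_neg (hy.ne hl)) (by simp), if_pos rfl]
    have hstar0 : ∀ x, (∀ i, y i ≠ x) → (∑ l, if y l = x then σ l else 0) = 0 := fun x hx =>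
      Finset.sum_eq_zero fun l _ => if_neg (hx l)
    have hEl : ∀ v l, ∑ x, E v x * a x l = d v := by
      rintro (_ | ⟨x', hx'⟩) l
      · show ∑ x, (∑ i, if y i = x then σ i else 0) * a x l = m * τ + 1
        rw [hstar]
        simp only [hval, ← mul_assoc, hσ1, one_mul, Finset.sum_add_distrib, Finset.sum_ite_eq',
          Finset.mem_univ, if_true, Finset.sum_const, nsmul_eq_mul, hm, Finset.card_univ]
        ring
      · show ∑ x, (if x = x' then (1 : ℤ) else 0) * a x l = a x' i₀
        simp [hconst x' hx' l i₀]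
    have hsplit : ∀ f : X → ℤ, ∑ x, f x = (∑ x : {x : X // ∀ i, y i ≠ x}, f x.1) + ∑ i, f (y i) := by
      intro f
      rw [← Finset.sum_filter_add_sum_filter_not Finset.univ (fun x => ∀ i, y i ≠ x) f]
      congr 1
      · exact Finset.sum_subtype _ (by simp) _
      · rw [← Finset.sum_image (g := y) (fun i _ l _ h => hy h)]
        refine Finset.sum_congr (Finset.ext fun x => ?_) fun _ _ => rfl
        simp [eq_comm]
    have hsplit' : ∀ f : X → ℂ, (∀ x, ∃ i, y i = x) → ∑ x, f x = ∑ i, f (y i) := fun f h =>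
      (Fintype.sum_bijective y ⟨hy, h⟩ _ _ fun _ => rfl).symm
    set Cc : ℤ := ∑ x : {x : X // ∀ i, y i ≠ x}, a x.1 i₀ ^ 2 with hCc
    have he' : Cc + m * τ ^ 2 + 2 * τ = (e : ℤ) := by
      have h := hgram i₀ i₀
      rw [if_pos rfl, hsplit] at h
      have e1 : ∀ i, a (y i) i₀ * a (y i) i₀ = (if i = i₀ then 1 + 2 * τ else 0) + τ ^ 2 := by
        intro i
        rw [hval]
        split_ifs
        · linear_combination (1 + τ) * (1 + τ) * hσ1 i
        · linear_combination τ * τ * hσ1 i
      simp only [e1, Finset.sum_add_distrib, Finset.sum_ite_eq', Finset.mem_univ, if_true,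
        Finset.sum_const, nsmul_eq_mul, Finset.card_univ, ← pow_two, ← hCc] at h
      rw [hm]
      linarith
    have hp' : (p : ℤ) = m * Cc + (m * τ + 1) ^ 2 := by
      rw [← he, hm] at *
      push_cast
      linear_combination -(Fintype.card ι : ℤ) * he'
    have hne : Nonempty {x : X // ∀ i, y i ≠ x} := by
      by_contra hcon
      haveI := not_nonempty_iff.1 hcon
      have hall : ∀ x, ∃ i, y i = x := fun x => by
        by_contra hx
        push Not at hx
        exact IsEmpty.false (⟨x, hx⟩ : {x : X // ∀ i, y i ≠ x})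
      set c' : ι → ℂ := fun i => v₀ (y i) * (σ i : ℂ) with hc'
      have hl : ∀ l, c' l + (τ : ℂ) * ∑ i, c' i = 0 := by
        intro l
        rw [← hva₀ l]
        rw [hsplit' (fun x => v₀ x * (a x l : ℂ)) hall]
        simp only [hval, hc']
        have e4 : ∀ i, v₀ (y i) * ((σ i * ((if i = l then 1 else 0) + τ) : ℤ) : ℂ) =
            (if i = l then v₀ (y i) * (σ i : ℂ) else 0) + (τ : ℂ) * (v₀ (y i) * (σ i : ℂ)) := by
          intro i
          split_ifs <;> push_cast <;> ring
        simp only [e4, Finset.sum_add_distrib, Finset.sum_ite_eq', Finset.mem_univ, if_true,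
          Finset.mul_sum]
      have hsum : ((m * τ + 1 : ℤ) : ℂ) * ∑ i, c' i = 0 := by
        have h1 := Finset.sum_congr rfl fun l (_ : l ∈ (Finset.univ : Finset ι)) => hl l
        rw [Finset.sum_add_distrib, Finset.sum_const, Finset.card_univ, nsmul_eq_mul,
          Finset.sum_const_zero] at h1
        rw [hm]
        push_cast
        linear_combination h1
      have hne0 : ((m * τ + 1 : ℤ) : ℂ) ≠ 0 := by
        rw [Int.cast_ne_zero]
        intro h0
        have h3 := Int.le_of_dvd one_pos (⟨-τ, by linarith⟩ : m ∣ 1)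
        omega
      refine hv₀ (funext fun x => ?_)
      obtain ⟨i, rfl⟩ := hall x
      have h1 := hl i
      rw [(mul_eq_zero.1 hsum).resolve_left hne0, mul_zero, add_zero] at h1
      refine (mul_eq_zero.1 h1).resolve_right (Int.cast_ne_zero.2 fun h0 => ?_)
      simpa [h0] using hσ1 i
    have hdne : ∀ v, d v ≠ 0 := by
      rintro (_ | ⟨x', hx'⟩)
      · show m * τ + 1 ≠ 0
        intro h0
        have h1 : m ∣ 1 := ⟨-τ, by linarith⟩
        have h3 := Int.le_of_dvd one_pos h1
        omega
      · show a x' i₀ ≠ 0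
        obtain ⟨i, hi⟩ := hrow x'
        rwa [hconst x' hx' i i₀] at hi
    refine complete_graph d E hdne ?_ hEl ?_ ?_ ?_
    · rw [Fintype.card_option]
      have := Fintype.card_pos_iff.2 hne
      omega
    · rintro (_ | ⟨x1, h1⟩) (_ | ⟨x2, h2⟩) hne' x
      · exact absurd rfl hne'
      · show (∑ i, if y i = x then σ i else 0) * (if x = x2 then (1 : ℤ) else 0) = 0
        split_ifs with h
        · rw [h, hstar0 x2 h2, zero_mul]
        · rw [mul_zero]
      · show (if x = x1 then (1 : ℤ) else 0) * (∑ i, if y i = x then σ i else 0) = 0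
        split_ifs with h
        · rw [h, hstar0 x1 h1, mul_zero]
        · rw [zero_mul]
      · show (if x = x1 then (1 : ℤ) else 0) * (if x = x2 then (1 : ℤ) else 0) = 0
        split_ifs with h h' <;> first | rfl | simp
        exact hne' (by subst h; subst h'; rfl)
    · intro v hv
      -- the special coordinates agree up to the signs
      set v' : ι → ℂ := fun i => v (y i) * (σ i : ℂ) with hv'
      set S : ℂ := (∑ x : {x : X // ∀ i, y i ≠ x}, v x.1 * (a x.1 i₀ : ℂ)) + (τ : ℂ) * ∑ i, v' i
      have hS : ∀ l, S + v' l = 0 := by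
        intro l
        have h := hv l
        rw [← Finset.sum_filter_add_sum_filter_not Finset.univ (fun x => ∀ i, y i ≠ x)] at h
        rw [Finset.sum_subtype _ (p := fun x => ∀ i, y i ≠ x) (by simp)
          (fun x => v x * (a x l : ℂ))] at h
        have e2 : (Finset.univ.filter fun x => ¬ ∀ i, y i ≠ x) = Finset.univ.image y := by
          ext x; simp [eq_comm]
        rw [e2, Finset.sum_image (fun i _ l _ h => hy h)] at h
        have e3 : ∀ i, v (y i) * (a (y i) l : ℂ) =
            (if i = l then v' i else 0) + (τ : ℂ) * v' i := by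
          intro i
          rw [hval, hv']
          split_ifs <;> push_cast <;> ring
        simp only [e3, Finset.sum_add_distrib, Finset.sum_ite_eq', Finset.mem_univ, if_true,
          ← Finset.mul_sum] at h
        rw [Finset.sum_congr rfl fun x _ => by rw [hconst x.1 x.2 l i₀]] at h
        linear_combination h
      refine ⟨fun o => o.elim (v' i₀) fun x => v x.1, fun x => ?_, ?_⟩
      · rw [Fintype.sum_option]
        simp only [Option.elim_none, Option.elim_some, hE]
        by_cases hx : ∀ i, y i ≠ x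
        · rw [hstar0 x hx, Finset.sum_eq_single (⟨x, hx⟩ : {x : X // ∀ i, y i ≠ x})]
          · simp
          · intro b _ hb
            rw [if_neg fun h => hb (Subtype.ext h.symm)]; simp
          · simp
        · push Not at hx
          obtain ⟨i, rfl⟩ := hx
          rw [hstarv, Finset.sum_eq_zero, add_zero]
          · have h1 : v' i₀ = v' i := by linear_combination hS i₀ - hS i
            rw [h1, hv']
            have : (σ i : ℂ) * (σ i : ℂ) = 1 := by exact_mod_cast hσ1 i
            linear_combination -v (y i) * this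
          · intro b _
            rw [if_neg fun h => b.2 i h]; simp
      · rw [Fintype.sum_option]
        simp only [Option.elim_none, Option.elim_some, hd]
        have h1 : ∑ i, v' i = (Fintype.card ι : ℂ) * v' i₀ := by
          rw [Finset.sum_congr rfl fun i _ =>
            (show v' i = v' i₀ by linear_combination hS i - hS i₀), Finset.sum_const,
            Finset.card_univ, nsmul_eq_mul]
        have h2 := hS i₀
        simp only [S, h1] at h2
        rw [hm]
        push_cast
        linear_combination h2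
    · have eμ : ∀ v, ∑ x, E v x ^ 2 = v.elim m fun _ => 1 := by
        rintro (_ | x')
        · show ∑ x, (∑ i, if y i = x then σ i else 0) ^ 2 = m
          simp only [pow_two]
          rw [hstar]
          simp [hstarv, hσ1, hm]
        · show ∑ x, (if x = x'.1 then (1 : ℤ) else 0) ^ 2 = 1
          simp
      simp only [eμ, Fintype.sum_option, Option.elim_none, Option.elim_some, hd, mul_one,
        Finset.sum_const, Finset.card_univ, nsmul_eq_mul, ← hCc, Fintype.card_option, hp']
      push_cast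
      have hf : (1 : ℤ) ≤ Fintype.card {x : X // ∀ i, y i ≠ x} := by
        exact_mod_cast Fintype.card_pos_iff.2 hne
      have hm1 : (1 : ℤ) ≤ m := by omega
      have hC0 : 0 ≤ Cc := Finset.sum_nonneg fun _ _ => sq_nonneg _
      nlinarith [mul_nonneg (mul_nonneg (sub_nonneg.2 hf) (sub_nonneg.2 hm1)) hC0]

/-- The case of a prime. -/
theorem exists_functionals {a : X → ι → ℤ} {p e : ℕ} [Nonempty ι] (_hp : p.Prime)
    (he : e * Fintype.card ι + 1 = p) (hrow : ∀ x, ∃ i, a x i ≠ 0)
    (hgram : ∀ i l, ∑ x, a x i * a x l = (if i = l then 1 else 0) + (e : ℤ)) :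
    ∃ (N : ℕ) (w : Fin N → X → ℤ) (c : Fin N → ℝ),
      (∀ r, 0 ≤ c r) ∧ (∀ r l, ∑ x, w r x * a x l = 0) ∧
      (∀ L : X → ℂ, (∃ v : X → ℂ, (∀ l, ∑ x, v x * (a x l : ℂ) = 0) ∧ ∑ x, v x * L x ≠ 0) →
        1 ≤ ∑ r ∈ Finset.univ.filter (fun r => ∑ x, (w r x : ℂ) * L x ≠ 0), c r) ∧
      ∑ r, c r * ∑ x, (w r x : ℝ) ^ 2 ≤ p := by
  by_cases hker : ∃ v : X → ℂ, v ≠ 0 ∧ ∀ l, ∑ x, v x * (a x l : ℂ) = 0
  · exact exists_functionals' hker he hrow hgram
  · -- then every functional orthogonal to the columns vanishes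
    refine ⟨0, Fin.elim0, Fin.elim0, fun r => r.elim0, fun r => r.elim0, fun L hL => ?_, by simp⟩
    obtain ⟨v, hv, hvL⟩ := hL
    exact absurd ⟨v, fun h => hvL (by simp [h]), hv⟩ hker

end Cfsg.Agent.BlockCount
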