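import Cfsg.Agent.BlkChar.CycloAvg
import Cfsg.Agent.BlockCount.Functionals

/-!
Columns of sums of `p`-th roots of unity with the orthogonality relations of generalized
decomposition numbers of a block of defect one: their coefficient matrix.
-/

set_option autoImplicit false
set_option linter.style.haveILetI false
set_option linter.unusedSectionVars false

namespace Cfsg.Agent.BlockCount

open Cfsg.Agent.BlkChar.Cyclo
open scoped ComplexConjugate Classical

universe u

variable {p : ℕ} [hp : Fact p.Prime]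

theorem isUnit_of_ne_zero {d : ZMod (p ^ 1)} (hd : d ≠ 0) : IsUnit d := by
  rw [← ZMod.natCast_zmod_val d, ZMod.isUnit_iff_coprime]
  have h1 : d.val < p := (ZMod.val_lt d).trans_eq (pow_one p)
  have h2 : ¬ p ∣ d.val := fun h => by
    have h3 : d.val = 0 := Nat.eq_zero_of_dvd_of_lt h h1
    exact hd ((ZMod.val_eq_zero d).1 h3)
  exact (Nat.coprime_comm.1 (hp.out.coprime_iff_not_dvd.2 h2)).pow_right 1

theorem sum_zmod_eq {A : Type*} [AddCommMonoid A] (f : ZMod (p ^ 1) → A) :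
    ∑ d, f d = f 0 + ∑ j : (ZMod (p ^ 1))ˣ, f (j : ZMod (p ^ 1)) := by
  haveI : Fact (1 < p ^ 1) := ⟨by rw [pow_one]; exact hp.out.one_lt⟩
  rw [← Finset.add_sum_erase _ f (Finset.mem_univ (0 : ZMod (p ^ 1)))]
  congr 1
  symm
  exact Finset.sum_bij (fun j _ => (j : ZMod (p ^ 1)))
    (fun j _ => Finset.mem_erase.2 ⟨j.ne_zero, Finset.mem_univ _⟩)
    (fun i _ j _ h => Units.ext h)
    (fun d hd => ⟨(isUnit_of_ne_zero (Finset.mem_erase.1 hd).1).unit, Finset.mem_univ _, rfl⟩)
    (fun _ _ => rfl)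

theorem sum_stdAddChar (c : ZMod (p ^ 1)) :
    ∑ d : ZMod (p ^ 1), (ZMod.stdAddChar (d * c) : ℂ) = if c = 0 then (p : ℂ) else 0 := by
  rw [AddChar.sum_mulShift c (ZMod.isPrimitive_stdAddChar _), ZMod.card]
  split_ifs <;> simp

/-- The coefficients from the values at the units. -/
theorem mul_coeff_eq {a : ZMod (p ^ 1) → ℤ} (ha : a 0 = 0) (i : ZMod (p ^ 1)) :
    (p : ℂ) * (a i : ℂ) =
      ∑ j : (ZMod (p ^ 1))ˣ, cev a j * ((ZMod.stdAddChar (-(i * (j : ZMod (p ^ 1)))) : ℂ) - 1) := by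
  have h : ∑ d : ZMod (p ^ 1), cev a d * ((ZMod.stdAddChar (-(i * d)) : ℂ) - 1) =
      (p : ℂ) * (a i : ℂ) := by
    simp only [cev, Finset.sum_mul]
    rw [Finset.sum_comm]
    have e : ∀ t d : ZMod (p ^ 1), (a t : ℂ) * ZMod.stdAddChar (d * t) *
        ((ZMod.stdAddChar (-(i * d)) : ℂ) - 1) =
        (a t : ℂ) * (ZMod.stdAddChar (d * (t - i)) : ℂ) -
          (a t : ℂ) * (ZMod.stdAddChar (d * t) : ℂ) := by
      intro t d
      rw [show d * (t - i) = d * t + -(i * d) by ring, AddChar.map_add_eq_mul]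
      ring
    simp only [e, Finset.sum_sub_distrib, ← Finset.mul_sum, sum_stdAddChar, sub_eq_zero,
      mul_ite, mul_zero]
    rw [Finset.sum_ite_eq' Finset.univ i, Finset.sum_ite_eq' Finset.univ (0 : ZMod (p ^ 1))]
    simp [ha, mul_comm]
  rw [← h, sum_zmod_eq]
  simp

variable {X : Type u} [Fintype X]

/-- The separating functionals of a defect one system of columns. -/
theorem exists_functionals_of_columns (a : X → ZMod (p ^ 1) → ℤ) (ha : ∀ x, a x 0 = 0)
    (hrow : ∀ x, cev (a x) 1 ≠ 0)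
    (hnorm : ∀ j : (ZMod (p ^ 1))ˣ, ∑ x, cev (a x) j * conj (cev (a x) j) = (p : ℂ))
    (hdich : ∀ i : (ZMod (p ^ 1))ˣ,
      (∀ x (j : (ZMod (p ^ 1))ˣ), cev (a x) (i * j : (ZMod (p ^ 1))ˣ) = cev (a x) j) ∨
      ∀ j : (ZMod (p ^ 1))ˣ, ∑ x, cev (a x) j * conj (cev (a x) (i * j : (ZMod (p ^ 1))ˣ)) = 0) :
    ∃ (N : ℕ) (w : Fin N → X → ℤ) (c : Fin N → ℝ),
      (∀ r, 0 ≤ c r) ∧
      (∀ r (j : (ZMod (p ^ 1))ˣ), ∑ x, (w r x : ℂ) * cev (a x) j = 0) ∧
      (∀ L : X → ℂ, (∃ v : X → ℂ, (∀ j : (ZMod (p ^ 1))ˣ, ∑ x, v x * cev (a x) j = 0) ∧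
          ∑ x, v x * L x ≠ 0) →
        1 ≤ ∑ r ∈ Finset.univ.filter (fun r => ∑ x, (w r x : ℂ) * L x ≠ 0), c r) ∧
      ∑ r, c r * ∑ x, (w r x : ℝ) ^ 2 ≤ p := by
  haveI : Fact (1 < p ^ 1) := ⟨by rw [pow_one]; exact hp.out.one_lt⟩
  let E : Subgroup (ZMod (p ^ 1))ˣ :=
    { carrier := {i | ∀ x (j : (ZMod (p ^ 1))ˣ),
        cev (a x) (i * j : (ZMod (p ^ 1))ˣ) = cev (a x) j}
      mul_mem' := fun {i l} hi hl x j => by rw [mul_assoc, hi, hl]
      one_mem' := fun x j => by rw [one_mul]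
      inv_mem' := fun {i} hi x j => by
        have := hi x (i⁻¹ * j)
        rw [mul_inv_cancel_left] at this
        exact this.symm }
  have hprod : ∀ j j' : (ZMod (p ^ 1))ˣ,
      ∑ x, cev (a x) j * conj (cev (a x) j') = if j' * j⁻¹ ∈ E then (p : ℂ) else 0 := by
    intro j j'
    have hj : j' = j' * j⁻¹ * j := by rw [inv_mul_cancel_right]
    split_ifs with h
    · rw [← hnorm j]
      refine Finset.sum_congr rfl fun x _ => ?_
      conv_lhs => rw [hj, h x j]
    · have := (hdich (j' * j⁻¹)).resolve_left h j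
      rwa [← hj] at this
  have hconst : ∀ x (ε : (ZMod (p ^ 1))ˣ), ε ∈ E → ∀ i : (ZMod (p ^ 1))ˣ,
      a x (ε * i : (ZMod (p ^ 1))ˣ) = a x i := by
    intro x ε hε i
    apply Int.cast_injective (α := ℂ)
    refine mul_left_cancel₀ (Nat.cast_ne_zero.2 hp.out.ne_zero : (p : ℂ) ≠ 0) ?_
    rw [mul_coeff_eq (ha x), mul_coeff_eq (ha x)]
    conv_rhs => rw [← Equiv.sum_comp (Equiv.mulLeft ε)]
    refine Finset.sum_congr rfl fun j _ => ?_
    rw [Equiv.coe_mulLeft, hε x j, Units.val_mul, Units.val_mul]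
    congr 4
    ring
  have hgram0 : ∀ i l : (ZMod (p ^ 1))ˣ, ∑ x, a x i * a x l =
      (if i * l⁻¹ ∈ E then 1 else 0) + (Nat.card E : ℤ) := by
    intro i l
    apply Int.cast_injective (α := ℂ)
    push_cast
    have hp0 : (p : ℂ) ≠ 0 := Nat.cast_ne_zero.2 hp.out.ne_zero
    refine mul_left_cancel₀ (mul_ne_zero hp0 hp0) ?_
    have e1 : ∀ x, (p : ℂ) * p * ((a x i : ℂ) * (a x l : ℂ)) =
        ∑ j : (ZMod (p ^ 1))ˣ, ∑ j' : (ZMod (p ^ 1))ˣ,
          ((ZMod.stdAddChar (-((i : ZMod (p ^ 1)) * (j : ZMod (p ^ 1)))) : ℂ) - 1) *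
            ((ZMod.stdAddChar ((l : ZMod (p ^ 1)) * (j' : ZMod (p ^ 1))) : ℂ) - 1) *
            (cev (a x) j * conj (cev (a x) j')) := by
      intro x
      have h1 := mul_coeff_eq (ha x) (i : ZMod (p ^ 1))
      have h2 := congrArg conj (mul_coeff_eq (ha x) (l : ZMod (p ^ 1)))
      simp only [map_mul, map_natCast, map_intCast, map_sum, map_sub, map_one,
        conj_stdAddChar, neg_neg] at h2
      rw [show (p : ℂ) * p * ((a x i : ℂ) * (a x l : ℂ)) =
        ((p : ℂ) * (a x i : ℂ)) * ((p : ℂ) * (a x l : ℂ)) by ring, h1, h2, Finset.sum_mul_sum]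
      exact Finset.sum_congr rfl fun j _ => Finset.sum_congr rfl fun j' _ => by ring
    rw [Finset.mul_sum, Finset.sum_congr rfl fun x _ => e1 x, Finset.sum_comm]
    simp only [Finset.sum_comm (s := (Finset.univ : Finset X)), ← Finset.mul_sum, hprod]
    set g : ZMod (p ^ 1) → ZMod (p ^ 1) → ℂ := fun d t =>
      ((ZMod.stdAddChar (-((i : ZMod (p ^ 1)) * d)) : ℂ) - 1) *
        ((ZMod.stdAddChar ((l : ZMod (p ^ 1)) * t) : ℂ) - 1) with hg
    have e2 : ∀ ε : (ZMod (p ^ 1))ˣ, ∑ j : (ZMod (p ^ 1))ˣ, g j ((ε * j : (ZMod (p ^ 1))ˣ)) =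
        (p : ℂ) * ((if i = ε * l then 1 else 0) + 1) := by
      intro ε
      have h := sum_zmod_eq (fun d => g d (ε * d))
      have h0 : g 0 ((ε : ZMod (p ^ 1)) * 0) = 0 := by simp [hg]
      rw [h0, zero_add] at h
      simp only [Units.val_mul]
      rw [← h]
      have e : ∀ d, g d (ε * d) = (ZMod.stdAddChar (d * ((ε * l : ZMod (p ^ 1)) - (i : ZMod (p ^ 1)))) : ℂ) -
          ZMod.stdAddChar (d * (-(i : ZMod (p ^ 1)))) -
          ZMod.stdAddChar (d * (ε * l : ZMod (p ^ 1))) + 1 := by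
        intro d
        simp only [hg]
        rw [show d * ((ε * l : ZMod (p ^ 1)) - (i : ZMod (p ^ 1))) =
            -((i : ZMod (p ^ 1)) * d) + (l : ZMod (p ^ 1)) * ((ε : ZMod (p ^ 1)) * d) by ring,
          AddChar.map_add_eq_mul, show d * (-(i : ZMod (p ^ 1))) = -((i : ZMod (p ^ 1)) * d) by ring,
          show d * ((ε : ZMod (p ^ 1)) * l) = (l : ZMod (p ^ 1)) * (ε * d) by ring]
        ring
      simp only [e, Finset.sum_add_distrib, Finset.sum_sub_distrib, sum_stdAddChar,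
        Finset.sum_const, Finset.card_univ, ZMod.card, nsmul_eq_mul, mul_one, pow_one,
        neg_eq_zero, sub_eq_zero, Units.ne_zero, if_false, sub_zero,
        show (ε : ZMod (p ^ 1)) * (l : ZMod (p ^ 1)) ≠ 0 from (ε * l).ne_zero,
        show ((ε : ZMod (p ^ 1)) * (l : ZMod (p ^ 1)) = i) = (i = ε * l) from propext
          ⟨fun h => (Units.ext h).symm, fun h => (congrArg Units.val h).symm⟩]
      split_ifs <;> ring
    calc ∑ j : (ZMod (p ^ 1))ˣ, ∑ j' : (ZMod (p ^ 1))ˣ,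
          g j j' * (if j' * j⁻¹ ∈ E then (p : ℂ) else 0)
        = ∑ j : (ZMod (p ^ 1))ˣ, ∑ ε : E, g j ((ε : (ZMod (p ^ 1))ˣ) * j : (ZMod (p ^ 1))ˣ) * p := by
          refine Finset.sum_congr rfl fun j _ => ?_
          simp only [mul_ite, mul_zero]
          rw [← Finset.sum_filter]
          refine Finset.sum_bij' (fun j' hj' => (⟨j' * j⁻¹, (Finset.mem_filter.1 hj').2⟩ : E))
            (fun ε _ => (ε : (ZMod (p ^ 1))ˣ) * j) (fun _ _ => Finset.mem_univ _)
            (fun ε _ => Finset.mem_filter.2 ⟨Finset.mem_univ _, by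
              rw [mul_inv_cancel_right]; exact ε.2⟩)
            (fun j' _ => inv_mul_cancel_right j' j)
            (fun ε _ => Subtype.ext (mul_inv_cancel_right _ j)) (fun j' _ => ?_)
          rw [inv_mul_cancel_right]
      _ = ∑ ε : E, (p : ℂ) * ((p : ℂ) * ((if i = ε * l then 1 else 0) + 1)) := by
          rw [Finset.sum_comm]
          refine Finset.sum_congr rfl fun ε _ => ?_
          rw [← Finset.sum_mul, e2]
          ring
      _ = _ := by
          simp only [← Finset.mul_sum, Finset.sum_add_distrib, Finset.sum_const,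
            Finset.card_univ, nsmul_eq_mul, mul_one, Nat.card_eq_fintype_card]
          rw [mul_assoc]
          congr 2
          congr 1
          split_ifs with h
          · rw [Finset.sum_eq_single (⟨i * l⁻¹, h⟩ : E)]
            · simp
            · intro b _ hb
              rw [if_neg fun hh => hb (Subtype.ext ?_)]
              show (b : (ZMod (p ^ 1))ˣ) = i * l⁻¹
              conv_rhs => rw [hh, mul_inv_cancel_right]
            · simp
          · refine Finset.sum_eq_zero fun b _ => if_neg fun hh => h ?_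
            rw [hh, mul_inv_cancel_right]
            exact b.2
  -- representatives
  haveI : Fintype ((ZMod (p ^ 1))ˣ ⧸ E) := Fintype.ofFinite _
  have hout : ∀ i : (ZMod (p ^ 1))ˣ, ∀ x,
      a x ((QuotientGroup.mk i : (ZMod (p ^ 1))ˣ ⧸ E).out : (ZMod (p ^ 1))ˣ) = a x i := by
    intro i x
    obtain ⟨ε, hε⟩ := QuotientGroup.mk_out_eq_mul E i
    rw [hε, mul_comm, hconst x _ ε.2]
  set A : X → (ZMod (p ^ 1))ˣ ⧸ E → ℤ := fun x q => a x (q.out : (ZMod (p ^ 1))ˣ) with hA
  have he : Nat.card E * Fintype.card ((ZMod (p ^ 1))ˣ ⧸ E) + 1 = p := by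
    rw [← Nat.card_eq_fintype_card, ← Subgroup.index_eq_card, Subgroup.card_mul_index,
      Nat.card_eq_fintype_card, ZMod.card_units_eq_totient, pow_one, Nat.totient_prime hp.out]
    have := hp.out.two_le
    omega
  have hzero : ∀ v : X → ℂ, (∀ q, ∑ x, v x * (A x q : ℂ) = 0) ↔
      ∀ j : (ZMod (p ^ 1))ˣ, ∑ x, v x * cev (a x) j = 0 := by
    intro v
    constructor
    · intro h j
      simp only [cev, Finset.mul_sum]
      rw [Finset.sum_comm, sum_zmod_eq]
      simp only [ha, Int.cast_zero, zero_mul, mul_zero, Finset.sum_const_zero, zero_add]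
      refine Finset.sum_eq_zero fun i _ => ?_
      have h1 := h (QuotientGroup.mk i)
      simp only [hA, hout] at h1
      simp only [← mul_assoc, ← Finset.sum_mul, h1, zero_mul]
    · intro h q
      refine mul_left_cancel₀ (Nat.cast_ne_zero.2 hp.out.ne_zero : (p : ℂ) ≠ 0) ?_
      rw [mul_zero, Finset.mul_sum]
      simp only [hA, mul_left_comm (p : ℂ), mul_coeff_eq (ha _), Finset.mul_sum]
      rw [Finset.sum_comm]
      refine Finset.sum_eq_zero fun j _ => ?_
      simp only [← mul_assoc, ← Finset.sum_mul, h j, zero_mul]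
  obtain ⟨N, w, c, hc, hw, hsep, hcost⟩ := exists_functionals (a := A) hp.out he
    (fun x => by
      by_contra hcon
      push Not at hcon
      apply hrow x
      rw [cev, sum_zmod_eq]
      simp only [ha, Int.cast_zero, zero_mul, zero_add]
      refine Finset.sum_eq_zero fun i _ => ?_
      have h1 := hcon (QuotientGroup.mk i)
      simp only [hA, hout] at h1
      rw [h1]; simp)
    (fun i l => by
      simp only [hA]
      rw [hgram0]
      congr 1
      convert (if_congr ?_ rfl rfl)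
      rw [← QuotientGroup.out_eq' i, ← QuotientGroup.out_eq' l, eq_comm (a := QuotientGroup.mk _),
        QuotientGroup.eq, QuotientGroup.out_eq', QuotientGroup.out_eq', mul_comm])
  refine ⟨N, w, c, hc, fun r => (hzero fun x => (w r x : ℂ)).1 fun q => ?_, fun L hL => ?_, hcost⟩
  · exact_mod_cast hw r q
  · obtain ⟨v, hv, hvL⟩ := hL
    exact hsep L ⟨v, (hzero v).2 hv, hvL⟩

end Cfsg.Agent.BlockCount
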