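import Cfsg.Agent.BlockCount.CyclicData
import Cfsg.Agent.CharInd.Linear

/-!
A block with cyclic defect group: the characters of the nilpotent block at the subgroup of order
`p`, their parameters in the residues, and one of them fixed by the inertial group.
-/

set_option autoImplicit false
set_option linter.style.haveILetI false
set_option linter.unusedSectionVars false

namespace Cfsg.Agent.BlockCount

open MonoidAlgebra Cfsg
open Cfsg.Agent.BrauerPairs Cfsg.Agent.BrauerPairs.Nil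
open scoped ComplexConjugate Classical

universe u

variable {p : ℕ} [hp : Fact p.Prime] {M : Ideal AlgInt} [M.IsPrime] [CharP (Block.ResF M) p]

namespace CycData

variable {H : Type u} [Group H] [Fintype H] (K : CycData p M H)

/-- The parameter function of two characters of the local block. -/
noncomputable def lam (η θ : IrrCharacter K.C1) (j : ZMod (p ^ K.b)) : ℂ :=
  K.loc.A (K.pt j) (η : K.C1 → ℂ) (θ : K.C1 → ℂ)

theorem degree_eq {η θ : IrrCharacter K.C1} (hη : η ∈ K.loc.B.1) (hθ : θ ∈ K.loc.B.1) :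
    (η : K.C1 → ℂ) 1 = (θ : K.C1 → ℂ) 1 := by
  obtain ⟨χ, hχ, h0⟩ := BlockVal.exists_height_zero (p := p) (Block.pBlock_nonempty K.loc.B.2)
  obtain ⟨Φ, hΦ⟩ := K.loc.exists_equiv hχ h0
  have h1 : ¬ p ∣ orderOf (1 : K.C1) := by simpa using hp.out.one_lt.ne'
  have e : ∀ ψ : K.loc.B.1, ((ψ : IrrCharacter K.C1) : K.C1 → ℂ) 1 = (χ : K.C1 → ℂ) 1 := by
    intro ψ
    rw [hΦ ψ 1 h1, ← (BlockVal.irr_one_eq_charDegree (Φ ψ)).1,
      CharInd.irr_one_of_comm K.comm_P (Φ ψ).2, one_mul]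
  rw [e ⟨η, hη⟩, e ⟨θ, hθ⟩]

theorem height_zero {θ : IrrCharacter K.C1} (hθ : θ ∈ K.loc.B.1) :
    blockHeight p K.loc.B.1 (θ : K.C1 → ℂ) = 0 := by
  obtain ⟨χ, hχ, h0⟩ := BlockVal.exists_height_zero (p := p) (Block.pBlock_nonempty K.loc.B.2)
  have e : charDegree (θ : K.C1 → ℂ) = charDegree (χ : K.C1 → ℂ) := by
    rw [charDegree, charDegree, K.degree_eq hθ hχ]
  rw [blockHeight, e]
  exact h0

theorem card_block : Nat.card K.loc.B.1 = p ^ K.b := by
  obtain ⟨χ, hχ, h0⟩ := BlockVal.exists_height_zero (p := p) (Block.pBlock_nonempty K.loc.B.2)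
  obtain ⟨Φ, -⟩ := K.loc.exists_equiv hχ h0
  rw [Nat.card_congr Φ, ← K.card_P]
  have h := BlocksChar.sum_charDegree_sq (G := K.loc.P)
  rw [← h, Nat.card_eq_fintype_card, Fintype.card_eq_sum_ones]
  refine Finset.sum_congr rfl fun φ _ => ?_
  have h2 := (BlockVal.irr_one_eq_charDegree φ).1
  rw [CharInd.irr_one_of_comm K.comm_P φ.2] at h2
  have h3 : charDegree (φ : K.loc.P → ℂ) = 1 := by exact_mod_cast h2.symm
  rw [h3, one_pow]

theorem prop_lam {η θ : IrrCharacter K.C1} (hη : η ∈ K.loc.B.1) (hθ : θ ∈ K.loc.B.1)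
    (j : ZMod (p ^ K.b)) :
    K.loc.Prop' (K.pt j) (η : K.C1 → ℂ) (θ : K.C1 → ℂ) (K.lam η θ j) := by
  obtain ⟨ν, s, -, -, hP⟩ := K.loc.exists_irr hθ (K.height_zero hθ) hη
    (K.loc.rel_bot hθ (K.height_zero hθ) hη)
  exact hP _

theorem lam_self {θ : IrrCharacter K.C1} (hθ : θ ∈ K.loc.B.1) (j : ZMod (p ^ K.b)) :
    K.lam θ θ j = 1 := K.loc.A_self_eq_one hθ (K.height_zero hθ) _

theorem lam_trans {η ρ θ : IrrCharacter K.C1} (hη : η ∈ K.loc.B.1) (hρ : ρ ∈ K.loc.B.1)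
    (j : ZMod (p ^ K.b)) : K.lam η θ j = K.lam η ρ j * K.lam ρ θ j :=
  K.loc.A_eq_of_prop (K.prop_lam hη hρ j) _

theorem lam_hom {η θ : IrrCharacter K.C1} (hη : η ∈ K.loc.B.1) (hθ : θ ∈ K.loc.B.1) :
    K.lam η θ 0 = 1 ∧ ∀ i j, K.lam η θ (i + j) = K.lam η θ i * K.lam η θ j := by
  have h0 : K.lam η θ 0 = 1 := by
    have h := K.loc.regular_of_prop_one hη hθ (a := K.lam η θ 0) (by
      have := K.prop_lam hη hθ 0
      rwa [K.pt_zero] at this) (y := 1) (by simpa using hp.out.one_lt.ne')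
    rw [K.degree_eq hη hθ] at h
    exact (mul_eq_right₀ (Char.irr_one_ne_zero θ.2)).1 h.symm
  obtain ⟨ν, s, hs, hA, -⟩ := K.loc.exists_irr hθ (K.height_zero hθ) hη
    (K.loc.rel_bot hθ (K.height_zero hθ) hη)
  have hν : (ν : K.loc.P → ℂ) 1 = 1 := CharInd.irr_one_of_comm K.comm_P ν.2
  have hs1 : (s : ℂ) = 1 := by
    have h := hA (K.pt 0)
    rw [show K.loc.A (K.pt 0) (η : K.C1 → ℂ) (θ : K.C1 → ℂ) = _ from h0, K.pt_zero, hν,
      mul_one] at h
    exact h.symm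
  refine ⟨h0, fun i j => ?_⟩
  simp only [lam, hA, hs1, one_mul, K.pt_add,
    BlocksChar.linear_mul (Char.isCharacter_of_irr ν.2) hν]

theorem exists_exp {η θ : IrrCharacter K.C1} (hη : η ∈ K.loc.B.1) (hθ : θ ∈ K.loc.B.1) :
    ∃ i : ZMod (p ^ K.b), ∀ j, K.lam η θ j = ZMod.stdAddChar (j * i) := by
  obtain ⟨h0, hmul⟩ := K.lam_hom hη hθ
  let ψ : AddChar (ZMod (p ^ K.b)) ℂ :=
    { toFun := K.lam η θ
      map_zero_eq_one' := h0
      map_add_eq_mul' := hmul }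
  have hpow : K.lam η θ 1 ^ p ^ K.b = 1 := by
    have h1 : (p ^ K.b) • (1 : ZMod (p ^ K.b)) = 0 := by simp
    have := ψ.map_nsmul_eq_pow (p ^ K.b) 1
    rw [h1, AddChar.map_zero_eq_one] at this
    exact this.symm
  have hprim := Complex.isPrimitiveRoot_exp (p ^ K.b) (pow_ne_zero _ hp.out.ne_zero)
  obtain ⟨i, -, hi⟩ := hprim.eq_pow_of_pow_eq_one hpow
  have h1 : K.lam η θ 1 = ZMod.stdAddChar ((i : ℕ) : ZMod (p ^ K.b)) := by
    rw [← hi, show (((i : ℕ) : ZMod (p ^ K.b))) = (((i : ℤ)) : ZMod (p ^ K.b)) by simp,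
      ZMod.stdAddChar_coe, ← Complex.exp_nat_mul]
    congr 1
    push_cast
    ring
  refine ⟨(i : ℕ), fun j => ?_⟩
  have h2 : j = j.val • (1 : ZMod (p ^ K.b)) := by simp
  calc K.lam η θ j = K.lam η θ 1 ^ j.val := by
        conv_lhs => rw [h2]
        exact ψ.map_nsmul_eq_pow _ _
    _ = _ := by
        rw [h1, ← AddChar.map_nsmul_eq_pow]
        congr 1
        rw [nsmul_eq_mul, ZMod.natCast_zmod_val]

/-- The parameter of two characters. -/
noncomputable def expo (η θ : IrrCharacter K.C1) : ZMod (p ^ K.b) :=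
  if h : η ∈ K.loc.B.1 ∧ θ ∈ K.loc.B.1 then (K.exists_exp h.1 h.2).choose else 0

theorem lam_eq {η θ : IrrCharacter K.C1} (hη : η ∈ K.loc.B.1) (hθ : θ ∈ K.loc.B.1)
    (j : ZMod (p ^ K.b)) : K.lam η θ j = ZMod.stdAddChar (j * K.expo η θ) := by
  rw [expo, dif_pos ⟨hη, hθ⟩]
  exact (K.exists_exp hη hθ).choose_spec j

theorem eq_of_stdAddChar {i l : ZMod (p ^ K.b)}
    (h : ∀ j : ZMod (p ^ K.b), (ZMod.stdAddChar (j * i) : ℂ) = ZMod.stdAddChar (j * l)) : i = l := by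
  have := h 1
  rwa [one_mul, one_mul, ZMod.injective_stdAddChar.eq_iff] at this

theorem expo_trans {η ρ θ : IrrCharacter K.C1} (hη : η ∈ K.loc.B.1) (hρ : ρ ∈ K.loc.B.1)
    (hθ : θ ∈ K.loc.B.1) : K.expo η θ = K.expo η ρ + K.expo ρ θ := by
  refine K.eq_of_stdAddChar fun j => ?_
  rw [mul_add, AddChar.map_add_eq_mul, ← K.lam_eq hη hθ, ← K.lam_eq hη hρ, ← K.lam_eq hρ hθ,
    K.lam_trans hη hρ]

theorem expo_injective {η η' θ : IrrCharacter K.C1} (hη : η ∈ K.loc.B.1) (hη' : η' ∈ K.loc.B.1)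
    (hθ : θ ∈ K.loc.B.1) (h : K.expo η θ = K.expo η' θ) : η = η' := by
  by_contra hne
  have h1 := K.loc.sum_A hη hη'
  rw [if_neg hne] at h1
  have e : ∀ u : K.loc.P, K.loc.A u (η : K.C1 → ℂ) (η' : K.C1 → ℂ) = 1 := by
    intro u
    obtain ⟨j, rfl⟩ := K.pt_surjective u
    have h2 : K.lam η θ j = K.lam η' θ j := by rw [K.lam_eq hη hθ, K.lam_eq hη' hθ, h]
    rw [K.lam_trans hη hη'] at h2
    have h3 : K.lam η' θ j ≠ 0 := by
      rw [K.lam_eq hη' hθ]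
      exact AddChar.val_isUnit _ _ |>.ne_zero
    exact (mul_eq_right₀ h3).1 h2
  rw [Finset.sum_congr rfl fun u _ => e u, Finset.sum_const, Finset.card_univ, nsmul_eq_mul,
    mul_one, Nat.cast_eq_zero] at h1
  exact Fintype.card_ne_zero h1

theorem exists_expo_eq {θ : IrrCharacter K.C1} (hθ : θ ∈ K.loc.B.1) (i : ZMod (p ^ K.b)) :
    ∃ η ∈ K.loc.B.1, K.expo η θ = i := by
  have hbij : Function.Bijective (fun η : K.loc.B.1 => K.expo η θ) := by
    rw [Fintype.bijective_iff_injective_and_card]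
    refine ⟨fun a b h => Subtype.ext (K.expo_injective a.2 b.2 hθ h), ?_⟩
    rw [← Nat.card_eq_fintype_card, K.card_block, ZMod.card]
  obtain ⟨η, hη⟩ := hbij.2 i
  exact ⟨η, η.2, hη⟩

/-- The part of the continued character on the section of `K.el j`. -/
noncomputable def Φ (η : IrrCharacter K.C1) (j : ZMod (p ^ K.b)) (y : H) : ℂ :=
  Phi (K.pr (K.el j)) (K.el j) (extFun K.C1 (η : K.C1 → ℂ)) y

theorem Φ_eq_phi (η : IrrCharacter K.C1) {j : ZMod (p ^ K.b)} (hj : j ≠ 0) (y : K.C1) :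
    K.Φ η j y = Phi (K.loc.pair (K.pt j)) ((K.pt j : K.C1)) (η : K.C1 → ℂ) y :=
  phi_lifts (K.lifts_pair hj) (K.pt j : K.C1) y _

theorem pr_el_fst (j : ZMod (p ^ K.b)) : (K.pr (K.el j)).1 = Subgroup.zpowers (K.el j) :=
  K.pr_fst (K.el_mem j)

theorem mem_pair_centralizer {j : ZMod (p ^ K.b)} {y : H}
    (hy : y ∈ Subgroup.centralizer (Subgroup.zpowers (K.el j) : Set H)) (hyC : y ∈ K.C1) :
    (⟨y, hyC⟩ : K.C1) ∈ Subgroup.centralizer ((K.loc.pair (K.pt j)).1 : Set K.C1) := by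
  show (⟨y, hyC⟩ : K.C1) ∈ Subgroup.centralizer
    (Subgroup.zpowers ((K.pt j : K.loc.P) : K.C1) : Set K.C1)
  rw [Brauer.centralizer_zpowers_eq, Subgroup.mem_centralizer_singleton_iff]
  refine Subtype.ext ?_
  exact (Subgroup.mem_centralizer_iff.1 hy _ (Subgroup.mem_zpowers _)).symm

theorem Φ_eq_lam {η θ : IrrCharacter K.C1} (hη : η ∈ K.loc.B.1) (hθ : θ ∈ K.loc.B.1)
    {j : ZMod (p ^ K.b)} (hj : j ≠ 0) {y : H}
    (hy : y ∈ Subgroup.centralizer (Subgroup.zpowers (K.el j) : Set H)) (hreg : ¬ p ∣ orderOf y) :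
    K.Φ η j y = K.lam η θ j * K.Φ θ j y := by
  have hyC := K.centralizer_el_le hj hy
  rw [show y = ((⟨y, hyC⟩ : K.C1) : H) from rfl, K.Φ_eq_phi η hj, K.Φ_eq_phi θ hj]
  exact K.prop_lam hη hθ j _ (K.mem_pair_centralizer hy hyC) (by rwa [Subgroup.orderOf_mk])

theorem Φ_eq_zero {η : IrrCharacter K.C1} (hη : η ∉ K.loc.B.1) {j : ZMod (p ^ K.b)} (hj : j ≠ 0)
    {y : H} (hy : y ∈ Subgroup.centralizer (Subgroup.zpowers (K.el j) : Set H))
    (hreg : ¬ p ∣ orderOf y) : K.Φ η j y = 0 := by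
  have hyC := K.centralizer_el_le hj hy
  rw [show y = ((⟨y, hyC⟩ : K.C1) : H) from rfl, K.Φ_eq_phi η hj]
  obtain ⟨i, hi⟩ := K.exists_orderOf j
  have hu : orderOf ((K.pt j : K.loc.P) : K.C1) = p ^ i := by
    rw [← Subgroup.orderOf_coe, K.coe_pt, hi]
  refine phi_eq_zero K.isPModular hu (B := (⟨_, Block.isPBlock_blockOf η⟩ : Blk M K.C1))
    (Block.mem_blockOf_self η) (K.loc.pair (K.pt j)).2 (fun hpair => hη ?_)
    (K.mem_pair_centralizer hy hyC) (by rwa [Subgroup.orderOf_mk])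
  have h := (existsUnique_pairOf (blockSysTop M) (pairSys M K.C1) (p := p)
    (a := K.loc.pair (K.pt j)) (K.loc.isPGroup.to_le (K.loc.zpowers_le _))).unique hpair
      (K.loc.pairOf (K.pt j))
  rw [← h]
  exact Block.mem_blockOf_self η

/-- The norm of the part. -/
theorem secReg_self {θ : IrrCharacter K.C1} (hθ : θ ∈ K.loc.B.1) {j : ZMod (p ^ K.b)}
    (hj : j ≠ 0) :
    secReg p (K.pr (K.el j)) (K.el j) (extFun K.C1 (θ : K.C1 → ℂ)) (extFun K.C1 (θ : K.C1 → ℂ)) =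
      (Nat.card (Subgroup.centralizer (Subgroup.zpowers (K.el j) : Set H)) : ℂ) /
        ((p ^ K.b : ℕ) : ℂ) := by
  set u := K.pt j with hu
  have hA : K.loc.A u (θ : K.C1 → ℂ) (θ : K.C1 → ℂ) = 1 := K.lam_self hθ j
  have hmap : (Subgroup.centralizer ((K.loc.pair u).1 : Set K.C1)).map K.C1.subtype =
      Subgroup.centralizer (Subgroup.zpowers (K.el j) : Set H) := by
    have h := K.lifts_pair hj
    rw [centralizer_map_subtype (by rw [h.1]; exact h.2.1), h.1, K.pr_el_fst]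
  have hcard : Nat.card (Subgroup.centralizer (Subgroup.zpowers (u : K.C1) : Set K.C1)) =
      Nat.card (Subgroup.centralizer (Subgroup.zpowers (K.el j) : Set H)) := by
    rw [← hmap, Subgroup.card_map_of_injective K.C1.subtype_injective]
    rfl
  have hinf : Nat.card ↥(K.loc.P ⊓ Subgroup.centralizer (Subgroup.zpowers (u : K.C1) : Set K.C1)) =
      p ^ K.b := by
    rw [inf_of_le_left (le_centralizer_of_abelian (fun a ha b hb =>
      congrArg Subtype.val (K.comm_P ⟨a, ha⟩ ⟨b, hb⟩)) (K.loc.zpowers_le u)), K.card_P]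
  have hsec : secReg p (K.pr (K.el j)) (K.el j) (extFun K.C1 (θ : K.C1 → ℂ))
        (extFun K.C1 (θ : K.C1 → ℂ)) =
      secReg p (K.loc.pair u) ((u : K.C1)) (θ : K.C1 → ℂ) (θ : K.C1 → ℂ) := by
    rw [secReg, secReg]
    symm
    refine Finset.sum_bij (fun y _ => (y : H)) (fun y hy => ?_) (fun _ _ _ _ h => Subtype.ext h)
      (fun g hg => ?_) (fun y _ => ?_)
    · obtain ⟨-, hy1, hy2⟩ := Finset.mem_filter.1 hy
      refine Finset.mem_filter.2 ⟨Finset.mem_univ _, ?_, by rwa [Subgroup.orderOf_coe]⟩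
      rw [K.pr_el_fst, ← hmap]
      exact ⟨y, hy1, rfl⟩
    · obtain ⟨-, hg1, hg2⟩ := Finset.mem_filter.1 hg
      rw [K.pr_el_fst] at hg1
      refine ⟨⟨g, K.centralizer_el_le hj hg1⟩, Finset.mem_filter.2 ⟨Finset.mem_univ _,
        K.mem_pair_centralizer hg1 _, by rwa [Subgroup.orderOf_mk]⟩, rfl⟩
    · rw [← K.Φ_eq_phi θ hj]
      rfl
  rw [NilData.A, hinf, hcard] at hA
  rw [hsec, eq_div_iff (Nat.cast_ne_zero.2 (pow_ne_zero _ hp.out.ne_zero))]
  have hC : (Nat.card (Subgroup.centralizer (Subgroup.zpowers (K.el j) : Set H)) : ℂ) ≠ 0 :=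
    Nat.cast_ne_zero.2 Nat.card_pos.ne'
  field_simp at hA
  linear_combination hA

theorem exists_Φ_ne_zero {θ : IrrCharacter K.C1} (hθ : θ ∈ K.loc.B.1) {j : ZMod (p ^ K.b)}
    (hj : j ≠ 0) : ∃ y ∈ Subgroup.centralizer (Subgroup.zpowers (K.el j) : Set H),
      ¬ p ∣ orderOf y ∧ K.Φ θ j y ≠ 0 := by
  by_contra h
  push Not at h
  have h1 := K.secReg_self hθ hj
  rw [secReg, Finset.sum_eq_zero fun y hy => ?_] at h1
  · exact div_ne_zero (Nat.cast_ne_zero.2 Nat.card_pos.ne')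
      (Nat.cast_ne_zero.2 (pow_ne_zero _ hp.out.ne_zero)) h1.symm
  · obtain ⟨-, hy1, hy2⟩ := Finset.mem_filter.1 hy
    rw [K.pr_el_fst] at hy1
    rw [show Phi (K.pr (K.el j)) (K.el j) (extFun K.C1 (θ : K.C1 → ℂ)) y = K.Φ θ j y from rfl,
      h y hy1 hy2, zero_mul]

theorem Φ_conj {t : H} (ht : t ∈ K.T) {r : ZMod (p ^ K.b)}
    (hr : ∀ j, t * K.el j * t⁻¹ = K.el (r * j)) {η η' : IrrCharacter K.C1}
    (h : ∀ g, extFun K.C1 (η' : K.C1 → ℂ) (t * g * t⁻¹) = extFun K.C1 (η : K.C1 → ℂ) g)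
    (j : ZMod (p ^ K.b)) (y : H) : K.Φ η' (r * j) (t * y * t⁻¹) = K.Φ η j y := by
  have hc := K.cjRel_pr ht (K.el_mem j)
  rw [hr] at hc
  unfold Φ
  rw [← hr]
  rw [hr] at *
  have h1 := phi_conj_fun hc (K.el j) h y
  rwa [hr] at h1

theorem exists_conjugate {t : H} (ht : t ∈ K.T) {η : IrrCharacter K.C1} (hη : η ∈ K.loc.B.1) :
    ∃ η' ∈ K.loc.B.1,
      ∀ g, extFun K.C1 (η' : K.C1 → ℂ) (t * g * t⁻¹) = extFun K.C1 (η : K.C1 → ℂ) g := by
  have hN := K.T_le_normalizer_C1 ht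
  have hmap : K.C1.map (MulAut.conj t).toMonoidHom = K.C1 := map_conj_of_mem_normalizer hN
  refine ⟨⟨_, isIrrCharacter_comp_conjEquiv t hmap η.2⟩, ?_, fun g => ?_⟩
  · have hz : K.z ∈ Subgroup.zpowers K.x := K.el_mem _
    have hc := K.cjRel_pr ht hz
    have htz : Subgroup.zpowers (t * K.z * t⁻¹) = Subgroup.zpowers K.z := by
      obtain ⟨r, hr⟩ := K.exists_mul ht
      refine Subgroup.eq_of_le_of_card_ge (Subgroup.zpowers_le.2 ?_) ?_
      · rw [z, hr, show (r : ZMod (p ^ K.b)) * ((p ^ (K.b - 1) : ℕ) : ZMod (p ^ K.b)) =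
          (((r : ZMod (p ^ K.b)).val : ℕ) : ZMod (p ^ K.b)) * ((p ^ (K.b - 1) : ℕ) : ZMod (p ^ K.b))
            by rw [ZMod.natCast_zmod_val], ← K.el_pow]
        exact Subgroup.npow_mem_zpowers _ _
      · rw [Nat.card_zpowers, Nat.card_zpowers]
        exact le_of_eq (MulEquiv.orderOf_eq (MulAut.conj t) K.z).symm
    rw [← K.eq_pr ((Subgroup.mem_normalizer_iff.1 (K.T_le ht) K.z).1 hz)
      (a := ⟨Subgroup.zpowers K.z, K.loc.B⟩) (by rw [K.loc_block]; exact K.pr_sle _) htz.symm,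
      ← K.loc_block] at hc
    refine mem_of_cj t hmap hc.2 hη fun c c' he => ?_
    show (η : K.C1 → ℂ) ((conjEquiv t hmap).symm c') = _
    refine congrArg _ (Subtype.ext ?_)
    show t⁻¹ * (c' : H) * t = c
    rw [he]; group
  · by_cases hg : g ∈ K.C1
    · have hg' : t * g * t⁻¹ ∈ K.C1 := (Subgroup.mem_normalizer_iff.1 hN g).1 hg
      refine (extFun_coe K.C1 _ ⟨t * g * t⁻¹, hg'⟩).trans
        (Eq.trans ?_ (extFun_coe K.C1 _ ⟨g, hg⟩).symm)
      show (η : K.C1 → ℂ) ((conjEquiv t hmap).symm _) = _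
      refine congrArg _ (Subtype.ext ?_)
      show t⁻¹ * (t * g * t⁻¹) * t = g
      group
    · rw [extFun, extFun, dif_neg hg, dif_neg fun h => hg ((Subgroup.mem_normalizer_iff.1 hN g).2 h)]

theorem expo_conj {t : H} (ht : t ∈ K.T) {r : (ZMod (p ^ K.b))ˣ}
    (hr : ∀ j, t * K.el j * t⁻¹ = K.el ((r : ZMod (p ^ K.b)) * j))
    {η η' θ θ' : IrrCharacter K.C1} (hη : η ∈ K.loc.B.1) (hη' : η' ∈ K.loc.B.1)
    (hθ : θ ∈ K.loc.B.1) (hθ' : θ' ∈ K.loc.B.1)
    (h : ∀ g, extFun K.C1 (η' : K.C1 → ℂ) (t * g * t⁻¹) = extFun K.C1 (η : K.C1 → ℂ) g)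
    (h' : ∀ g, extFun K.C1 (θ' : K.C1 → ℂ) (t * g * t⁻¹) = extFun K.C1 (θ : K.C1 → ℂ) g) :
    (r : ZMod (p ^ K.b)) * K.expo η' θ' = K.expo η θ := by
  refine K.eq_of_stdAddChar fun j => ?_
  by_cases hj : j = 0
  · simp [hj]
  obtain ⟨y, hy, hreg, hne⟩ := K.exists_Φ_ne_zero hθ hj
  have hrj : (r : ZMod (p ^ K.b)) * j ≠ 0 := fun h0 => hj ((Units.mul_right_eq_zero r).1 h0)
  have hy' : t * y * t⁻¹ ∈
      Subgroup.centralizer (Subgroup.zpowers (K.el ((r : ZMod (p ^ K.b)) * j)) : Set H) := by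
    rw [Brauer.centralizer_zpowers_eq, Subgroup.mem_centralizer_singleton_iff, ← hr]
    have := Subgroup.mem_centralizer_iff.1 hy _ (Subgroup.mem_zpowers (K.el j))
    calc t * y * t⁻¹ * (t * K.el j * t⁻¹) = t * (y * K.el j) * t⁻¹ := by group
      _ = t * (K.el j * y) * t⁻¹ := by rw [this]
      _ = t * K.el j * t⁻¹ * (t * y * t⁻¹) := by group
  have hreg' : ¬ p ∣ orderOf (t * y * t⁻¹) := by
    rwa [show t * y * t⁻¹ = MulAut.conj t y from rfl, MulEquiv.orderOf_eq]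
  have h1 := K.Φ_eq_lam hη' hθ' hrj hy' hreg'
  rw [K.Φ_conj ht hr h, K.Φ_conj ht hr h', K.Φ_eq_lam hη hθ hj hy hreg,
    K.lam_eq hη hθ, K.lam_eq hη' hθ'] at h1
  have h2 := mul_right_cancel₀ hne h1
  rw [h2]
  congr 1
  ring

/-- A character of the local block fixed by the inertial group. -/
theorem exists_fixed : ∃ θ ∈ K.loc.B.1, ∀ t ∈ K.T, ∀ g,
    extFun K.C1 (θ : K.C1 → ℂ) (t * g * t⁻¹) = extFun K.C1 (θ : K.C1 → ℂ) g := by
  -- the fixed elements form a subgroup containing the centralizer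
  suffices h : ∀ t ∈ K.T, ∃ θ ∈ K.loc.B.1, ∀ g,
      extFun K.C1 (θ : K.C1 → ℂ) (t * g * t⁻¹) = extFun K.C1 (θ : K.C1 → ℂ) g by
    haveI := K.normal_centralizer
    obtain ⟨hcyc, -⟩ := CyclicAct.isCyclic_quotient K.isPGroup (fun h => K.z_ne_one
      (Subgroup.mem_bot.1 (h ▸ K.el_mem _))) K.T_le K.not_dvd_relIndex
    obtain ⟨n₀, hn₀⟩ := IsCyclic.exists_generator
      (α := K.T ⧸ (Subgroup.centralizer (Subgroup.zpowers K.x : Set H)).subgroupOf K.T)
    obtain ⟨n, rfl⟩ := QuotientGroup.mk_surjective n₀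
    obtain ⟨θ, hθ, hfix⟩ := h n n.2
    let S : Subgroup H :=
      { carrier := {t | ∀ g, extFun K.C1 (θ : K.C1 → ℂ) (t * g * t⁻¹) =
          extFun K.C1 (θ : K.C1 → ℂ) g}
        one_mem' := fun g => by simp
        mul_mem' := fun {a b} ha hb g => by
          rw [show a * b * g * (a * b)⁻¹ = a * (b * g * b⁻¹) * a⁻¹ by group, ha, hb]
        inv_mem' := fun {a} ha g => by
          have := ha (a⁻¹ * g * a⁻¹⁻¹)
          rw [show a * (a⁻¹ * g * a⁻¹⁻¹) * a⁻¹ = g by group] at this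
          exact this.symm }
    have hC : Subgroup.centralizer (Subgroup.zpowers K.x : Set H) ≤ S := by
      intro a ha g
      have haC : a ∈ K.C1 := centralizer_anti (Subgroup.zpowers_le.2 (K.el_mem _)) ha
      by_cases hg : g ∈ K.C1
      · exact ((extFun_coe K.C1 _ ((⟨a, haC⟩ : K.C1) * ⟨g, hg⟩ * (⟨a, haC⟩ : K.C1)⁻¹)).trans
          (Char.irr_isClassFunction θ.2 _ _)).trans (extFun_coe K.C1 _ ⟨g, hg⟩).symm
      · rw [extFun, extFun, dif_neg hg, dif_neg]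
        intro hc
        apply hg
        simpa [mul_assoc] using mul_mem (mul_mem (inv_mem haC) hc) haC
    refine ⟨θ, hθ, fun t ht => show t ∈ S from ?_⟩
    obtain ⟨k, hk⟩ := Subgroup.mem_zpowers_iff.1 (hn₀ (QuotientGroup.mk ⟨t, ht⟩))
    rw [← QuotientGroup.mk_zpow, QuotientGroup.eq, Subgroup.mem_subgroupOf] at hk
    have h1 : ((n ^ k : K.T) : H) ∈ S := by
      rw [SubgroupClass.coe_zpow]
      exact S.zpow_mem hfix k
    have h2 := S.mul_mem h1 (hC hk)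
    simpa using h2
  intro t ht
  obtain ⟨θ₁, hθ₁⟩ := Block.pBlock_nonempty K.loc.B.2
  obtain ⟨r, hr⟩ := K.exists_mul ht
  by_cases htc : t ∈ Subgroup.centralizer (Subgroup.zpowers K.x : Set H)
  · refine ⟨θ₁, hθ₁, fun g => ?_⟩
    have haC : t ∈ K.C1 := centralizer_anti (Subgroup.zpowers_le.2 (K.el_mem _)) htc
    by_cases hg : g ∈ K.C1
    · exact ((extFun_coe K.C1 _ ((⟨t, haC⟩ : K.C1) * ⟨g, hg⟩ * (⟨t, haC⟩ : K.C1)⁻¹)).trans
        (Char.irr_isClassFunction θ₁.2 _ _)).trans (extFun_coe K.C1 _ ⟨g, hg⟩).symm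
    · rw [extFun, extFun, dif_neg hg, dif_neg]
      intro hc
      apply hg
      simpa [mul_assoc] using mul_mem (mul_mem (inv_mem haC) hc) haC
  · obtain ⟨θ₁', hθ₁', h₁⟩ := K.exists_conjugate ht hθ₁
    set κ := K.expo θ₁' θ₁
    have hinj : Function.Injective (fun l : ZMod (p ^ K.b) => ((r : ZMod (p ^ K.b)) - 1) * l) := by
      intro a b hab
      by_contra hne
      apply htc
      refine K.fix_centralizes ht (sub_ne_zero.2 hne) ?_
      rw [hr]
      congr 1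
      linear_combination hab
    obtain ⟨i, hi⟩ := (Finite.injective_iff_surjective.1 hinj) ((r : ZMod (p ^ K.b)) * κ)
    simp only at hi
    obtain ⟨η, hη, hηi⟩ := K.exists_expo_eq hθ₁ i
    obtain ⟨η', hη', h'⟩ := K.exists_conjugate ht hη
    have h2 := K.expo_conj ht hr hη hη' hθ₁ hθ₁' h' h₁
    have h3 := K.expo_trans hη' hθ₁' hθ₁
    have h4 : η' = η := by
      refine K.expo_injective hη' hη hθ₁ ?_
      have h5 : (r : ZMod (p ^ K.b)) * K.expo η' θ₁ = (r : ZMod (p ^ K.b)) * K.expo η θ₁ := by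
        rw [h3, mul_add, h2, hηi]
        linear_combination -hi
      exact (IsUnit.mul_right_inj r.isUnit).1 h5
    subst h4
    exact ⟨η', hη', h'⟩

end CycData

end Cfsg.Agent.BlockCount
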