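import Cfsg.Agent.BlkChar.CycloAvg
import Cfsg.Agent.BlockCount.Functionals

/-!
Columns of sums of roots of unity indexed by the non-zero residues, invariant under a group of
units acting freely, with the orthogonality relations of the generalized decomposition numbers of a
block with cyclic defect group: their coefficient matrix and the separating functionals.
-/

set_option autoImplicit false
set_option linter.style.haveILetI false
set_option linter.unusedSectionVars false

namespace Cfsg.Agent.BlockCount.CyclicColumns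

open Cfsg.Agent.BlkChar.Cyclo
open scoped ComplexConjugate Classical

universe u

variable {n : ℕ} [NeZero n]

theorem sum_stdAddChar (c : ZMod n) :
    ∑ d : ZMod n, (ZMod.stdAddChar (d * c) : ℂ) = if c = 0 then (n : ℂ) else 0 := by
  rw [AddChar.sum_mulShift c (ZMod.isPrimitive_stdAddChar _), ZMod.card]
  split_ifs <;> simp

/-- The coefficients from the values at the non-zero residues. -/
theorem mul_coeff_eq {a : ZMod n → ℤ} (ha : a 0 = 0) (i : ZMod n) :
    (n : ℂ) * (a i : ℂ) = ∑ j ∈ Finset.univ.erase 0,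
      cev a j * ((ZMod.stdAddChar (-(i * j)) : ℂ) - 1) := by
  have h : ∑ d : ZMod n, cev a d * ((ZMod.stdAddChar (-(i * d)) : ℂ) - 1) =
      (n : ℂ) * (a i : ℂ) := by
    simp only [cev, Finset.sum_mul]
    rw [Finset.sum_comm]
    have e : ∀ t d : ZMod n, (a t : ℂ) * ZMod.stdAddChar (d * t) *
        ((ZMod.stdAddChar (-(i * d)) : ℂ) - 1) =
        (a t : ℂ) * (ZMod.stdAddChar (d * (t - i)) : ℂ) -
          (a t : ℂ) * (ZMod.stdAddChar (d * t) : ℂ) := by
      intro t d
      rw [show d * (t - i) = d * t + -(i * d) by ring, AddChar.map_add_eq_mul]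
      ring
    simp only [e, Finset.sum_sub_distrib, ← Finset.mul_sum, sum_stdAddChar, sub_eq_zero,
      mul_ite, mul_zero]
    rw [Finset.sum_ite_eq' Finset.univ i, Finset.sum_ite_eq' Finset.univ (0 : ZMod n)]
    simp [ha, mul_comm]
  rw [← h, Finset.sum_erase]
  simp

variable {X : Type u} [Fintype X] (E : Subgroup (ZMod n)ˣ)

/-- The orbits on the non-zero residues. -/
def orbitSetoid : Setoid {j : ZMod n // j ≠ 0} where
  r i l := ∃ ε ∈ E, (ε : ZMod n) * i.1 = l.1
  iseqv := by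
    refine ⟨fun i => ⟨1, E.one_mem, by simp⟩, ?_, ?_⟩
    · rintro i l ⟨ε, hε, h⟩
      exact ⟨ε⁻¹, E.inv_mem hε, by rw [← h, ← mul_assoc, Units.inv_mul, one_mul]⟩
    · rintro i j l ⟨ε, hε, h⟩ ⟨δ, hδ, h'⟩
      exact ⟨δ * ε, E.mul_mem hδ hε, by rw [Units.val_mul, mul_assoc, h, h']⟩

/-- The separating functionals of such a system of columns. -/
theorem exists_functionals_cyclic (hn : 1 < n)
    (hfree : ∀ ε ∈ E, ∀ l : ZMod n, l ≠ 0 → (ε : ZMod n) * l = l → ε = 1)
    (a : X → ZMod n → ℤ) (ha : ∀ x, a x 0 = 0)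
    (hinv : ∀ x, ∀ ε ∈ E, ∀ j : ZMod n, j ≠ 0 → cev (a x) ((ε : ZMod n) * j) = cev (a x) j)
    (hnorm : ∀ j : ZMod n, j ≠ 0 → ∑ x, cev (a x) j * conj (cev (a x) j) = (n : ℂ))
    (horth : ∀ j j' : ZMod n, j ≠ 0 → j' ≠ 0 → (¬ ∃ ε ∈ E, (ε : ZMod n) * j = j') →
      ∑ x, cev (a x) j * conj (cev (a x) j') = 0)
    (hrow : ∀ x, ∃ j : ZMod n, j ≠ 0 ∧ cev (a x) j ≠ 0)
    (hker : ∃ v : X → ℂ, v ≠ 0 ∧ ∀ j : ZMod n, j ≠ 0 → ∑ x, v x * cev (a x) j = 0) :
    ∃ (N : ℕ) (w : Fin N → X → ℤ) (c : Fin N → ℝ),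
      (∀ r, 0 ≤ c r) ∧
      (∀ r (j : ZMod n), j ≠ 0 → ∑ x, (w r x : ℂ) * cev (a x) j = 0) ∧
      (∀ L : X → ℂ, (∃ v : X → ℂ, (∀ j : ZMod n, j ≠ 0 → ∑ x, v x * cev (a x) j = 0) ∧
          ∑ x, v x * L x ≠ 0) →
        1 ≤ ∑ r ∈ Finset.univ.filter (fun r => ∑ x, (w r x : ℂ) * L x ≠ 0), c r) ∧
      ∑ r, c r * ∑ x, (w r x : ℝ) ^ 2 ≤ n := by
  haveI : Fact (1 < n) := ⟨hn⟩
  have hn0 : (n : ℂ) ≠ 0 := Nat.cast_ne_zero.2 (NeZero.ne n)
  -- the products of the columns
  have hmul0 : ∀ (ε : (ZMod n)ˣ) {j : ZMod n}, j ≠ 0 → (ε : ZMod n) * j ≠ 0 := fun ε j hj h =>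
    hj (by simpa [← mul_assoc] using congrArg ((↑ε⁻¹ : ZMod n) * ·) h)
  have hprod : ∀ j j' : ZMod n, j ≠ 0 → j' ≠ 0 →
      ∑ x, cev (a x) j * conj (cev (a x) j') =
        ∑ ε : E, if ((ε : (ZMod n)ˣ) : ZMod n) * j = j' then (n : ℂ) else 0 := by
    intro j j' hj hj'
    by_cases h : ∃ ε ∈ E, (ε : ZMod n) * j = j'
    · obtain ⟨ε, hε, rfl⟩ := h
      rw [Finset.sum_eq_single (⟨ε, hε⟩ : E)]
      · rw [if_pos rfl, ← hnorm j hj]
        exact Finset.sum_congr rfl fun x _ => by rw [hinv x ε hε j hj]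
      · intro δ _ hne
        refine if_neg fun hδ => hne (Subtype.ext ?_)
        have h1 := hfree (ε⁻¹ * δ) (E.mul_mem (E.inv_mem hε) δ.2) j hj (by
          rw [Units.val_mul, mul_assoc, hδ, ← mul_assoc, Units.inv_mul, one_mul])
        exact (inv_mul_eq_one.1 h1).symm
      · simp
    · rw [horth j j' hj hj' h, eq_comm]
      exact Finset.sum_eq_zero fun ε _ => if_neg fun hε => h ⟨ε, ε.2, hε⟩
  have hconst : ∀ x (ε : (ZMod n)ˣ), ε ∈ E → ∀ i : ZMod n, a x ((ε : ZMod n) * i) = a x i := by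
    intro x ε hε i
    apply Int.cast_injective (α := ℂ)
    refine mul_left_cancel₀ hn0 ?_
    rw [mul_coeff_eq (ha x), mul_coeff_eq (ha x)]
    refine Finset.sum_nbij' (fun j => (ε : ZMod n) * j) (fun j => (↑ε⁻¹ : ZMod n) * j)
      (fun j hj => Finset.mem_erase.2 ⟨hmul0 ε (Finset.mem_erase.1 hj).1, Finset.mem_univ _⟩)
      (fun j hj => Finset.mem_erase.2 ⟨hmul0 ε⁻¹ (Finset.mem_erase.1 hj).1, Finset.mem_univ _⟩)
      (fun j _ => by simp [← mul_assoc]) (fun j _ => by simp [← mul_assoc]) fun j hj => ?_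
    rw [hinv x ε hε j (Finset.mem_erase.1 hj).1, show (ε : ZMod n) * i * j = i * (ε * j) by ring]
  have hgram0 : ∀ i l : ZMod n, i ≠ 0 → l ≠ 0 → ∑ x, a x i * a x l =
      (if ∃ ε ∈ E, (ε : ZMod n) * l = i then 1 else 0) + (Nat.card E : ℤ) := by
    intro i l hi hl
    apply Int.cast_injective (α := ℂ)
    push_cast
    refine mul_left_cancel₀ (mul_ne_zero hn0 hn0) ?_
    set g : ZMod n → ZMod n → ℂ := fun d t =>
      ((ZMod.stdAddChar (-(i * d)) : ℂ) - 1) * ((ZMod.stdAddChar (l * t) : ℂ) - 1) with hg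
    have e1 : ∀ x, (n : ℂ) * n * ((a x i : ℂ) * (a x l : ℂ)) =
        ∑ j ∈ Finset.univ.erase 0, ∑ j' ∈ Finset.univ.erase 0,
          g j j' * (cev (a x) j * conj (cev (a x) j')) := by
      intro x
      have h1 := mul_coeff_eq (ha x) i
      have h2 := congrArg conj (mul_coeff_eq (ha x) l)
      simp only [map_mul, map_natCast, map_intCast, map_sum, map_sub, map_one,
        conj_stdAddChar, neg_neg] at h2
      rw [show (n : ℂ) * n * ((a x i : ℂ) * (a x l : ℂ)) =
        ((n : ℂ) * (a x i : ℂ)) * ((n : ℂ) * (a x l : ℂ)) by ring, h1, h2, Finset.sum_mul_sum]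
      exact Finset.sum_congr rfl fun j _ => Finset.sum_congr rfl fun j' _ => by simp only [hg]; ring
    have e2 : ∀ ε : E, ∑ j ∈ Finset.univ.erase (0 : ZMod n), g j (((ε : (ZMod n)ˣ) : ZMod n) * j) =
        (n : ℂ) * ((if ((ε : (ZMod n)ˣ) : ZMod n) * l = i then 1 else 0) + 1) := by
      intro ε
      rw [Finset.sum_erase _ (by simp [hg])]
      have e : ∀ d, g d (((ε : (ZMod n)ˣ) : ZMod n) * d) = (ZMod.stdAddChar (d * (((ε : (ZMod n)ˣ) : ZMod n) * l - i)) : ℂ) -
          ZMod.stdAddChar (d * (-i)) - ZMod.stdAddChar (d * (((ε : (ZMod n)ˣ) : ZMod n) * l)) + 1 := by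
        intro d
        simp only [hg]
        rw [show d * (((ε : (ZMod n)ˣ) : ZMod n) * l - i) = -(i * d) + l * (((ε : (ZMod n)ˣ) : ZMod n) * d) by ring,
          AddChar.map_add_eq_mul, show d * (-i) = -(i * d) by ring,
          show d * (((ε : (ZMod n)ˣ) : ZMod n) * l) = l * (((ε : (ZMod n)ˣ) : ZMod n) * d) by ring]
        ring
      simp only [e, Finset.sum_add_distrib, Finset.sum_sub_distrib, sum_stdAddChar,
        Finset.sum_const, Finset.card_univ, ZMod.card, nsmul_eq_mul, mul_one,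
        neg_eq_zero, sub_eq_zero, if_neg hi, if_neg (hmul0 (ε : (ZMod n)ˣ) hl), sub_zero]
      split_ifs <;> ring
    calc (n : ℂ) * n * ∑ x, (a x i : ℂ) * (a x l : ℂ)
        = ∑ j ∈ Finset.univ.erase 0, ∑ j' ∈ Finset.univ.erase 0,
            g j j' * ∑ x, cev (a x) j * conj (cev (a x) j') := by
          rw [Finset.mul_sum, Finset.sum_congr rfl fun x _ => e1 x, Finset.sum_comm]
          refine Finset.sum_congr rfl fun j _ => ?_
          rw [Finset.sum_comm]
          exact Finset.sum_congr rfl fun j' _ => (Finset.mul_sum _ _ _).symm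
      _ = ∑ ε : E, ∑ j ∈ Finset.univ.erase (0 : ZMod n), g j (((ε : (ZMod n)ˣ) : ZMod n) * j) * n := by
          rw [Finset.sum_comm (s := (Finset.univ : Finset E))]
          refine Finset.sum_congr rfl fun j hj => ?_
          rw [Finset.sum_congr rfl fun j' hj' => by
            rw [hprod j j' (Finset.mem_erase.1 hj).1 (Finset.mem_erase.1 hj').1, Finset.mul_sum]]
          rw [Finset.sum_comm]
          refine Finset.sum_congr rfl fun ε _ => ?_
          rw [Finset.sum_eq_single (((ε : (ZMod n)ˣ) : ZMod n) * j)]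
          · rw [if_pos rfl]
          · intro b _ hb; rw [if_neg (Ne.symm hb), mul_zero]
          · intro hb
            exact absurd (Finset.mem_erase.2 ⟨hmul0 ε (Finset.mem_erase.1 hj).1,
              Finset.mem_univ _⟩) hb
      _ = ∑ ε : E, (n : ℂ) * n * ((if ((ε : (ZMod n)ˣ) : ZMod n) * l = i then 1 else 0) + 1) := by
          refine Finset.sum_congr rfl fun ε _ => ?_
          rw [← Finset.sum_mul, e2]
          ring
      _ = _ := by
          rw [← Finset.mul_sum, Finset.sum_add_distrib, Finset.sum_const, Finset.card_univ,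
            nsmul_eq_mul, mul_one, Nat.card_eq_fintype_card]
          congr 2
          split_ifs with h
          · obtain ⟨ε, hε, he⟩ := h
            rw [Finset.sum_eq_single (⟨ε, hε⟩ : E)]
            · simp [he]
            · intro δ _ hne
              refine if_neg fun hδ => hne (Subtype.ext ?_)
              have h1 := hfree (ε⁻¹ * δ) (E.mul_mem (E.inv_mem hε) δ.2) l hl (by
                rw [Units.val_mul, mul_assoc, hδ, ← he, ← mul_assoc, Units.inv_mul, one_mul])
              exact (inv_mul_eq_one.1 h1).symm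
            · simp
          · exact Finset.sum_eq_zero fun ε _ => if_neg fun hε => h ⟨ε, ε.2, hε⟩
  -- representatives
  letI := orbitSetoid E
  set ι := Quotient (orbitSetoid E) with hι
  haveI : Fintype ι := Fintype.ofFinite _
  haveI : Nonempty ι := ⟨Quotient.mk _ ⟨1, one_ne_zero⟩⟩
  set r : ι → {j : ZMod n // j ≠ 0} := fun q => q.out with hr
  have hrel : ∀ i : {j : ZMod n // j ≠ 0}, ∃ ε ∈ E, (ε : ZMod n) * (r (Quotient.mk _ i)).1 = i.1 :=
    fun i => Quotient.exact (s := orbitSetoid E) (Quotient.out_eq (Quotient.mk (orbitSetoid E) i))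
  have hruniq : ∀ q q' : ι, (∃ ε ∈ E, (ε : ZMod n) * (r q').1 = (r q).1) → q = q' := by
    intro q q' h
    rw [← Quotient.out_eq q, ← Quotient.out_eq q']
    exact (Quotient.sound (s := orbitSetoid E) h).symm
  have he : Nat.card E * Fintype.card ι + 1 = n := by
    have hbij : Function.Bijective (fun εq : E × ι =>
        (⟨((εq.1 : (ZMod n)ˣ) : ZMod n) * (r εq.2).1, hmul0 εq.1 (r εq.2).2⟩ : {j : ZMod n // j ≠ 0})) := by
      constructor
      · rintro ⟨ε, q⟩ ⟨δ, q'⟩ h
        have h' : ((ε : (ZMod n)ˣ) : ZMod n) * (r q).1 = ((δ : (ZMod n)ˣ) : ZMod n) * (r q').1 := congrArg Subtype.val h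
        have hqq : q = q' := hruniq q q' ⟨(ε : (ZMod n)ˣ)⁻¹ * δ, E.mul_mem (E.inv_mem ε.2) δ.2, by
          rw [Units.val_mul, mul_assoc, ← h', ← mul_assoc, Units.inv_mul, one_mul]⟩
        subst hqq
        refine Prod.ext (Subtype.ext ?_) rfl
        have h1 := hfree ((δ : (ZMod n)ˣ)⁻¹ * ε) (E.mul_mem (E.inv_mem δ.2) ε.2) (r q).1 (r q).2 (by
          rw [Units.val_mul, mul_assoc, h', ← mul_assoc, Units.inv_mul, one_mul])
        exact (inv_mul_eq_one.1 h1).symm
      · intro i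
        obtain ⟨ε, hε, h⟩ := hrel i
        exact ⟨(⟨ε, hε⟩, Quotient.mk _ i), Subtype.ext h⟩
    have h1 := Nat.card_congr (Equiv.ofBijective _ hbij)
    rw [Nat.card_prod, Nat.card_eq_fintype_card (α := ι),
      Nat.card_eq_fintype_card (α := {j : ZMod n // j ≠ 0}), Fintype.card_subtype_compl,
      Fintype.card_subtype_eq, ZMod.card] at h1
    omega
  set A : X → ι → ℤ := fun x q => a x (r q).1 with hA
  have hout : ∀ (i : {j : ZMod n // j ≠ 0}) x, A x (Quotient.mk _ i) = a x i.1 := by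
    intro i x
    obtain ⟨ε, hε, h⟩ := hrel i
    simp only [hA]
    rw [← h, hconst x ε hε]
  have hzero : ∀ v : X → ℂ, (∀ q, ∑ x, v x * (A x q : ℂ) = 0) ↔
      ∀ j : ZMod n, j ≠ 0 → ∑ x, v x * cev (a x) j = 0 := by
    intro v
    constructor
    · intro h j _
      simp only [cev, Finset.mul_sum]
      rw [Finset.sum_comm]
      refine Finset.sum_eq_zero fun i _ => ?_
      by_cases hi : i = 0
      · simp [hi, ha]
      · have h1 := h (Quotient.mk _ ⟨i, hi⟩)
        simp only [hout] at h1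
        simp only [← mul_assoc, ← Finset.sum_mul, h1, zero_mul]
    · intro h q
      refine mul_left_cancel₀ hn0 ?_
      rw [mul_zero, Finset.mul_sum]
      simp only [hA, mul_left_comm (n : ℂ), mul_coeff_eq (ha _), Finset.mul_sum]
      rw [Finset.sum_comm]
      refine Finset.sum_eq_zero fun j hj => ?_
      simp only [← mul_assoc, ← Finset.sum_mul, h j (Finset.mem_erase.1 hj).1, zero_mul]
  obtain ⟨v₀, hv₀, hv₀'⟩ := hker
  obtain ⟨N, w, c, hc, hw, hsep, hcost⟩ := exists_functionals' (a := A) (e := Nat.card E)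
    ⟨v₀, hv₀, (hzero v₀).2 hv₀'⟩ he
    (fun x => by
      by_contra hcon
      push Not at hcon
      obtain ⟨j, hj, hne⟩ := hrow x
      apply hne
      simp only [cev]
      refine Finset.sum_eq_zero fun i _ => ?_
      by_cases hi : i = 0
      · simp [hi, ha]
      · have h1 := hcon (Quotient.mk _ ⟨i, hi⟩)
        rw [hout] at h1
        rw [h1]; simp)
    (fun q q' => by
      simp only [hA]
      rw [hgram0 _ _ (r q).2 (r q').2]
      congr 1
      by_cases hqq : q = q'
      · rw [if_pos hqq, if_pos]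
        subst hqq
        exact ⟨1, E.one_mem, by simp⟩
      · rw [if_neg hqq, if_neg fun h => hqq (hruniq q q' h)])
  refine ⟨N, w, c, hc, fun s j hj => (hzero fun x => (w s x : ℂ)).1 (fun q => ?_) j hj,
    fun L hL => ?_, hcost⟩
  · exact_mod_cast hw s q
  · obtain ⟨v, hv, hvL⟩ := hL
    exact hsep L ⟨v, (hzero v).2 hv, hvL⟩

end Cfsg.Agent.BlockCount.CyclicColumns
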