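import Cfsg.Agent.BlockCount.LiftPhi
import Cfsg.Agent.BrauerPairs.CyclicAct

/-!
A block with cyclic defect group: the subpairs on the non-trivial subgroups of the defect group,
and the nilpotent block at the subgroup of order `p`.
-/

set_option autoImplicit false
set_option linter.style.haveILetI false
set_option linter.unusedSectionVars false

namespace Cfsg.Agent.BlockCount

open MonoidAlgebra Cfsg
open Cfsg.Agent.BrauerPairs Cfsg.Agent.BrauerPairs.Nil
open scoped ComplexConjugate Classical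

universe u

variable {p : ℕ} [hp : Fact p.Prime] {M : Ideal AlgInt} [M.IsPrime] [CharP (Block.ResF M) p]

/-- A block with a maximal pair on a non-trivial cyclic group. -/
structure CycData (p : ℕ) (M : Ideal AlgInt) (H : Type u) [Group H] [Fintype H] where
  /-- The block. -/
  β : Blk M H
  /-- A generator of the defect group. -/
  x : H
  /-- The exponent. -/
  b : ℕ
  /-- The block of the centralizer. -/
  c : Blk M (Subgroup.centralizer (Subgroup.zpowers x : Set H))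
  isPModular : IsPModular p M
  isMax : IsMaximalBrauerPair p M β.1 (Subgroup.zpowers x) c.1
  hord : orderOf x = p ^ b
  hb : b ≠ 0

namespace CycData

variable {H : Type u} [Group H] [Fintype H] (K : CycData p M H)

theorem isPGroup : IsPGroup p (Subgroup.zpowers K.x) := K.isMax.1.1.1

theorem maxPair : MaxPair (blockSysTop M) (pairSys M H) p K.β ⟨Subgroup.zpowers K.x, K.c⟩ :=
  maxPair_of K.isMax

theorem commute : ∀ g ∈ Subgroup.zpowers K.x, ∀ h ∈ Subgroup.zpowers K.x, g * h = h * g := by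
  intro g hg h hh
  obtain ⟨i, rfl⟩ := Subgroup.mem_zpowers_iff.1 hg
  obtain ⟨l, rfl⟩ := Subgroup.mem_zpowers_iff.1 hh
  exact (Commute.zpow_zpow_self _ _ _).eq

/-- The element with exponent `j`. -/
noncomputable def el (j : ZMod (p ^ K.b)) : H := K.x ^ j.val

theorem el_intCast (i : ℤ) : K.el (i : ZMod (p ^ K.b)) = K.x ^ i := by
  rw [el, ← zpow_natCast, zpow_eq_zpow_iff_modEq, K.hord, ← ZMod.intCast_eq_intCast_iff]
  simp

theorem el_zero : K.el 0 = 1 := by rw [el, ZMod.val_zero, pow_zero]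

theorem el_one : K.el 1 = K.x := by
  rw [← Int.cast_one (R := ZMod (p ^ K.b)), K.el_intCast, zpow_one]

theorem el_add (i j : ZMod (p ^ K.b)) : K.el (i + j) = K.el i * K.el j := by
  have e : i + j = (((i.val : ℤ) + (j.val : ℤ) : ℤ) : ZMod (p ^ K.b)) := by simp
  rw [e, K.el_intCast, zpow_add, zpow_natCast, zpow_natCast]
  rfl

theorem el_pow (j : ZMod (p ^ K.b)) (k : ℕ) : K.el j ^ k = K.el ((k : ZMod (p ^ K.b)) * j) := by
  induction k with
  | zero => simp [el_zero]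
  | succ k ih => rw [pow_succ, ih, ← K.el_add, Nat.cast_succ, add_mul, one_mul]

theorem el_injective : Function.Injective K.el := by
  intro i j h
  rw [el, el, pow_eq_pow_iff_modEq, K.hord, ← ZMod.natCast_eq_natCast_iff] at h
  simpa using h

theorem el_ne_one {j : ZMod (p ^ K.b)} (hj : j ≠ 0) : K.el j ≠ 1 := fun h =>
  hj (K.el_injective (h.trans K.el_zero.symm))

theorem el_mem (j : ZMod (p ^ K.b)) : K.el j ∈ Subgroup.zpowers K.x :=
  Subgroup.npow_mem_zpowers _ _

theorem exists_el {g : H} (hg : g ∈ Subgroup.zpowers K.x) : ∃ j, K.el j = g := by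
  obtain ⟨i, rfl⟩ := Subgroup.mem_zpowers_iff.1 hg
  exact ⟨i, K.el_intCast i⟩

theorem orderOf_el_dvd (j : ZMod (p ^ K.b)) : orderOf (K.el j) ∣ p ^ K.b := by
  rw [el]
  exact (orderOf_pow_dvd _).trans (dvd_of_eq K.hord)

theorem el_pow_eq_one (j : ZMod (p ^ K.b)) : K.el j ^ p ^ K.b = 1 :=
  orderOf_dvd_iff_pow_eq_one.1 (K.orderOf_el_dvd j)

theorem exists_orderOf (j : ZMod (p ^ K.b)) : ∃ i, orderOf (K.el j) = p ^ i := by
  obtain ⟨i, -, hi⟩ := (Nat.dvd_prime_pow hp.out).1 (K.orderOf_el_dvd j)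
  exact ⟨i, hi⟩

theorem one_lt : 1 < p ^ K.b := Nat.one_lt_pow K.hb hp.out.one_lt

/-- The element of order `p`. -/
noncomputable def z : H := K.el (((p ^ (K.b - 1) : ℕ) : ℕ) : ZMod (p ^ K.b))

theorem z_ne_one : K.z ≠ 1 := by
  refine K.el_ne_one fun h => ?_
  rw [ZMod.natCast_eq_zero_iff] at h
  have h1 := Nat.le_of_dvd (pow_pos hp.out.pos _) h
  have h2 : p ^ (K.b - 1) < p ^ K.b :=
    Nat.pow_lt_pow_right hp.out.one_lt (Nat.sub_lt (Nat.pos_of_ne_zero K.hb) one_pos)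
  omega

theorem z_mem_zpowers {j : ZMod (p ^ K.b)} (hj : j ≠ 0) : K.z ∈ Subgroup.zpowers (K.el j) := by
  have hv : j.val ≠ 0 := by rwa [ne_eq, ZMod.val_eq_zero]
  obtain ⟨s, t, ht, hst⟩ := Nat.exists_eq_pow_mul_and_not_dvd hv p hp.out.ne_one
  have hs : s < K.b := by
    by_contra hle
    push Not at hle
    have h1 : p ^ K.b ≤ p ^ s * t := by
      refine (Nat.pow_le_pow_right hp.out.pos hle).trans (Nat.le_mul_of_pos_right _ ?_)
      exact Nat.pos_of_ne_zero fun h => ht (h ▸ dvd_zero p)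
    have := j.val_lt
    omega
  have hu : IsUnit ((t : ℕ) : ZMod (p ^ K.b)) := by
    rw [ZMod.isUnit_iff_coprime]
    exact (Nat.coprime_comm.1 (hp.out.coprime_iff_not_dvd.2 ht)).pow_right _
  obtain ⟨w, hw⟩ := hu
  have h1 : ((p ^ (K.b - 1) : ℕ) : ZMod (p ^ K.b)) =
      (((p : ZMod (p ^ K.b)) ^ (K.b - 1 - s) * (↑w⁻¹ : ZMod (p ^ K.b))).val : ℕ) * j := by
    rw [ZMod.natCast_zmod_val]
    conv_rhs => rw [← ZMod.natCast_zmod_val j, hst]
    push_cast
    rw [← hw]
    rw [show (p : ZMod (p ^ K.b)) ^ (K.b - 1 - s) * (↑w⁻¹ : ZMod (p ^ K.b)) *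
        ((p : ZMod (p ^ K.b)) ^ s * (↑w : ZMod (p ^ K.b))) =
        (p : ZMod (p ^ K.b)) ^ (K.b - 1 - s) * (p : ZMod (p ^ K.b)) ^ s *
          ((↑w⁻¹ : ZMod (p ^ K.b)) * ↑w) by ring, Units.inv_mul, mul_one, ← pow_add,
      show K.b - 1 - s + s = K.b - 1 by omega]
  rw [z, h1, ← K.el_pow]
  exact Subgroup.npow_mem_zpowers _ _

/-- The centralizer of the element of order `p`. -/
abbrev C1 : Subgroup H := Subgroup.centralizer (Subgroup.zpowers K.z : Set H)

theorem centralizer_el_le {j : ZMod (p ^ K.b)} (hj : j ≠ 0) :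
    Subgroup.centralizer (Subgroup.zpowers (K.el j) : Set H) ≤ K.C1 :=
  centralizer_anti (Subgroup.zpowers_le.2 (K.z_mem_zpowers hj))

theorem zpowers_le_C1 : Subgroup.zpowers K.x ≤ K.C1 :=
  le_centralizer_of_abelian K.commute (Subgroup.zpowers_le.2 (K.el_mem _))

/-- The subpair on the subgroup generated by an element of the defect group. -/
noncomputable def pr (w : H) : PairIdx M H :=
  if h : w ∈ Subgroup.zpowers K.x then
    ⟨Subgroup.zpowers w, (existsUnique_sle (S := pairSys M H) (b := ⟨Subgroup.zpowers K.x, K.c⟩)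
      K.isPGroup (Subgroup.zpowers_le.2 h)).exists.choose⟩
  else ⟨Subgroup.zpowers K.x, K.c⟩

theorem pr_fst {w : H} (h : w ∈ Subgroup.zpowers K.x) : (K.pr w).1 = Subgroup.zpowers w := by
  rw [pr, dif_pos h]

theorem pr_sle (w : H) :
    SLE (pairSys M H) p (K.pr w) ⟨Subgroup.zpowers K.x, K.c⟩ := by
  unfold pr
  split_ifs with h
  · exact (existsUnique_sle (S := pairSys M H) (b := ⟨Subgroup.zpowers K.x, K.c⟩)
      K.isPGroup (Subgroup.zpowers_le.2 h)).exists.choose_spec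
  · exact Relation.ReflTransGen.refl

theorem eq_pr {a : PairIdx M H} {w : H} (h : w ∈ Subgroup.zpowers K.x)
    (ha : SLE (pairSys M H) p a ⟨Subgroup.zpowers K.x, K.c⟩) (h1 : a.1 = Subgroup.zpowers w) :
    a = K.pr w := by
  have h2 := K.pr_sle w
  have h3 : a.1 = (K.pr w).1 := h1.trans (K.pr_fst h).symm
  revert h2 h3
  generalize K.pr w = a'
  intro h2 h3
  obtain ⟨Q, f⟩ := a
  obtain ⟨R, g⟩ := a'
  obtain rfl : Q = R := h3
  rw [(existsUnique_sle (S := pairSys M H) (b := ⟨Subgroup.zpowers K.x, K.c⟩) K.isPGroup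
    ha.le).unique ha h2]

theorem pr_pairOf (w : H) : PairOf (blockSysTop M) (pairSys M H) p K.β (K.pr w) :=
  (K.pr_sle w).pairOf_iff.1 K.maxPair.1

/-- The inertial group. -/
noncomputable abbrev T : Subgroup H := stab (⟨Subgroup.zpowers K.x, K.c⟩ : PairIdx M H)

theorem T_le : K.T ≤ Subgroup.normalizer (Subgroup.zpowers K.x : Set H) := stab_le_normalizer _

theorem normal_centralizer :
    ((Subgroup.centralizer (Subgroup.zpowers K.x : Set H)).subgroupOf K.T).Normal :=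
  Subgroup.normal_subgroupOf_of_le_normalizer
    (K.T_le.trans (normalizer_le_normalizer_centralizer _))

theorem not_dvd_relIndex :
    ¬ p ∣ (Subgroup.centralizer (Subgroup.zpowers K.x : Set H)).relIndex K.T :=
  not_dvd_relIndex_stab K.isMax K.commute

theorem fix_centralizes {t : H} (ht : t ∈ K.T) {j : ZMod (p ^ K.b)} (hj : j ≠ 0)
    (hfix : t * K.el j * t⁻¹ = K.el j) :
    t ∈ Subgroup.centralizer (Subgroup.zpowers K.x : Set H) := by
  haveI := K.normal_centralizer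
  exact CyclicAct.mem_centralizer_of_fix K.isPGroup K.T_le K.not_dvd_relIndex ht (K.el_mem j)
    (K.el_ne_one hj) hfix

theorem exists_mul {t : H} (ht : t ∈ K.T) :
    ∃ r : (ZMod (p ^ K.b))ˣ, ∀ j, t * K.el j * t⁻¹ = K.el ((r : ZMod (p ^ K.b)) * j) := by
  have key : ∀ t ∈ K.T, ∃ r : ZMod (p ^ K.b), ∀ j, t * K.el j * t⁻¹ = K.el (r * j) := by
    intro t ht
    obtain ⟨r, hr⟩ := K.exists_el ((Subgroup.mem_normalizer_iff.1 (K.T_le ht) K.x).1
      (Subgroup.mem_zpowers _))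
    refine ⟨r, fun j => ?_⟩
    rw [el, ← conj_pow, ← hr, K.el_pow, ZMod.natCast_zmod_val, mul_comm]
  obtain ⟨r, hr⟩ := key t ht
  obtain ⟨r', hr'⟩ := key t⁻¹ (inv_mem ht)
  have h : r' * r = 1 := by
    apply K.el_injective
    rw [← hr' r, ← mul_one r, ← hr 1]
    group
  exact ⟨⟨r, r', by rw [mul_comm]; exact h, h⟩, hr⟩

/-- The group of multipliers. -/
noncomputable def E : Subgroup (ZMod (p ^ K.b))ˣ where
  carrier := {r | ∃ t ∈ K.T, ∀ j, t * K.el j * t⁻¹ = K.el ((r : ZMod (p ^ K.b)) * j)}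
  one_mem' := ⟨1, K.T.one_mem, fun j => by simp⟩
  mul_mem' := by
    rintro r r' ⟨t, ht, h⟩ ⟨t', ht', h'⟩
    refine ⟨t * t', mul_mem ht ht', fun j => ?_⟩
    rw [Units.val_mul, mul_assoc (r : ZMod (p ^ K.b)), ← h, ← h']
    group
  inv_mem' := by
    rintro r ⟨t, ht, h⟩
    refine ⟨t⁻¹, inv_mem ht, fun j => ?_⟩
    have h1 := h ((↑r⁻¹ : ZMod (p ^ K.b)) * j)
    rw [← mul_assoc, Units.mul_inv, one_mul] at h1
    rw [← h1]
    group

theorem free {r : (ZMod (p ^ K.b))ˣ} (hr : r ∈ K.E) {l : ZMod (p ^ K.b)} (hl : l ≠ 0)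
    (h : (r : ZMod (p ^ K.b)) * l = l) : r = 1 := by
  obtain ⟨t, ht, htj⟩ := hr
  have hc := K.fix_centralizes ht hl (by rw [htj, h])
  apply Units.ext
  apply K.el_injective
  rw [← mul_one (r : ZMod (p ^ K.b)), ← htj, Units.val_one, K.el_one,
    ← Subgroup.mem_centralizer_iff.1 hc K.x (Subgroup.mem_zpowers _), mul_inv_cancel_right]

theorem cjRel_pr {t : H} (ht : t ∈ K.T) {w : H} (hw : w ∈ Subgroup.zpowers K.x) :
    CjRel (pairSys M H) t (K.pr w) (K.pr (t * w * t⁻¹)) := by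
  obtain ⟨a, ha⟩ := exists_cjRel (S := pairSys M H) t (K.pr w)
  have hs := (K.pr_sle w).cjRel ha (cjRel_self_of_mem_stab ht)
  have h1 : a.1 = Subgroup.zpowers (t * w * t⁻¹) := by
    rw [← ha.1, K.pr_fst hw]
    exact MonoidHom.map_zpowers _ _
  rwa [K.eq_pr ((Subgroup.mem_normalizer_iff.1 (K.T_le ht) w).1 hw) hs h1] at ha

theorem T_le_normalizer_C1 : K.T ≤ Subgroup.normalizer (K.C1 : Set H) := by
  intro t ht
  refine normalizer_le_normalizer_centralizer _ ?_
  have hz : t * K.z * t⁻¹ ∈ Subgroup.zpowers K.z := by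
    obtain ⟨r, hr⟩ := K.exists_mul ht
    rw [z, hr, show (r : ZMod (p ^ K.b)) * ((p ^ (K.b - 1) : ℕ) : ZMod (p ^ K.b)) =
      (((r : ZMod (p ^ K.b)).val : ℕ) : ZMod (p ^ K.b)) * ((p ^ (K.b - 1) : ℕ) : ZMod (p ^ K.b)) by
        rw [ZMod.natCast_zmod_val], ← K.el_pow]
    exact Subgroup.npow_mem_zpowers _ _
  have hmap : (Subgroup.zpowers K.z).map (MulAut.conj t).toMonoidHom = Subgroup.zpowers K.z := by
    refine Subgroup.eq_of_le_of_card_ge ?_ ?_
    · rw [MonoidHom.map_zpowers]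
      exact Subgroup.zpowers_le.2 hz
    · rw [Subgroup.card_map_of_injective (MulAut.conj t).injective]
  refine Subgroup.mem_normalizer_iff.2 fun g => ?_
  constructor
  · intro hg
    rw [← hmap]
    exact ⟨g, hg, rfl⟩
  · intro hg
    rw [← hmap] at hg
    obtain ⟨g', hg', he⟩ := hg
    exact (MulAut.conj t).injective he ▸ hg'

/-- The block at the subgroup of order `p`, seen in its centralizer. -/
theorem exists_loc : ∃ D : NilData p M K.C1,
    Lifts K.C1 ⟨D.P, D.e⟩ ⟨Subgroup.zpowers K.x, K.c⟩ ∧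
      (⟨Subgroup.zpowers K.z, D.B⟩ : PairIdx M H) = K.pr K.z := by
  have hzx : K.z ∈ Subgroup.zpowers K.x := K.el_mem _
  obtain ⟨f, hf, -⟩ := existsUnique_sle (S := pairSys M H) (b := ⟨Subgroup.zpowers K.x, K.c⟩)
    K.isPGroup (Subgroup.zpowers_le.2 hzx)
  have hpr : (⟨Subgroup.zpowers K.z, f⟩ : PairIdx M H) = K.pr K.z := K.eq_pr hzx hf rfl
  have hn : NSub (pairSys M H) p ⟨Subgroup.zpowers K.z, f⟩ ⟨Subgroup.zpowers K.x, K.c⟩ :=
    nsub_of_sle_of_le_normalizer K.isPGroup hf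
      (K.zpowers_le_C1.trans (Subgroup.centralizer_le_normalizer _))
  have hnil : IsNilpotentBlock p M f.1 := by
    rw [isNilpotentBlock_local_iff K.isMax K.commute hn]
    rintro t ⟨ht, htz⟩
    have hp0 : (((p ^ (K.b - 1) : ℕ)) : ZMod (p ^ K.b)) ≠ 0 := fun h =>
      K.z_ne_one (by rw [z, h, el_zero])
    refine K.fix_centralizes ht hp0 ?_
    show t * K.z * t⁻¹ = K.z
    rw [← Subgroup.mem_centralizer_iff.1 htz K.z (Subgroup.mem_zpowers _), mul_inv_cancel_right]
  obtain ⟨a', ha', hmax⟩ := exists_local_maxPair K.isMax K.commute hn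
  exact ⟨⟨f, a'.1, a'.2, K.isPModular, hmax, hnil⟩, ha', hpr⟩

/-- The local data. -/
noncomputable def loc : NilData p M K.C1 := K.exists_loc.choose

theorem loc_lifts : Lifts K.C1 ⟨K.loc.P, K.loc.e⟩ ⟨Subgroup.zpowers K.x, K.c⟩ :=
  K.exists_loc.choose_spec.1

theorem loc_block : (⟨Subgroup.zpowers K.z, K.loc.B⟩ : PairIdx M H) = K.pr K.z :=
  K.exists_loc.choose_spec.2

theorem loc_map : K.loc.P.map K.C1.subtype = Subgroup.zpowers K.x := K.loc_lifts.1

/-- The element with exponent `j` in the local defect group. -/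
noncomputable def pt (j : ZMod (p ^ K.b)) : K.loc.P :=
  ⟨⟨K.el j, K.zpowers_le_C1 (K.el_mem j)⟩, by
    have h : K.el j ∈ K.loc.P.map K.C1.subtype := by rw [K.loc_map]; exact K.el_mem j
    obtain ⟨y, hy, he⟩ := h
    exact (show y = ⟨K.el j, K.zpowers_le_C1 (K.el_mem j)⟩ from Subtype.ext he) ▸ hy⟩

theorem coe_pt (j : ZMod (p ^ K.b)) : (((K.pt j : K.C1)) : H) = K.el j := rfl

theorem pt_add (i j : ZMod (p ^ K.b)) : K.pt (i + j) = K.pt i * K.pt j :=
  Subtype.ext (Subtype.ext (K.el_add i j))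

theorem pt_zero : K.pt 0 = 1 := Subtype.ext (Subtype.ext K.el_zero)

theorem pt_surjective : Function.Surjective K.pt := by
  intro u
  have h : ((u : K.C1) : H) ∈ Subgroup.zpowers K.x := by
    rw [← K.loc_map]
    exact ⟨u, u.2, rfl⟩
  obtain ⟨j, hj⟩ := K.exists_el h
  exact ⟨j, Subtype.ext (Subtype.ext hj)⟩

theorem pt_injective : Function.Injective K.pt := fun i j h =>
  K.el_injective (congrArg (fun u : K.loc.P => ((u : K.C1) : H)) h)

theorem card_P : Nat.card K.loc.P = p ^ K.b := by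
  rw [← Nat.card_congr (Equiv.ofBijective _ ⟨K.pt_injective, K.pt_surjective⟩),
    Nat.card_eq_fintype_card, ZMod.card]

theorem comm_P (u v : K.loc.P) : u * v = v * u := by
  obtain ⟨i, rfl⟩ := K.pt_surjective u
  obtain ⟨j, rfl⟩ := K.pt_surjective v
  rw [← K.pt_add, ← K.pt_add, add_comm]

theorem lifts_pair {j : ZMod (p ^ K.b)} (hj : j ≠ 0) :
    Lifts K.C1 (K.loc.pair (K.pt j)) (K.pr (K.el j)) := by
  have h1 : (K.loc.pair (K.pt j)).1.map K.C1.subtype = Subgroup.zpowers (K.el j) := by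
    show (Subgroup.zpowers ((K.pt j : K.loc.P) : K.C1)).map K.C1.subtype = _
    rw [MonoidHom.map_zpowers]
    rfl
  obtain ⟨a, ha⟩ := exists_lifts_up (L := K.C1) (K.loc.pair (K.pt j))
    (by rw [h1]; exact K.centralizer_el_le hj)
  obtain ⟨a', ha', hs⟩ := ha.sle (K.loc.pair_sle (K.pt j))
  have h2 := ha'.unique K.loc_lifts
  subst h2
  rwa [K.eq_pr (K.el_mem j) hs (ha.1.symm.trans h1)] at ha

end CycData

end Cfsg.Agent.BlockCount
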