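import Cfsg.Agent.BlockCount.CyclicChars
import Cfsg.Agent.BlockCount.CyclicColumns
import Cfsg.Agent.BlockHeight.MajorPairs
import Cfsg.Agent.BlkChar.RankBound

/-!
A block with cyclic defect group: integral combinations of its members vanishing on the singular
elements which separate, with total weighted norm at most the order of the defect group.
-/

set_option autoImplicit false
set_option linter.style.haveILetI false
set_option linter.unusedSectionVars false

namespace Cfsg.Agent.BlockCount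

open MonoidAlgebra Cfsg
open Cfsg.Agent.BrauerPairs Cfsg.Agent.BrauerPairs.Nil
open Cfsg.Agent.BlkChar.Contrib Cfsg.Agent.BlkChar.Cyclo
open scoped ComplexConjugate Classical
open Cfsg.Agent.Brauer (regSum)

universe u

variable {p : ℕ} [hp : Fact p.Prime] {M : Ideal AlgInt} [M.IsPrime] [CharP (Block.ResF M) p]

/-- The part as a sum over the centralizer only. -/
theorem phi_congr {H : Type u} [Group H] [Fintype H] (a : PairIdx M H) (w : H) {φ ψ : H → ℂ}
    {y : H} (h : ∀ c ∈ Subgroup.centralizer (a.1 : Set H), φ (w * c * y) = ψ (w * c * y)) :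
    Phi a w φ y = Phi a w ψ y := by
  rw [phi_eq_sum, phi_eq_sum]
  refine Finset.sum_congr rfl fun c _ => ?_
  by_cases hc : c ∈ Subgroup.centralizer (a.1 : Set H)
  · rw [h c hc]
  · rw [subgroupBlockCoeff, dif_neg hc, zero_mul, zero_mul]

theorem phi_sum {H : Type u} [Group H] [Fintype H] {ι : Type*} (s : Finset ι) (a : PairIdx M H)
    (w : H) (f : ι → ℂ) (φ : ι → H → ℂ) (y : H) :
    Phi a w (fun g => ∑ i ∈ s, f i * φ i g) y = ∑ i ∈ s, f i * Phi a w (φ i) y := by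
  simp only [phi_eq_sum, Finset.mul_sum]
  rw [Finset.sum_comm]
  exact Finset.sum_congr rfl fun c _ => Finset.sum_congr rfl fun i _ => by ring

/-- The column orthogonality on one section. -/
theorem sum_secReg_mul {H : Type u} [Group H] [Fintype H] (hM : IsPModular p M) {w : H}
    {a b : PairIdx M H} (ha : a.1 = Subgroup.zpowers w)
    (hb : b.1 = Subgroup.zpowers w) (hw : ∃ i, orderOf w = p ^ i) (ψ : IrrCharacter H) :
    ∑ χ : IrrCharacter H, secReg p a w (χ : H → ℂ) (ψ : H → ℂ) *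
        conj (secReg p b w (χ : H → ℂ) (ψ : H → ℂ)) =
      (Nat.card (Subgroup.centralizer (Subgroup.zpowers w : Set H)) : ℂ) *
        (if a = b then secReg p a w (ψ : H → ℂ) (ψ : H → ℂ) else 0) := by
  obtain ⟨Q, f⟩ := a
  obtain ⟨R, g⟩ := b
  simp only at ha hb
  subst ha hb
  obtain ⟨i, hi⟩ := hw
  haveI := Fintype.ofFinite (Subgroup.centralizer (Subgroup.zpowers w : Set H))
  have hwC : ∀ g : H, g ∈ Subgroup.centralizer (Subgroup.zpowers w : Set H) ↔ g * w = w * g :=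
    fun g => by rw [Brauer.centralizer_zpowers_eq, Subgroup.mem_centralizer_singleton_iff]
  have hsec : ∀ (e : Blk M (Subgroup.centralizer (Subgroup.zpowers w : Set H))) (χ : IrrCharacter H),
      secReg p (⟨Subgroup.zpowers w, e⟩ : PairIdx M H) w (χ : H → ℂ) (ψ : H → ℂ) =
        regSum p (fun y : (Subgroup.centralizer (Subgroup.zpowers w : Set H)) => (χ : H → ℂ) (w * y))
          (fun y : (Subgroup.centralizer (Subgroup.zpowers w : Set H)) => Phi (⟨Subgroup.zpowers w, e⟩ : PairIdx M H) w (ψ : H → ℂ) y) := by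
    intro e χ
    rw [secReg, Brauer.regSum, ← sum_regular_centralizer (C := Subgroup.centralizer (Subgroup.zpowers w : Set H))
      (fun y : H => (χ : H → ℂ) (w * y) *
        conj (Phi (⟨Subgroup.zpowers w, e⟩ : PairIdx M H) w (ψ : H → ℂ) y))]
    simp only [← sum_phi (M := M) (Subgroup.zpowers w) w (χ : H → ℂ), Finset.sum_mul]
    rw [Finset.sum_comm (t := (Finset.univ : Finset (Blk M (Subgroup.centralizer (Subgroup.zpowers w : Set H))))), Finset.sum_eq_single e]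
    · intro e' _ hne
      exact cross_eq_zero hM hi hne χ ψ
    · simp
  have hcl : IsClassFunction (Subgroup.centralizer (Subgroup.zpowers w : Set H))
      (fun y : (Subgroup.centralizer (Subgroup.zpowers w : Set H)) => Phi (⟨Subgroup.zpowers w, g⟩ : PairIdx M H) w (ψ : H → ℂ) y) := by
    intro y c
    have h := phi_cjRel (cjRel_self_of_mem_stab
      (centralizer_le_stab (⟨Subgroup.zpowers w, g⟩ : PairIdx M H) c.2)) w
      (Char.irr_isClassFunction ψ.2) (y : H)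
    rwa [show (c : H) * w * (c : H)⁻¹ = w by
      rw [(hwC c).1 c.2, mul_inv_cancel_right]] at h
  rw [Finset.sum_congr rfl fun χ _ => by rw [hsec f χ, hsec g χ],
    section_orth (p := p) hwC ⟨i, hi⟩ hcl, Brauer.regSum,
    ← sum_regular_centralizer (C := Subgroup.centralizer (Subgroup.zpowers w : Set H)) (fun y : H =>
      Phi (⟨Subgroup.zpowers w, g⟩ : PairIdx M H) w (ψ : H → ℂ) y *
        conj (Phi (⟨Subgroup.zpowers w, f⟩ : PairIdx M H) w (ψ : H → ℂ) y))]
  congr 1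
  by_cases hfg : f = g
  · subst hfg
    rw [if_pos rfl]
    rfl
  · rw [if_neg (show ¬ ((⟨Subgroup.zpowers w, f⟩ : PairIdx M H) = ⟨Subgroup.zpowers w, g⟩) from
      fun h => hfg (eq_of_heq (Sigma.mk.inj_iff.1 h).2))]
    exact cross_eq_zero hM hi (Ne.symm hfg) ψ ψ

namespace CycData

variable {H : Type u} [Group H] [Fintype H] (K : CycData p M H)

/-- The fixed character. -/
noncomputable def θ₀ : IrrCharacter K.C1 := K.exists_fixed.choose

theorem θ₀_mem : K.θ₀ ∈ K.loc.B.1 := K.exists_fixed.choose_spec.1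

theorem θ₀_fixed {t : H} (ht : t ∈ K.T) (g : H) :
    extFun K.C1 (K.θ₀ : K.C1 → ℂ) (t * g * t⁻¹) = extFun K.C1 (K.θ₀ : K.C1 → ℂ) g :=
  K.exists_fixed.choose_spec.2 t ht g

/-- The coefficients. -/
noncomputable def coeffA (χ : IrrCharacter H) (i : ZMod (p ^ K.b)) : ℤ :=
  ∑ η ∈ Finset.univ.filter (fun η => η ∈ K.loc.B.1),
    if K.expo η K.θ₀ = i then (mult K.C1 χ η : ℤ) else 0

/-- The coefficients, normalized at zero. -/
noncomputable def coeff₀ (χ : IrrCharacter H) (i : ZMod (p ^ K.b)) : ℤ :=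
  K.coeffA χ i - K.coeffA χ 0

theorem cev_coeff₀ (χ : IrrCharacter H) {j : ZMod (p ^ K.b)} (hj : j ≠ 0) :
    cev (K.coeff₀ χ) j = cev (K.coeffA χ) j := by
  simp only [cev, coeff₀, Int.cast_sub, sub_mul, Finset.sum_sub_distrib, ← Finset.mul_sum]
  rw [sub_eq_self]
  refine mul_eq_zero_of_right _ ?_
  rw [Finset.sum_congr rfl fun d _ => by rw [mul_comm j d],
    CyclicColumns.sum_stdAddChar, if_neg hj]

/-- The parts of the characters are the multiples of one. -/
theorem phi_eq_cev (χ : IrrCharacter H) {j : ZMod (p ^ K.b)} (hj : j ≠ 0) {y : H}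
    (hy : y ∈ Subgroup.centralizer (Subgroup.zpowers (K.el j) : Set H)) (hreg : ¬ p ∣ orderOf y) :
    Phi (K.pr (K.el j)) (K.el j) (χ : H → ℂ) y = cev (K.coeff₀ χ) j * K.Φ K.θ₀ j y := by
  have hle := K.centralizer_el_le hj
  have h1 : Phi (K.pr (K.el j)) (K.el j) (χ : H → ℂ) y =
      ∑ η : IrrCharacter K.C1, (mult K.C1 χ η : ℂ) * K.Φ η j y := by
    unfold Φ
    rw [← phi_sum]
    refine phi_congr _ _ fun c hc => ?_
    rw [K.pr_el_fst] at hc
    have hm : K.el j * c * y ∈ K.C1 :=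
      mul_mem (mul_mem (K.zpowers_le_C1 (K.el_mem j)) (hle hc)) (hle hy)
    refine (restrict_eq χ (⟨_, hm⟩ : K.C1)).trans ?_
    refine Finset.sum_congr rfl fun η _ => ?_
    rw [← extFun_coe K.C1 (η : K.C1 → ℂ) ⟨_, hm⟩]
  rw [h1, K.cev_coeff₀ χ hj]
  simp only [cev, coeffA, Int.cast_sum, Finset.sum_mul]
  rw [Finset.sum_comm]
  symm
  rw [Finset.sum_filter]
  refine Finset.sum_congr rfl fun η _ => ?_
  split_ifs with hη
  · rw [Finset.sum_eq_single (K.expo η K.θ₀) (fun i _ hne => by rw [if_neg (Ne.symm hne)]; simp)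
      (by simp), if_pos rfl, K.Φ_eq_lam hη K.θ₀_mem hj hy hreg, K.lam_eq hη K.θ₀_mem]
    push_cast
    ring
  · rw [K.Φ_eq_zero hη hj hy hreg, mul_zero]

theorem secReg_left (χ : IrrCharacter H) {j : ZMod (p ^ K.b)} (hj : j ≠ 0) (φ : H → ℂ) :
    secReg p (K.pr (K.el j)) (K.el j) (χ : H → ℂ) φ =
      cev (K.coeff₀ χ) j *
        secReg p (K.pr (K.el j)) (K.el j) (extFun K.C1 (K.θ₀ : K.C1 → ℂ)) φ := by
  rw [secReg, secReg, Finset.mul_sum]
  refine Finset.sum_congr rfl fun y hy => ?_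
  obtain ⟨-, hy1, hy2⟩ := Finset.mem_filter.1 hy
  rw [K.pr_el_fst] at hy1
  rw [K.phi_eq_cev χ hj hy1 hy2]
  exact mul_assoc _ _ _

theorem secReg_both (χ ψ : IrrCharacter H) {j : ZMod (p ^ K.b)} (hj : j ≠ 0) :
    secReg p (K.pr (K.el j)) (K.el j) (χ : H → ℂ) (ψ : H → ℂ) =
      cev (K.coeff₀ χ) j * conj (cev (K.coeff₀ ψ) j) *
        ((Nat.card (Subgroup.centralizer (Subgroup.zpowers (K.el j) : Set H)) : ℂ) /
          ((p ^ K.b : ℕ) : ℂ)) := by
  rw [← K.secReg_self K.θ₀_mem hj, secReg, secReg, Finset.mul_sum]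
  refine Finset.sum_congr rfl fun y hy => ?_
  obtain ⟨-, hy1, hy2⟩ := Finset.mem_filter.1 hy
  rw [K.pr_el_fst] at hy1
  rw [K.phi_eq_cev χ hj hy1 hy2, K.phi_eq_cev ψ hj hy1 hy2, map_mul]
  show _ = _ * (K.Φ K.θ₀ j y * conj (K.Φ K.θ₀ j y))
  ring

theorem cev_inv (χ : IrrCharacter H) {r : (ZMod (p ^ K.b))ˣ} (hr : r ∈ K.E)
    {j : ZMod (p ^ K.b)} (hj : j ≠ 0) :
    cev (K.coeff₀ χ) ((r : ZMod (p ^ K.b)) * j) = cev (K.coeff₀ χ) j := by
  obtain ⟨t, ht, htj⟩ := hr
  have hrj : (r : ZMod (p ^ K.b)) * j ≠ 0 := fun h0 => hj ((Units.mul_right_eq_zero r).1 h0)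
  obtain ⟨y, hy, hreg, hne⟩ := K.exists_Φ_ne_zero K.θ₀_mem hj
  have hc := K.cjRel_pr ht (K.el_mem j)
  have h1 := phi_cjRel hc (K.el j) (Char.irr_isClassFunction χ.2) y
  simp only [htj] at h1
  have hy' : t * y * t⁻¹ ∈
      Subgroup.centralizer (Subgroup.zpowers (K.el ((r : ZMod (p ^ K.b)) * j)) : Set H) := by
    rw [Brauer.centralizer_zpowers_eq, Subgroup.mem_centralizer_singleton_iff, ← htj]
    have := Subgroup.mem_centralizer_iff.1 hy _ (Subgroup.mem_zpowers (K.el j))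
    calc t * y * t⁻¹ * (t * K.el j * t⁻¹) = t * (y * K.el j) * t⁻¹ := by group
      _ = t * (K.el j * y) * t⁻¹ := by rw [this]
      _ = t * K.el j * t⁻¹ * (t * y * t⁻¹) := by group
  have hreg' : ¬ p ∣ orderOf (t * y * t⁻¹) := by
    rwa [show t * y * t⁻¹ = MulAut.conj t y from rfl, MulEquiv.orderOf_eq]
  rw [K.phi_eq_cev χ hrj hy' hreg', K.phi_eq_cev χ hj hy hreg,
    K.Φ_conj ht htj (K.θ₀_fixed ht)] at h1
  exact mul_right_cancel₀ hne h1

theorem section_data (j : ZMod (p ^ K.b)) :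
    IsSection p K.b (K.el j) (Subgroup.centralizer (Subgroup.zpowers (K.el j) : Set H)) :=
  isSection_of_zpowers rfl (K.el_pow_eq_one j)

theorem pr_block (j : ZMod (p ^ K.b)) :
    ∃ f : Blk M (Subgroup.centralizer (Subgroup.zpowers (K.el j) : Set H)),
      K.pr (K.el j) = ⟨Subgroup.zpowers (K.el j), f⟩ := by
  obtain ⟨f, hf, -⟩ := existsUnique_sle (S := pairSys M H)
    (b := (⟨Subgroup.zpowers K.x, K.c⟩ : PairIdx M H)) K.isPGroup
    (Subgroup.zpowers_le.2 (K.el_mem j))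
  exact ⟨f, (K.eq_pr (K.el_mem j) hf rfl).symm⟩

theorem cev_eq_zero {χ : IrrCharacter H} (hχ : χ ∉ K.β.1) {j : ZMod (p ^ K.b)} (hj : j ≠ 0) :
    cev (K.coeff₀ χ) j = 0 := by
  obtain ⟨y, hy, hreg, hne⟩ := K.exists_Φ_ne_zero K.θ₀_mem hj
  obtain ⟨i, hi⟩ := K.exists_orderOf j
  obtain ⟨f, hf⟩ := K.pr_block j
  have h := phi_eq_zero K.isPModular hi (B := (⟨_, Block.isPBlock_blockOf χ⟩ : Blk M H))
    (Block.mem_blockOf_self χ) f (fun hpair => hχ ?_) hy hreg
  · rw [← hf, K.phi_eq_cev χ hj hy hreg] at h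
    exact (mul_eq_zero.1 h).resolve_right hne
  · have h2 := (existsUnique_pairOf (blockSysTop M) (pairSys M H) (p := p)
      (a := (⟨Subgroup.zpowers (K.el j), f⟩ : PairIdx M H)) hpair.1).unique hpair
        (hf ▸ K.pr_pairOf (K.el j))
    rw [← h2]
    exact Block.mem_blockOf_self χ

theorem cev_ne_zero {χ : IrrCharacter H} (hχ : χ ∈ K.β.1) {j : ZMod (p ^ K.b)} (hj : j ≠ 0) :
    cev (K.coeff₀ χ) j ≠ 0 := by
  haveI : Fact (1 < p ^ K.b) := ⟨K.one_lt⟩
  obtain ⟨f, hf⟩ := K.pr_block j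
  haveI := Fintype.ofFinite (Subgroup.centralizer (Subgroup.zpowers (K.el j) : Set H))
  obtain ⟨h1, h2⟩ := BlockHeight.isDefIn_conj (g := 1) K.maxPair (z := K.el j)
    (fun g hg => K.commute g hg _ (K.el_mem j)) (f := f) (hf ▸ K.pr_sle (K.el j)) (u := K.el j)
    (β := f) ⟨by ext; simp, (cj_one _).symm⟩
  have hind : IsInducedBlock M (Subgroup.centralizer (Subgroup.zpowers (K.el j) : Set H)) f.1
      K.β.1 := (BlockCover.isInducedBlock_iff_pairOf h2.1 f K.β).2 h2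
  have hd := BlockHeight.blockDefect_eq_of_isDefIn K.isPModular K.maxPair (g := 1) h1
  obtain ⟨χh, hχh, h0⟩ := BlockVal.exists_height_zero (p := p) (Block.pBlock_nonempty K.β.2)
  intro hzero
  refine cM_ne_zero_major (K.section_data j) K.isPModular hind hd hχ hχh h0
    (isUnit_one : IsUnit (1 : ZMod (p ^ K.b))) ?_
  rw [← secReg_eq_cM (K.section_data j) f χ χh 1, ← hf, ZMod.val_one, pow_one,
    K.secReg_both χ χh hj, hzero, zero_mul, zero_mul, mul_zero]

theorem card_centralizer_ne_zero (j : ZMod (p ^ K.b)) :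
    (Nat.card (Subgroup.centralizer (Subgroup.zpowers (K.el j) : Set H)) : ℂ) /
      ((p ^ K.b : ℕ) : ℂ) ≠ 0 :=
  div_ne_zero (Nat.cast_ne_zero.2 Nat.card_pos.ne')
    (Nat.cast_ne_zero.2 (pow_ne_zero _ hp.out.ne_zero))

theorem sum_cev_self {j : ZMod (p ^ K.b)} (hj : j ≠ 0) :
    ∑ χ : IrrCharacter H, cev (K.coeff₀ χ) j * conj (cev (K.coeff₀ χ) j) =
      ((p ^ K.b : ℕ) : ℂ) := by
  obtain ⟨ψ, hψ⟩ := Block.pBlock_nonempty K.β.2
  have h := sum_secReg_mul K.isPModular (K.pr_el_fst j) (K.pr_el_fst j) (K.exists_orderOf j) ψ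
  rw [if_pos rfl] at h
  simp only [K.secReg_both _ ψ hj, map_mul, Complex.conj_conj, map_div₀, map_natCast] at h
  set a := cev (K.coeff₀ ψ) j with ha
  have hane : a ≠ 0 := K.cev_ne_zero hψ hj
  have hC : (Nat.card (Subgroup.centralizer (Subgroup.zpowers (K.el j) : Set H)) : ℂ) ≠ 0 :=
    Nat.cast_ne_zero.2 Nat.card_pos.ne'
  have hq : ((p ^ K.b : ℕ) : ℂ) ≠ 0 := Nat.cast_ne_zero.2 (pow_ne_zero _ hp.out.ne_zero)
  set C : ℂ := (Nat.card (Subgroup.centralizer (Subgroup.zpowers (K.el j) : Set H)) : ℂ)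
  set q : ℂ := ((p ^ K.b : ℕ) : ℂ)
  have e : ∀ z : ℂ, z * conj a * (C / q) * (conj z * a * (C / q)) =
      (a * conj a * (C / q) ^ 2) * (z * conj z) := fun z => by ring
  rw [Finset.sum_congr rfl fun χ _ => e _, ← Finset.mul_sum] at h
  refine mul_left_cancel₀ (mul_ne_zero (mul_ne_zero hane
    ((map_ne_zero (starRingEnd ℂ)).2 hane)) (pow_ne_zero 2 (div_ne_zero hC hq))) (h.trans ?_)
  field_simp

theorem sum_cev_orth {j j' : ZMod (p ^ K.b)} (hj : j ≠ 0) (hj' : j' ≠ 0)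
    (hn : ¬ ∃ r ∈ K.E, (r : ZMod (p ^ K.b)) * j = j') :
    ∑ χ : IrrCharacter H, cev (K.coeff₀ χ) j * conj (cev (K.coeff₀ χ) j') = 0 := by
  obtain ⟨ψ, hψ⟩ := Block.pBlock_nonempty K.β.2
  suffices h : ∑ χ : IrrCharacter H,
      secReg p (K.pr (K.el j)) (K.el j) (χ : H → ℂ) (ψ : H → ℂ) *
        conj (secReg p (K.pr (K.el j')) (K.el j') (χ : H → ℂ) (ψ : H → ℂ)) = 0 by
    simp only [K.secReg_both _ ψ hj, K.secReg_both _ ψ hj', map_mul, Complex.conj_conj,
      map_div₀, map_natCast] at h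
    have hne : conj (cev (K.coeff₀ ψ) j) * cev (K.coeff₀ ψ) j' *
        (((Nat.card (Subgroup.centralizer (Subgroup.zpowers (K.el j) : Set H)) : ℂ) /
          ((p ^ K.b : ℕ) : ℂ)) *
        ((Nat.card (Subgroup.centralizer (Subgroup.zpowers (K.el j') : Set H)) : ℂ) /
          ((p ^ K.b : ℕ) : ℂ))) ≠ 0 :=
      mul_ne_zero (mul_ne_zero ((map_ne_zero (starRingEnd ℂ)).2 (K.cev_ne_zero hψ hj))
        (K.cev_ne_zero hψ hj'))
        (mul_ne_zero (K.card_centralizer_ne_zero j) (K.card_centralizer_ne_zero j'))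
    refine (mul_eq_zero.1 ?_).resolve_left hne
    rw [← h, Finset.mul_sum]
    exact Finset.sum_congr rfl fun χ _ => by ring
  by_cases hconj : ∃ k : H, k * K.el j * k⁻¹ = K.el j'
  · obtain ⟨k, hk⟩ := hconj
    obtain ⟨b', hb'⟩ := exists_cjRel (S := pairSys M H) k⁻¹ (K.pr (K.el j'))
    have hkv : k⁻¹ * K.el j' * k⁻¹⁻¹ = K.el j := by rw [← hk]; group
    have hb1 : b'.1 = Subgroup.zpowers (K.el j) := by
      rw [← hb'.1, K.pr_el_fst, ← hkv]
      exact MonoidHom.map_zpowers _ _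
    have hne : K.pr (K.el j) ≠ b' := by
      intro he
      apply hn
      subst he
      obtain ⟨f, hf⟩ := K.pr_block j
      obtain ⟨f', hf'⟩ := K.pr_block j'
      have hrel := hb'.symm
      rw [inv_inv, hf, hf'] at hrel
      obtain ⟨y, hy, hyk⟩ := BlockHeight.exists_stab_of_cjRel K.maxPair
        (fun g hg => K.commute g hg _ (K.el_mem j')) (fun g hg => K.commute g hg _ (K.el_mem j))
        (hf' ▸ K.pr_sle (K.el j')) (hf ▸ K.pr_sle (K.el j)) hrel
      obtain ⟨r, hr⟩ := K.exists_mul hyk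
      refine ⟨r, ⟨_, hyk, hr⟩, K.el_injective ?_⟩
      rw [← hr, show y * k * K.el j * (y * k)⁻¹ = y * (k * K.el j * k⁻¹) * y⁻¹ by group, hk,
        ← Subgroup.mem_centralizer_iff.1 hy _ (Subgroup.mem_zpowers _), mul_inv_cancel_right]
    have e : ∀ χ : IrrCharacter H,
        secReg p (K.pr (K.el j')) (K.el j') (χ : H → ℂ) (ψ : H → ℂ) =
          secReg p b' (K.el j) (χ : H → ℂ) (ψ : H → ℂ) := by
      intro χ
      rw [← secReg_cjRel hb' (K.el j') (Char.irr_isClassFunction χ.2)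
        (Char.irr_isClassFunction ψ.2), hkv]
    simp only [e]
    rw [sum_secReg_mul K.isPModular (K.pr_el_fst j) hb1 (K.exists_orderOf j) ψ, if_neg hne, mul_zero]
  · -- the sections are not conjugate
    obtain ⟨i, hi⟩ := K.exists_orderOf j
    obtain ⟨i', hi'⟩ := K.exists_orderOf j'
    have hterm : ∀ c c' : H, c ∈ Subgroup.centralizer (Subgroup.zpowers (K.el j) : Set H) →
        c' ∈ Subgroup.centralizer (Subgroup.zpowers (K.el j') : Set H) →
        ¬ p ∣ orderOf c → ¬ p ∣ orderOf c' →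
        ∑ χ : IrrCharacter H, (χ : H → ℂ) (K.el j * c) * conj ((χ : H → ℂ) (K.el j' * c')) = 0 := by
      intro c c' hc hc' hr hr'
      rw [Char.sum_irr_mul_conj, if_neg]
      intro hcj
      apply hconj
      obtain ⟨k, hk⟩ := isConj_iff.1 hcj
      refine ⟨k, ?_⟩
      have e1 := (Brauer.orderOf_mul_coprime_parts hi hr
        (Subgroup.mem_centralizer_iff.1 hc _ (Subgroup.mem_zpowers _))).1
      have e2 := (Brauer.orderOf_mul_coprime_parts hi' hr'
        (Subgroup.mem_centralizer_iff.1 hc' _ (Subgroup.mem_zpowers _))).1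
      have h1 := (Element.pPart_conj hp.out k (K.el j * c)).1
      rw [hk, e1, e2] at h1
      exact h1.symm
    have hsec : ∀ (j : ZMod (p ^ K.b)) (χ : IrrCharacter H),
        secReg p (K.pr (K.el j)) (K.el j) (χ : H → ℂ) (ψ : H → ℂ) =
        ∑ y ∈ Finset.univ.filter (fun y : H =>
          y ∈ Subgroup.centralizer (Subgroup.zpowers (K.el j) : Set H) ∧ ¬ p ∣ orderOf y),
          (χ : H → ℂ) (K.el j * y) * conj (Phi (K.pr (K.el j)) (K.el j) (ψ : H → ℂ) y) := by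
      intro j χ
      obtain ⟨f, hf⟩ := K.pr_block j
      obtain ⟨i, hi⟩ := K.exists_orderOf j
      rw [hf, secReg]
      simp only [← sum_phi (M := M) (Subgroup.zpowers (K.el j)) (K.el j) (χ : H → ℂ),
        Finset.sum_mul]
      rw [Finset.sum_comm (t := (Finset.univ : Finset
          (Blk M (Subgroup.centralizer (Subgroup.zpowers (K.el j) : Set H))))),
        Finset.sum_eq_single f]
      · intro e' _ hne
        exact cross_eq_zero K.isPModular hi hne χ ψ
      · simp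
    simp only [hsec, map_sum, Finset.sum_mul_sum, map_mul, Complex.conj_conj]
    rw [Finset.sum_comm]
    refine Finset.sum_eq_zero fun y hy => ?_
    rw [Finset.sum_comm]
    refine Finset.sum_eq_zero fun y' hy' => ?_
    obtain ⟨-, hy1, hy2⟩ := Finset.mem_filter.1 hy
    obtain ⟨-, hy1', hy2'⟩ := Finset.mem_filter.1 hy'
    rw [← mul_zero (conj (Phi (K.pr (K.el j)) (K.el j) (ψ : H → ℂ) y) *
      Phi (K.pr (K.el j')) (K.el j') (ψ : H → ℂ) y'), ← hterm y y' hy1 hy1' hy2 hy2',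
      Finset.mul_sum]
    exact Finset.sum_congr rfl fun χ _ => by ring

/-- Orthogonality to the columns follows from vanishing on the singular elements. -/
theorem sum_cev_eq_zero (v : IrrCharacter H → ℂ)
    (hv : ∀ g : H, p ∣ orderOf g →
      ∑ ξ ∈ Finset.univ.filter (· ∈ K.β.1), v ξ * (ξ : H → ℂ) g = 0)
    {j : ZMod (p ^ K.b)} (hj : j ≠ 0) :
    ∑ ξ ∈ Finset.univ.filter (· ∈ K.β.1), v ξ * cev (K.coeff₀ ξ) j = 0 := by
  obtain ⟨y, hy, hreg, hne⟩ := K.exists_Φ_ne_zero K.θ₀_mem hj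
  obtain ⟨f, hf⟩ := K.pr_block j
  haveI := Fintype.ofFinite (Subgroup.centralizer (Subgroup.zpowers (K.el j) : Set H))
  set F : H → ℂ := fun g => ∑ ξ ∈ Finset.univ.filter (· ∈ K.β.1), v ξ * (ξ : H → ℂ) g with hF
  have hFc : IsClassFunction H F := fun g h => by
    simp only [hF, Char.irr_isClassFunction (Subtype.prop _) g h]
  have h1 : Phi (K.pr (K.el j)) (K.el j) F y =
      (∑ ξ ∈ Finset.univ.filter (· ∈ K.β.1), v ξ * cev (K.coeff₀ ξ) j) * K.Φ K.θ₀ j y := by
    rw [hF, phi_sum, Finset.sum_mul]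
    refine Finset.sum_congr rfl fun ξ _ => ?_
    rw [K.phi_eq_cev ξ hj hy hreg, mul_assoc]
  have h2 : Phi (K.pr (K.el j)) (K.el j) F y = 0 := by
    rw [hf, show y = ((⟨y, hy⟩ : (Subgroup.centralizer (Subgroup.zpowers (K.el j) : Set H))) : H) from rfl,
      phi_eq_blockPart (⟨Subgroup.zpowers (K.el j), f⟩ : PairIdx M H) (Subgroup.mem_zpowers _) hFc]
    have hcl : IsClassFunction (Subgroup.centralizer (Subgroup.zpowers (K.el j) : Set H)) (fun c : (Subgroup.centralizer (Subgroup.zpowers (K.el j) : Set H)) => F (K.el j * (c : H))) := by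
      intro c b
      have hb : Commute (K.el j) (b : H) :=
        Subgroup.mem_centralizer_iff.1 b.2 _ (Subgroup.mem_zpowers _)
      show F (K.el j * (↑(b * c * b⁻¹) : H)) = _
      rw [Subgroup.coe_mul, Subgroup.coe_mul, Subgroup.coe_inv, ← mul_assoc, ← mul_assoc, hb.eq,
        mul_assoc (b : H) (K.el j)]
      exact hFc _ _
    rw [blockPart_eq_regular (p := p) K.isPModular f.2 _ (by rwa [Subgroup.orderOf_mk])]
    refine mul_eq_zero_of_right _ (Finset.sum_eq_zero fun c hc => ?_)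
    obtain ⟨i, hi⟩ := K.exists_orderOf j
    have hi0 : i ≠ 0 := by
      rintro rfl
      exact K.el_ne_one hj (orderOf_eq_one_iff.1 (by rw [hi, pow_zero]))
    have hcr : ¬ p ∣ orderOf (c : H) := by
      rw [Subgroup.orderOf_coe]
      exact (Finset.mem_filter.1 hc).2
    have hsing : p ∣ orderOf (K.el j * (c : H)) := by
      rw [Commute.orderOf_mul_eq_mul_orderOf_of_coprime
        (Subgroup.mem_centralizer_iff.1 c.2 _ (Subgroup.mem_zpowers _))
        (by rw [hi]; exact (hp.out.coprime_iff_not_dvd.2 hcr).pow_left i), hi]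
      exact dvd_mul_of_dvd_left (dvd_pow_self p hi0) _
    simp only [hF, hv _ hsing, zero_mul]
  exact (mul_eq_zero.1 (h1.symm.trans h2)).resolve_right hne

/-- Vanishing on the singular elements follows from orthogonality to the columns. -/
theorem sum_eq_zero_of_cev (v : IrrCharacter H → ℂ)
    (hv : ∀ j : ZMod (p ^ K.b), j ≠ 0 →
      ∑ ξ ∈ Finset.univ.filter (· ∈ K.β.1), v ξ * cev (K.coeff₀ ξ) j = 0)
    (g : H) (hg : p ∣ orderOf g) :
    ∑ ξ ∈ Finset.univ.filter (· ∈ K.β.1), v ξ * (ξ : H → ℂ) g = 0 := by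
  set U := Element.pPart p g with hU
  set y := Element.pComplPart p g with hy
  obtain ⟨i, hi⟩ : ∃ i, orderOf U = p ^ i := ⟨_, Element.orderOf_pPart_eq_pow hp.out g⟩
  have hU1 : U ≠ 1 := fun h => by
    have h1 := Element.orderOf_pPart_eq_pow hp.out g
    rw [← hU, h, orderOf_one] at h1
    exact absurd h1 (Nat.one_lt_pow (hp.out.factorization_pos_of_dvd (orderOf_pos g).ne' hg).ne'
      hp.out.one_lt).ne
  have hreg : ¬ p ∣ orderOf y :=
    hp.out.coprime_iff_not_dvd.1 (Element.coprime_orderOf_pComplPart hp.out g).symm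
  have hyC : y ∈ Subgroup.centralizer (Subgroup.zpowers U : Set H) := by
    rw [Brauer.centralizer_zpowers_eq, Subgroup.mem_centralizer_singleton_iff]
    exact (Element.commute_pPart_pComplPart p g).symm
  have hgUy : g = U * y := (Element.pPart_mul_pComplPart p g).symm
  rw [hgUy]
  simp only [← sum_phi (M := M) (Subgroup.zpowers U) U, Finset.mul_sum]
  rw [Finset.sum_comm]
  refine Finset.sum_eq_zero fun f _ => ?_
  by_cases hpair : PairOf (blockSysTop M) (pairSys M H) p K.β ⟨Subgroup.zpowers U, f⟩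
  swap
  · refine Finset.sum_eq_zero fun ξ hξ => ?_
    rw [phi_eq_zero K.isPModular hi (Finset.mem_filter.1 hξ).2 f hpair hyC hreg, mul_zero]
  obtain ⟨k, b', hk, hb'⟩ := K.maxPair.exists_conj_sle hpair
  have h1 : b'.1 = Subgroup.zpowers (k * U * k⁻¹) := by
    rw [← hk.1]
    exact MonoidHom.map_zpowers _ _
  obtain ⟨j, hj⟩ := K.exists_el (hb'.le (h1 ▸ Subgroup.mem_zpowers _))
  have hj0 : j ≠ 0 := by
    rintro rfl
    rw [K.el_zero] at hj
    exact hU1 (by simpa [mul_assoc] using congrArg (fun z => k⁻¹ * z * k) hj.symm)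
  rw [← hj] at h1
  have hb'' := K.eq_pr (K.el_mem j) hb' h1
  subst hb''
  have hy' : k * y * k⁻¹ ∈ Subgroup.centralizer (Subgroup.zpowers (K.el j) : Set H) := by
    rw [Brauer.centralizer_zpowers_eq, Subgroup.mem_centralizer_singleton_iff, hj]
    have := Subgroup.mem_centralizer_iff.1 hyC _ (Subgroup.mem_zpowers U)
    calc k * y * k⁻¹ * (k * U * k⁻¹) = k * (y * U) * k⁻¹ := by group
      _ = k * (U * y) * k⁻¹ := by rw [this]
      _ = k * U * k⁻¹ * (k * y * k⁻¹) := by group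
  have hreg' : ¬ p ∣ orderOf (k * y * k⁻¹) := by
    rwa [show k * y * k⁻¹ = MulAut.conj k y from rfl, MulEquiv.orderOf_eq]
  have e : ∀ ξ : IrrCharacter H, Phi (⟨Subgroup.zpowers U, f⟩ : PairIdx M H) U (ξ : H → ℂ) y =
      cev (K.coeff₀ ξ) j * K.Φ K.θ₀ j (k * y * k⁻¹) := by
    intro ξ
    rw [← phi_cjRel hk U (Char.irr_isClassFunction ξ.2) y, ← hj, K.phi_eq_cev ξ hj0 hy' hreg']
  simp only [e, ← mul_assoc, ← Finset.sum_mul, hv j hj0, zero_mul]

/-- The separating functionals of a block with cyclic defect group. -/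
theorem exists_cyclic_functionals :
    ∃ (N : ℕ) (w : Fin N → IrrCharacter H → ℤ) (c : Fin N → ℝ),
      (∀ r, 0 ≤ c r) ∧
      (∀ r (g : H), p ∣ orderOf g →
        ∑ ξ ∈ Finset.univ.filter (· ∈ K.β.1), (w r ξ : ℂ) * (ξ : H → ℂ) g = 0) ∧
      (∀ L : IrrCharacter H → ℂ, (∃ v : IrrCharacter H → ℂ,
          (∀ g : H, p ∣ orderOf g →
            ∑ ξ ∈ Finset.univ.filter (· ∈ K.β.1), v ξ * (ξ : H → ℂ) g = 0) ∧
          ∑ ξ ∈ Finset.univ.filter (· ∈ K.β.1), v ξ * L ξ ≠ 0) →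
        1 ≤ ∑ r ∈ Finset.univ.filter
          (fun r => ∑ ξ ∈ Finset.univ.filter (· ∈ K.β.1), (w r ξ : ℂ) * L ξ ≠ 0), c r) ∧
      ∑ r, c r * ∑ ξ ∈ Finset.univ.filter (· ∈ K.β.1), (w r ξ : ℝ) ^ 2 ≤ (p ^ K.b : ℕ) := by
  haveI : Fact (1 < p ^ K.b) := ⟨K.one_lt⟩
  have hβsum : ∀ f : IrrCharacter H → ℂ, (∀ χ, χ ∉ K.β.1 → f χ = 0) →
      ∑ ξ : {χ : IrrCharacter H // χ ∈ K.β.1}, f ξ.1 = ∑ χ : IrrCharacter H, f χ := by
    intro f hf
    rw [← Finset.sum_subtype (Finset.univ.filter (· ∈ K.β.1)) (by simp) f,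
      Finset.sum_filter_of_ne fun χ _ h => by_contra fun h' => h (hf χ h')]
  have hFsum : ∀ (f : IrrCharacter H → ℂ),
      ∑ ξ ∈ Finset.univ.filter (· ∈ K.β.1), f ξ =
        ∑ ξ : {χ : IrrCharacter H // χ ∈ K.β.1}, f ξ.1 :=
    fun f => Finset.sum_subtype _ (by simp) f
  obtain ⟨ψ, hψ⟩ := Block.pBlock_nonempty K.β.2
  have hdeg : ∀ g : H, p ∣ orderOf g →
      ∑ ξ ∈ Finset.univ.filter (· ∈ K.β.1), (ξ : H → ℂ) 1 * (ξ : H → ℂ) g = 0 := by
    intro g hg
    have h := Brauer.weakOrth_of_integral K.isPModular K.β.1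
      (Block.blockCoeff_memLocalRing K.β.2) (x := 1) (by simpa using hp.out.one_lt.ne') hg
    rw [finsum_mem_eq_toFinset_sum] at h
    have h2 := congrArg conj h
    rw [map_sum, map_zero, show K.β.1.toFinset = Finset.univ.filter (· ∈ K.β.1) by ext; simp] at h2
    rw [← h2]
    refine Finset.sum_congr rfl fun ξ _ => ?_
    rw [map_mul, Complex.conj_conj, (BlockVal.irr_one_eq_charDegree ξ).1, map_natCast]
  obtain ⟨N, w, c, hc, hw, hsep, hcost⟩ := CyclicColumns.exists_functionals_cyclic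
    (X := {χ : IrrCharacter H // χ ∈ K.β.1}) K.E K.one_lt
    (fun r hr l hl h => K.free hr hl h)
    (fun ξ => K.coeff₀ ξ.1) (fun ξ => by simp [coeff₀])
    (fun ξ r hr j hj => K.cev_inv ξ.1 hr hj)
    (fun j hj => by
      rw [hβsum (fun χ => cev (K.coeff₀ χ) j * conj (cev (K.coeff₀ χ) j))
        (fun χ hχ => by rw [K.cev_eq_zero hχ hj, zero_mul]), K.sum_cev_self hj])
    (fun j j' hj hj' hn => by
      rw [hβsum (fun χ => cev (K.coeff₀ χ) j * conj (cev (K.coeff₀ χ) j'))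
        (fun χ hχ => by rw [K.cev_eq_zero hχ hj, zero_mul]), K.sum_cev_orth hj hj' hn])
    (fun ξ => ⟨1, one_ne_zero, K.cev_ne_zero ξ.2 one_ne_zero⟩)
    ⟨fun ξ => ((ξ.1 : IrrCharacter H) : H → ℂ) 1,
      fun h => Char.irr_one_ne_zero ψ.2 (congrFun h ⟨ψ, hψ⟩), fun j hj => by
      rw [← hFsum (fun χ => (χ : H → ℂ) 1 * cev (K.coeff₀ χ) j)]
      exact K.sum_cev_eq_zero _ hdeg hj⟩
  have hext : ∀ r (ξ : {χ : IrrCharacter H // χ ∈ K.β.1}),
      (fun χ : IrrCharacter H => if h : χ ∈ K.β.1 then w r ⟨χ, h⟩ else 0) ξ.1 = w r ξ :=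
    fun r ξ => dif_pos ξ.2
  refine ⟨N, fun r χ => if h : χ ∈ K.β.1 then w r ⟨χ, h⟩ else 0, c, hc, fun r g hg => ?_,
    fun L hL => ?_, ?_⟩
  · refine K.sum_eq_zero_of_cev
      (fun χ => ((if h : χ ∈ K.β.1 then w r ⟨χ, h⟩ else 0 : ℤ) : ℂ)) (fun j hj => ?_) g hg
    rw [hFsum]
    simp only [hext]
    exact hw r j hj
  · obtain ⟨v, hv, hvL⟩ := hL
    have h1 := hsep (fun ξ => L ξ.1) ⟨fun ξ => v ξ.1, fun j hj => by
      rw [← hFsum (fun χ => v χ * cev (K.coeff₀ χ) j)]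
      exact K.sum_cev_eq_zero v hv hj,
      by rw [← hFsum (fun χ => v χ * L χ)]; exact hvL⟩
    refine h1.trans (le_of_eq ?_)
    refine Finset.sum_congr (Finset.filter_congr fun r _ => ?_) fun _ _ => rfl
    rw [hFsum]
    simp only [hext]
  · refine le_of_eq_of_le ?_ hcost
    refine Finset.sum_congr rfl fun r _ => ?_
    congr 1
    rw [Finset.sum_subtype (F := inferInstance) (Finset.univ.filter (· ∈ K.β.1))
      (p := (· ∈ K.β.1)) (by simp)
      (fun ξ => (((if h : ξ ∈ K.β.1 then w r ⟨ξ, h⟩ else 0 : ℤ)) : ℝ) ^ 2)]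
    simp only [hext]

end CycData

end Cfsg.Agent.BlockCount
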