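import Cfsg.Agent.BlockCount.CyclicColumns

/-!
The integer matrix of a system of columns indexed by the non-zero residues modulo a group of units
acting freely: one column for each orbit.
-/

set_option autoImplicit false
set_option linter.style.haveILetI false
set_option linter.unusedSectionVars false

namespace Cfsg.Agent.BlockCount.CyclicColumns

open Cfsg.Agent.BlkChar.Cyclo
open scoped ComplexConjugate Classical

universe u

variable {n : ℕ} [NeZero n] {X : Type u} [Fintype X] (E : Subgroup (ZMod n)ˣ)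

/-- The coefficient matrix on representatives of the orbits. -/
theorem exists_orbit_matrix (hn : 1 < n)
    (hfree : ∀ ε ∈ E, ∀ l : ZMod n, l ≠ 0 → (ε : ZMod n) * l = l → ε = 1)
    (a : X → ZMod n → ℤ) (ha : ∀ x, a x 0 = 0)
    (hinv : ∀ x, ∀ ε ∈ E, ∀ j : ZMod n, j ≠ 0 → cev (a x) ((ε : ZMod n) * j) = cev (a x) j)
    (hnorm : ∀ j : ZMod n, j ≠ 0 → ∑ x, cev (a x) j * conj (cev (a x) j) = (n : ℂ))
    (horth : ∀ j j' : ZMod n, j ≠ 0 → j' ≠ 0 → (¬ ∃ ε ∈ E, (ε : ZMod n) * j = j') →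
      ∑ x, cev (a x) j * conj (cev (a x) j') = 0)
    (hrow : ∀ x, ∃ j : ZMod n, j ≠ 0 ∧ cev (a x) j ≠ 0) :
    ∃ (m : ℕ) (r : Fin m → ZMod n), 0 < m ∧ Nat.card E * m + 1 = n ∧
      (∀ x, ∃ q, a x (r q) ≠ 0) ∧
      (∀ q q', ∑ x, a x (r q) * a x (r q') = (if q = q' then 1 else 0) + (Nat.card E : ℤ)) ∧
      (∀ v : X → ℂ, (∀ q, ∑ x, v x * (a x (r q) : ℂ) = 0) ↔
        ∀ j : ZMod n, j ≠ 0 → ∑ x, v x * cev (a x) j = 0) ∧
      (∀ q, r q ≠ 0) ∧
      ∀ j : ZMod n, j ≠ 0 →
        ∃! q, (∃ ε ∈ E, (ε : ZMod n) * r q = j) ∧ ∀ x, a x j = a x (r q) := by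
  haveI : Fact (1 < n) := ⟨hn⟩
  have hn0 : (n : ℂ) ≠ 0 := Nat.cast_ne_zero.2 (NeZero.ne n)
  -- the products of the columns
  have hmul0 : ∀ (ε : (ZMod n)ˣ) {j : ZMod n}, j ≠ 0 → (ε : ZMod n) * j ≠ 0 := fun ε j hj h =>
    hj (by simpa [← mul_assoc] using congrArg ((↑ε⁻¹ : ZMod n) * ·) h)
  have hprod : ∀ j j' : ZMod n, j ≠ 0 → j' ≠ 0 →
      ∑ x, cev (a x) j * conj (cev (a x) j') =
        ∑ ε : E, if ((ε : (ZMod n)ˣ) : ZMod n) * j = j' then (n : ℂ) else 0 := by
    intro j j' hj hj'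
    by_cases h : ∃ ε ∈ E, (ε : ZMod n) * j = j'
    · obtain ⟨ε, hε, rfl⟩ := h
      rw [Finset.sum_eq_single (⟨ε, hε⟩ : E)]
      · rw [if_pos rfl, ← hnorm j hj]
        exact Finset.sum_congr rfl fun x _ => by rw [hinv x ε hε j hj]
      · intro δ _ hne
        refine if_neg fun hδ => hne (Subtype.ext ?_)
        have h1 := hfree (ε⁻¹ * δ) (E.mul_mem (E.inv_mem hε) δ.2) j hj (by
          rw [Units.val_mul, mul_assoc, hδ, ← mul_assoc, Units.inv_mul, one_mul])
        exact (inv_mul_eq_one.1 h1).symm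
      · simp
    · rw [horth j j' hj hj' h, eq_comm]
      exact Finset.sum_eq_zero fun ε _ => if_neg fun hε => h ⟨ε, ε.2, hε⟩
  have hconst : ∀ x (ε : (ZMod n)ˣ), ε ∈ E → ∀ i : ZMod n, a x ((ε : ZMod n) * i) = a x i := by
    intro x ε hε i
    apply Int.cast_injective (α := ℂ)
    refine mul_left_cancel₀ hn0 ?_
    rw [mul_coeff_eq (ha x), mul_coeff_eq (ha x)]
    refine Finset.sum_nbij' (fun j => (ε : ZMod n) * j) (fun j => (↑ε⁻¹ : ZMod n) * j)
      (fun j hj => Finset.mem_erase.2 ⟨hmul0 ε (Finset.mem_erase.1 hj).1, Finset.mem_univ _⟩)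
      (fun j hj => Finset.mem_erase.2 ⟨hmul0 ε⁻¹ (Finset.mem_erase.1 hj).1, Finset.mem_univ _⟩)
      (fun j _ => by simp [← mul_assoc]) (fun j _ => by simp [← mul_assoc]) fun j hj => ?_
    rw [hinv x ε hε j (Finset.mem_erase.1 hj).1, show (ε : ZMod n) * i * j = i * (ε * j) by ring]
  have hgram0 : ∀ i l : ZMod n, i ≠ 0 → l ≠ 0 → ∑ x, a x i * a x l =
      (if ∃ ε ∈ E, (ε : ZMod n) * l = i then 1 else 0) + (Nat.card E : ℤ) := by
    intro i l hi hl
    apply Int.cast_injective (α := ℂ)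
    push_cast
    refine mul_left_cancel₀ (mul_ne_zero hn0 hn0) ?_
    set g : ZMod n → ZMod n → ℂ := fun d t =>
      ((ZMod.stdAddChar (-(i * d)) : ℂ) - 1) * ((ZMod.stdAddChar (l * t) : ℂ) - 1) with hg
    have e1 : ∀ x, (n : ℂ) * n * ((a x i : ℂ) * (a x l : ℂ)) =
        ∑ j ∈ Finset.univ.erase 0, ∑ j' ∈ Finset.univ.erase 0,
          g j j' * (cev (a x) j * conj (cev (a x) j')) := by
      intro x
      have h1 := mul_coeff_eq (ha x) i
      have h2 := congrArg conj (mul_coeff_eq (ha x) l)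
      simp only [map_mul, map_natCast, map_intCast, map_sum, map_sub, map_one,
        conj_stdAddChar, neg_neg] at h2
      rw [show (n : ℂ) * n * ((a x i : ℂ) * (a x l : ℂ)) =
        ((n : ℂ) * (a x i : ℂ)) * ((n : ℂ) * (a x l : ℂ)) by ring, h1, h2, Finset.sum_mul_sum]
      exact Finset.sum_congr rfl fun j _ => Finset.sum_congr rfl fun j' _ => by simp only [hg]; ring
    have e2 : ∀ ε : E, ∑ j ∈ Finset.univ.erase (0 : ZMod n), g j (((ε : (ZMod n)ˣ) : ZMod n) * j) =
        (n : ℂ) * ((if ((ε : (ZMod n)ˣ) : ZMod n) * l = i then 1 else 0) + 1) := by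
      intro ε
      rw [Finset.sum_erase _ (by simp [hg])]
      have e : ∀ d, g d (((ε : (ZMod n)ˣ) : ZMod n) * d) = (ZMod.stdAddChar (d * (((ε : (ZMod n)ˣ) : ZMod n) * l - i)) : ℂ) -
          ZMod.stdAddChar (d * (-i)) - ZMod.stdAddChar (d * (((ε : (ZMod n)ˣ) : ZMod n) * l)) + 1 := by
        intro d
        simp only [hg]
        rw [show d * (((ε : (ZMod n)ˣ) : ZMod n) * l - i) = -(i * d) + l * (((ε : (ZMod n)ˣ) : ZMod n) * d) by ring,
          AddChar.map_add_eq_mul, show d * (-i) = -(i * d) by ring,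
          show d * (((ε : (ZMod n)ˣ) : ZMod n) * l) = l * (((ε : (ZMod n)ˣ) : ZMod n) * d) by ring]
        ring
      simp only [e, Finset.sum_add_distrib, Finset.sum_sub_distrib, sum_stdAddChar,
        Finset.sum_const, Finset.card_univ, ZMod.card, nsmul_eq_mul, mul_one,
        neg_eq_zero, sub_eq_zero, if_neg hi, if_neg (hmul0 (ε : (ZMod n)ˣ) hl), sub_zero]
      split_ifs <;> ring
    calc (n : ℂ) * n * ∑ x, (a x i : ℂ) * (a x l : ℂ)
        = ∑ j ∈ Finset.univ.erase 0, ∑ j' ∈ Finset.univ.erase 0,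
            g j j' * ∑ x, cev (a x) j * conj (cev (a x) j') := by
          rw [Finset.mul_sum, Finset.sum_congr rfl fun x _ => e1 x, Finset.sum_comm]
          refine Finset.sum_congr rfl fun j _ => ?_
          rw [Finset.sum_comm]
          exact Finset.sum_congr rfl fun j' _ => (Finset.mul_sum _ _ _).symm
      _ = ∑ ε : E, ∑ j ∈ Finset.univ.erase (0 : ZMod n), g j (((ε : (ZMod n)ˣ) : ZMod n) * j) * n := by
          rw [Finset.sum_comm (s := (Finset.univ : Finset E))]
          refine Finset.sum_congr rfl fun j hj => ?_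
          rw [Finset.sum_congr rfl fun j' hj' => by
            rw [hprod j j' (Finset.mem_erase.1 hj).1 (Finset.mem_erase.1 hj').1, Finset.mul_sum]]
          rw [Finset.sum_comm]
          refine Finset.sum_congr rfl fun ε _ => ?_
          rw [Finset.sum_eq_single (((ε : (ZMod n)ˣ) : ZMod n) * j)]
          · rw [if_pos rfl]
          · intro b _ hb; rw [if_neg (Ne.symm hb), mul_zero]
          · intro hb
            exact absurd (Finset.mem_erase.2 ⟨hmul0 ε (Finset.mem_erase.1 hj).1,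
              Finset.mem_univ _⟩) hb
      _ = ∑ ε : E, (n : ℂ) * n * ((if ((ε : (ZMod n)ˣ) : ZMod n) * l = i then 1 else 0) + 1) := by
          refine Finset.sum_congr rfl fun ε _ => ?_
          rw [← Finset.sum_mul, e2]
          ring
      _ = _ := by
          rw [← Finset.mul_sum, Finset.sum_add_distrib, Finset.sum_const, Finset.card_univ,
            nsmul_eq_mul, mul_one, Nat.card_eq_fintype_card]
          congr 2
          split_ifs with h
          · obtain ⟨ε, hε, he⟩ := h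
            rw [Finset.sum_eq_single (⟨ε, hε⟩ : E)]
            · simp [he]
            · intro δ _ hne
              refine if_neg fun hδ => hne (Subtype.ext ?_)
              have h1 := hfree (ε⁻¹ * δ) (E.mul_mem (E.inv_mem hε) δ.2) l hl (by
                rw [Units.val_mul, mul_assoc, hδ, ← he, ← mul_assoc, Units.inv_mul, one_mul])
              exact (inv_mul_eq_one.1 h1).symm
            · simp
          · exact Finset.sum_eq_zero fun ε _ => if_neg fun hε => h ⟨ε, ε.2, hε⟩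
  -- representatives
  letI := orbitSetoid E
  set ι := Quotient (orbitSetoid E) with hι
  haveI : Fintype ι := Fintype.ofFinite _
  haveI : Nonempty ι := ⟨Quotient.mk _ ⟨1, one_ne_zero⟩⟩
  set r : ι → {j : ZMod n // j ≠ 0} := fun q => q.out with hr
  have hrel : ∀ i : {j : ZMod n // j ≠ 0}, ∃ ε ∈ E, (ε : ZMod n) * (r (Quotient.mk _ i)).1 = i.1 :=
    fun i => Quotient.exact (s := orbitSetoid E) (Quotient.out_eq (Quotient.mk (orbitSetoid E) i))
  have hruniq : ∀ q q' : ι, (∃ ε ∈ E, (ε : ZMod n) * (r q').1 = (r q).1) → q = q' := by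
    intro q q' h
    rw [← Quotient.out_eq q, ← Quotient.out_eq q']
    exact (Quotient.sound (s := orbitSetoid E) h).symm
  have he : Nat.card E * Fintype.card ι + 1 = n := by
    have hbij : Function.Bijective (fun εq : E × ι =>
        (⟨((εq.1 : (ZMod n)ˣ) : ZMod n) * (r εq.2).1, hmul0 εq.1 (r εq.2).2⟩ : {j : ZMod n // j ≠ 0})) := by
      constructor
      · rintro ⟨ε, q⟩ ⟨δ, q'⟩ h
        have h' : ((ε : (ZMod n)ˣ) : ZMod n) * (r q).1 = ((δ : (ZMod n)ˣ) : ZMod n) * (r q').1 := congrArg Subtype.val h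
        have hqq : q = q' := hruniq q q' ⟨(ε : (ZMod n)ˣ)⁻¹ * δ, E.mul_mem (E.inv_mem ε.2) δ.2, by
          rw [Units.val_mul, mul_assoc, ← h', ← mul_assoc, Units.inv_mul, one_mul]⟩
        subst hqq
        refine Prod.ext (Subtype.ext ?_) rfl
        have h1 := hfree ((δ : (ZMod n)ˣ)⁻¹ * ε) (E.mul_mem (E.inv_mem δ.2) ε.2) (r q).1 (r q).2 (by
          rw [Units.val_mul, mul_assoc, h', ← mul_assoc, Units.inv_mul, one_mul])
        exact (inv_mul_eq_one.1 h1).symm
      · intro i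
        obtain ⟨ε, hε, h⟩ := hrel i
        exact ⟨(⟨ε, hε⟩, Quotient.mk _ i), Subtype.ext h⟩
    have h1 := Nat.card_congr (Equiv.ofBijective _ hbij)
    rw [Nat.card_prod, Nat.card_eq_fintype_card (α := ι),
      Nat.card_eq_fintype_card (α := {j : ZMod n // j ≠ 0}), Fintype.card_subtype_compl,
      Fintype.card_subtype_eq, ZMod.card] at h1
    omega
  set A : X → ι → ℤ := fun x q => a x (r q).1 with hA
  have hout : ∀ (i : {j : ZMod n // j ≠ 0}) x, A x (Quotient.mk _ i) = a x i.1 := by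
    intro i x
    obtain ⟨ε, hε, h⟩ := hrel i
    simp only [hA]
    rw [← h, hconst x ε hε]
  have hzero : ∀ v : X → ℂ, (∀ q, ∑ x, v x * (A x q : ℂ) = 0) ↔
      ∀ j : ZMod n, j ≠ 0 → ∑ x, v x * cev (a x) j = 0 := by
    intro v
    constructor
    · intro h j _
      simp only [cev, Finset.mul_sum]
      rw [Finset.sum_comm]
      refine Finset.sum_eq_zero fun i _ => ?_
      by_cases hi : i = 0
      · simp [hi, ha]
      · have h1 := h (Quotient.mk _ ⟨i, hi⟩)
        simp only [hout] at h1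
        simp only [← mul_assoc, ← Finset.sum_mul, h1, zero_mul]
    · intro h q
      refine mul_left_cancel₀ hn0 ?_
      rw [mul_zero, Finset.mul_sum]
      simp only [hA, mul_left_comm (n : ℂ), mul_coeff_eq (ha _), Finset.mul_sum]
      rw [Finset.sum_comm]
      refine Finset.sum_eq_zero fun j hj => ?_
      simp only [← mul_assoc, ← Finset.sum_mul, h j (Finset.mem_erase.1 hj).1, zero_mul]
  set eq := (Fintype.equivFin ι).symm with heq
  refine ⟨Fintype.card ι, fun q => (r (eq q)).1, Fintype.card_pos, he, fun x => ?_, fun q q' => ?_,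
    fun v => ⟨fun h => (hzero v).1 fun q => ?_, fun h q => (hzero v).2 h (eq q)⟩,
    fun q => (r (eq q)).2, fun j hj => ?_⟩
  · obtain ⟨j, hj, hne⟩ := hrow x
    by_contra hcon
    push Not at hcon
    apply hne
    simp only [cev]
    refine Finset.sum_eq_zero fun i _ => ?_
    by_cases hi : i = 0
    · simp [hi, ha]
    · have h1 := hcon (eq.symm (Quotient.mk _ ⟨i, hi⟩))
      rw [Equiv.apply_symm_apply] at h1
      have h2 := hout ⟨i, hi⟩ x
      simp only [hA] at h2
      rw [h2] at h1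
      rw [h1]; simp
  · rw [hgram0 _ _ (r (eq q)).2 (r (eq q')).2]
    congr 1
    by_cases hqq : q = q'
    · rw [if_pos hqq, if_pos]
      subst hqq
      exact ⟨1, E.one_mem, by simp⟩
    · rw [if_neg hqq, if_neg fun h => hqq (eq.injective (hruniq _ _ h))]
  · have h1 := h (eq.symm q)
    simp only [Equiv.apply_symm_apply] at h1
    exact h1
  · obtain ⟨ε, hε, h⟩ := hrel ⟨j, hj⟩
    replace h : (ε : ZMod n) * (r (Quotient.mk _ ⟨j, hj⟩)).1 = j := h
    refine ⟨eq.symm (Quotient.mk _ ⟨j, hj⟩), ⟨⟨ε, hε, ?_⟩, fun x => ?_⟩, ?_⟩ <;> beta_reduce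
    · rw [Equiv.apply_symm_apply]; exact h
    · rw [Equiv.apply_symm_apply, ← hconst x ε hε (r (Quotient.mk _ ⟨j, hj⟩)).1, h]
    · rintro q ⟨⟨ε', hε', h'⟩, -⟩
      refine eq.injective ?_
      rw [Equiv.apply_symm_apply]
      refine hruniq _ _ ⟨ε'⁻¹ * ε, E.mul_mem (E.inv_mem hε') hε, ?_⟩
      rw [Units.val_mul, mul_assoc, h, ← h', ← mul_assoc, Units.inv_mul, one_mul]

end Cfsg.Agent.BlockCount.CyclicColumns
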