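import Cfsg.Agent.BlkChar.RankTwo

/-!
A bound for the number of characters of a block by integral functionals on the regular parts of a
major subsection.
-/

set_option autoImplicit false
set_option linter.style.haveILetI false
set_option linter.unusedSectionVars false

namespace Cfsg.Agent.BlockCount

open Cfsg
open Cfsg.Agent.Block Cfsg.Agent.BlkChar.Cyclo Cfsg.Agent.BlkChar.Contrib
open scoped ComplexConjugate Classical
open Cfsg.Agent.Brauer (regSum)

universe v

variable {G : Type v} [Group G] [Fintype G] {p : ℕ} [hp : Fact p.Prime] {M : Ideal AlgInt}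
  {C : Subgroup G} [Fintype C] {u : G} {k : ℕ} {B : Set (IrrCharacter G)}
  {b : Set (IrrCharacter C)}

theorem exists_cev_eq_regSum_part (hS : IsSection p k u C) (g : C → ℂ) (s : ℂ)
    (hint : ∀ ξ ∈ b, ∃ n : ℤ, s * regSum p (ξ : C → ℂ) g = n) (χ : IrrCharacter G) :
    ∃ a : ZMod (p ^ k) → ℤ, ∀ j, cev a j = s * regSum p (part hS b χ j) g := by
  choose n hn using hint
  set N : IrrCharacter C → ℤ := fun ξ => if h : ξ ∈ b then n ξ h else 0 with hN
  refine ⟨fun d => ∑ ξ ∈ Finset.univ.filter (· ∈ b),
    if idx hS ξ = d then (mult C χ ξ : ℤ) * N ξ else 0, fun j => ?_⟩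
  rw [part, regSum_sum_left, Finset.mul_sum]
  simp only [cev, Int.cast_sum, Finset.sum_mul]
  rw [Finset.sum_comm]
  refine Finset.sum_congr rfl fun ξ hξ => ?_
  rw [regSum_smul_left, regSum_pRegularPart_left, mul_left_comm,
    hn ξ (Finset.mem_filter.1 hξ).2, Finset.sum_eq_single (idx hS ξ)]
  · rw [if_pos rfl, hN, secCoeff]
    simp only [dif_pos (Finset.mem_filter.1 hξ).2]
    push_cast
    ring
  · intro d _ hd; rw [if_neg (Ne.symm hd)]; simp
  · intro h; exact absurd (Finset.mem_univ _) h

/-- Integral functionals which separate the regular parts, weighted so that any non-zero part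
meets weight at least one, bound the number of characters by their weighted norms. -/
theorem card_le_weight (hS : IsSection p k u C) (hM : IsPModular p M)
    (hind : IsInducedBlock M C b B) (hd : blockDefect p b = blockDefect p B)
    {R : Type*} [Fintype R] (g : R → C → ℂ)
    (hg : ∀ r, g r ∈ Submodule.span ℂ
      ((fun η : IrrCharacter C => pRegularPart p (η : C → ℂ)) '' b))
    (s : ℂ) (hs : s ≠ 0) (c : R → ℝ) (hc : ∀ r, 0 ≤ c r)
    (hint : ∀ r, ∀ ξ ∈ b, ∃ n : ℤ, s * regSum p (ξ : C → ℂ) (g r) = n)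
    (hsep : ∀ f ∈ Submodule.span ℂ ((fun η : IrrCharacter C => pRegularPart p (η : C → ℂ)) '' b),
      f ≠ 0 → 1 ≤ ∑ r ∈ Finset.univ.filter (fun r => regSum p f (g r) ≠ 0), c r) :
    (Nat.card B : ℝ) ≤
      ∑ r, c r * (Complex.normSq s * (Nat.card C : ℝ) * (regSum p (g r) (g r)).re) := by
  haveI : M.IsPrime := isPrime_of_isPModular hM
  obtain ⟨χ₀, hχ₀, h₀⟩ := BlockVal.exists_height_zero (p := p) (pBlock_nonempty hind.2.1)
  set U : ℝ := ((unitSet (p ^ k)).card : ℝ) with hUdef
  have hU : 0 < U := Nat.cast_pos.2 (unitSet_card_pos _)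
  choose a ha using fun r χ => exists_cev_eq_regSum_part (b := b) hS (g r) s (hint r) χ
  set F : IrrCharacter G → R → ℝ := fun χ r =>
    ∑ j ∈ unitSet (p ^ k), Complex.normSq (cev (a r χ) j) with hF
  have hF0 : ∀ χ r, 0 ≤ F χ r := fun χ r => Finset.sum_nonneg fun _ _ => Complex.normSq_nonneg _
  have hlow : ∀ χ ∈ B, U ≤ ∑ r, c r * F χ r := by
    intro χ hχ
    have hne : part hS b χ 1 ≠ 0 := by
      intro h0
      refine cM_ne_zero_major hS hM hind hd hχ hχ₀ h₀ (isUnit_one : IsUnit (1 : ZMod (p ^ k))) ?_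
      rw [cM, h0]
      simp [regSum]
    have h1 := hsep _ (part_mem_span hS b χ 1) hne
    calc U = U * 1 := (mul_one U).symm
      _ ≤ U * ∑ r ∈ Finset.univ.filter (fun r => regSum p (part hS b χ 1) (g r) ≠ 0), c r :=
          mul_le_mul_of_nonneg_left h1 hU.le
      _ ≤ ∑ r ∈ Finset.univ.filter (fun r => regSum p (part hS b χ 1) (g r) ≠ 0), c r * F χ r := by
          rw [Finset.mul_sum]
          refine Finset.sum_le_sum fun r hr => ?_
          rw [mul_comm]
          refine mul_le_mul_of_nonneg_left (unitSet_card_le_of_ne_zero (a r χ) isUnit_one ?_) (hc r)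
          rw [ha]
          exact mul_ne_zero hs (Finset.mem_filter.1 hr).2
      _ ≤ _ := Finset.sum_le_sum_of_subset_of_nonneg (Finset.filter_subset _ _)
          fun r _ _ => mul_nonneg (hc r) (hF0 χ r)
  have hup : ∀ r, ∑ χ : IrrCharacter G, F χ r =
      U * (Complex.normSq s * (Nat.card C : ℝ) * (regSum p (g r) (g r)).re) := by
    intro r
    simp only [hF]
    rw [Finset.sum_comm, hUdef, ← nsmul_eq_mul, ← Finset.sum_const]
    refine Finset.sum_congr rfl fun j hj => ?_
    obtain ⟨hw, hwp⟩ := pow_section hS (mem_unitSet.1 hj)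
    have h := section_orth (p := p) (f := g r) hw hwp (span_isClassFunction (hg r))
    have e : ∀ χ : IrrCharacter G, regSum p (part hS b χ j) (g r) =
        regSum p (fun y : C => (χ : G → ℂ) (u ^ j.val * y)) (g r) := by
      intro χ
      rw [← Brauer.regSum_conj p (g r) (part hS b χ j),
        ← regSum_section_right hS hM hind.1 χ j (hg r), Brauer.regSum_conj]
    have h' := congrArg Complex.re h
    rw [Complex.re_sum] at h'
    simp only [Complex.mul_conj, Complex.ofReal_re, ← Complex.ofReal_natCast,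
      Complex.re_ofReal_mul] at h'
    rw [mul_assoc, ← h', Finset.mul_sum]
    exact Finset.sum_congr rfl fun χ _ => by rw [ha, Complex.normSq_mul, e]
  refine le_of_mul_le_mul_right ?_ hU
  calc (Nat.card B : ℝ) * U = ∑ χ ∈ Finset.univ.filter (· ∈ B), U := by
        rw [Finset.sum_const, nsmul_eq_mul, Nat.card_eq_fintype_card, Fintype.card_subtype]
    _ ≤ ∑ χ ∈ Finset.univ.filter (· ∈ B), ∑ r, c r * F χ r :=
        Finset.sum_le_sum fun χ hχ => hlow χ (Finset.mem_filter.1 hχ).2
    _ ≤ ∑ χ : IrrCharacter G, ∑ r, c r * F χ r :=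
        Finset.sum_le_sum_of_subset_of_nonneg (Finset.filter_subset _ _)
          fun χ _ _ => Finset.sum_nonneg fun r _ => mul_nonneg (hc r) (hF0 χ r)
    _ = _ := by
        rw [Finset.sum_comm, Finset.sum_mul]
        refine Finset.sum_congr rfl fun r _ => ?_
        rw [← Finset.mul_sum, hup r]
        ring

end Cfsg.Agent.BlockCount
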