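import Cfsg.Agent.BlockCount.Columns
import Cfsg.Agent.BlockCount.WeightBound
import Cfsg.Agent.BlockVal.DefectOne
import Cfsg.Agent.BlockCover.PrincipalType
import Cfsg.Agent.BlockHeight.MajorPairs

/-!
A block of defect one: integral combinations of its members vanishing on the singular elements
which separate, with total weighted norm at most `p`.
-/

set_option autoImplicit false
set_option linter.style.haveILetI false
set_option linter.unusedSectionVars false
set_option maxHeartbeats 800000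

namespace Cfsg.Agent.BlockCount

open Cfsg
open Cfsg.Agent.Block Cfsg.Agent.BlkChar.Cyclo Cfsg.Agent.BlkChar.Contrib
open scoped ComplexConjugate Classical
open Cfsg.Agent.Brauer (regSum)

universe u

variable {H : Type u} [Group H] [Fintype H] {p : ℕ} [hp : Fact p.Prime] {M : Ideal AlgInt}

/-- Transport of the section sum along a conjugation. -/
theorem regSum_section_comp {C : Subgroup H} [Fintype C] {n : H}
    (hmap : C.map (MulAut.conj n).toMonoidHom = C) (χ : IrrCharacter H) (v : H) (θ : C → ℂ) :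
    regSum p (fun y : C => (χ : H → ℂ) (v * y))
        (fun y : C => θ ((BrauerPairs.conjEquiv n hmap).symm y)) =
      regSum p (fun y : C => (χ : H → ℂ) (n⁻¹ * v * n * y)) θ := by
  set e := BrauerPairs.conjEquiv n hmap
  refine Finset.sum_bij' (fun y _ => e.symm y) (fun y _ => e y) (fun y hy => ?_) (fun y hy => ?_)
    (fun y _ => e.apply_symm_apply y) (fun y _ => e.symm_apply_apply y) (fun y _ => ?_)
  · exact Finset.mem_filter.2 ⟨Finset.mem_univ _, by
      rw [MulEquiv.orderOf_eq]; exact (Finset.mem_filter.1 hy).2⟩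
  · exact Finset.mem_filter.2 ⟨Finset.mem_univ _, by
      rw [MulEquiv.orderOf_eq]; exact (Finset.mem_filter.1 hy).2⟩
  · congr 1
    show (χ : H → ℂ) (v * y) = (χ : H → ℂ) (n⁻¹ * v * n * (n⁻¹ * (y : H) * n))
    rw [← Char.irr_isClassFunction χ.2 (v * (y : H)) n⁻¹]
    congr 1
    group

/-- The separating functionals of a block of defect one. -/
theorem exists_defectOne_functionals (hM : IsPModular p M) {β : Set (IrrCharacter H)}
    (hβ : IsPBlock M β) (hdef : blockDefect p β = 1) :
    ∃ (N : ℕ) (w : Fin N → IrrCharacter H → ℤ) (c : Fin N → ℝ),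
      (∀ r, 0 ≤ c r) ∧
      (∀ r (g : H), p ∣ orderOf g →
        ∑ ξ ∈ Finset.univ.filter (· ∈ β), (w r ξ : ℂ) * (ξ : H → ℂ) g = 0) ∧
      (∀ L : IrrCharacter H → ℂ, (∃ v : IrrCharacter H → ℂ,
          (∀ g : H, p ∣ orderOf g →
            ∑ ξ ∈ Finset.univ.filter (· ∈ β), v ξ * (ξ : H → ℂ) g = 0) ∧
          ∑ ξ ∈ Finset.univ.filter (· ∈ β), v ξ * L ξ ≠ 0) →
        1 ≤ ∑ r ∈ Finset.univ.filter
          (fun r => ∑ ξ ∈ Finset.univ.filter (· ∈ β), (w r ξ : ℂ) * L ξ ≠ 0), c r) ∧
      ∑ r, c r * ∑ ξ ∈ Finset.univ.filter (· ∈ β), (w r ξ : ℝ) ^ 2 ≤ p := by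
  haveI : M.IsPrime := isPrime_of_isPModular hM
  haveI := Block.charP_resF (M := M) hM
  haveI : Fact (1 < p ^ 1) := ⟨by rw [pow_one]; exact hp.out.one_lt⟩
  obtain ⟨Q, hQ⟩ := exists_isDefectGroup (p := p) (M := M) hβ
  have hQcard : Nat.card Q = p := by
    rw [Block.card_isDefectGroup hM hβ hQ, hdef, pow_one]
  haveI : IsCyclic Q := isCyclic_of_prime_card hQcard
  obtain ⟨x₀, hx₀⟩ := IsCyclic.exists_generator (α := Q)
  set x : H := (x₀ : H) with hxdef
  have hord : orderOf x = p := by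
    rw [hxdef, Subgroup.orderOf_coe, orderOf_eq_card_of_forall_mem_zpowers hx₀, hQcard]
  have hQx : Q = Subgroup.zpowers x := by
    refine (Subgroup.eq_of_le_of_card_ge (Subgroup.zpowers_le.2 x₀.2) ?_).symm
    rw [hQcard, Nat.card_zpowers, hord]
  rw [hQx] at hQ
  set C := Subgroup.centralizer (Subgroup.zpowers x : Set H) with hCdef
  haveI := Fintype.ofFinite C
  have hCs : C = Subgroup.centralizer ({x} : Set H) := Brauer.centralizer_zpowers_eq x
  have hxQ : IsPGroup p (Subgroup.zpowers x) := isDefectGroup_isPGroup hQ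
  -- the block of the centralizer
  have hdefQ : BrauerPairs.IsDef (BrauerPairs.blockSysTop M) p (⟨β, hβ⟩ : BrauerPairs.Blk M H)
      (Subgroup.zpowers x) := BrauerPairs.isDef_of_isDefectGroup hQ
  obtain ⟨e₀, he₀⟩ := BrauerPairs.exists_maxPair_of_isDef
    (ι := fun P => BrauerPairs.Blk M (Subgroup.centralizer (P : Set H)))
    (S := BrauerPairs.pairSys M H) hdefQ
  set b : Set (IrrCharacter C) := e₀.1 with hbdef
  have hind : IsInducedBlock M C b β :=
    (BlockCover.isInducedBlock_iff_pairOf hxQ e₀ ⟨β, hβ⟩).2 he₀.1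
  have R := DefectOne.rootData hM hQ hCs hind
  set P := (Subgroup.zpowers x).subgroupOf C with hPdef
  haveI := Fintype.ofFinite P
  obtain ⟨θ, hθ, hθP⟩ := R.exists_trivialOn
  have hxC : Subgroup.zpowers x ≤ C := Subgroup.zpowers_le.2
    (hCs ▸ Subgroup.mem_centralizer_singleton_iff.2 rfl)
  have hPcard : Nat.card P = p := by
    rw [Nat.card_congr (Subgroup.subgroupOfEquivOfLe hxC).toEquiv, Nat.card_zpowers, hord]
  have hbd : blockDefect p b = 1 := by
    have h := Block.card_isDefectGroup hM R.hB R.hD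
    rw [hPcard] at h
    exact (Nat.pow_right_injective hp.out.two_le (by simpa using h)).symm
  set s : ℂ := (p : ℂ) / (Nat.card C : ℂ) with hs
  have hθθ : s * regSum p (θ : C → ℂ) (θ : C → ℂ) = 1 := by
    rw [R.regSum_self_ne_zero θ hθ hθP, hs, ← Subgroup.card_mul_index P, hPcard]
    push_cast
    have h1 : (P.index : ℂ) ≠ 0 := Nat.cast_ne_zero.2 Subgroup.index_ne_zero_of_finite
    have h2 : (p : ℂ) ≠ 0 := Nat.cast_ne_zero.2 hp.out.ne_zero
    field_simp
  have hint : ∀ ξ ∈ b, ∃ z : ℤ, s * regSum p (ξ : C → ℂ) (θ : C → ℂ) = z := by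
    intro ξ hξ
    obtain ⟨q, hq⟩ := exists_qInt (p := p) b hξ θ
    rw [hbd, pow_one] at hq
    exact ⟨q, hq⟩
  have hS : IsSection p 1 x C := ⟨fun g => by
    rw [hCdef, BlockHeight.mem_centralizer_zpowers], by rw [pow_one, ← hord, pow_orderOf_eq_one]⟩
  -- the columns
  set X : IrrCharacter H → ZMod (p ^ 1) → ℂ := fun χ j =>
    s * regSum p (fun y : C => (χ : H → ℂ) (x ^ j.val * y)) (θ : C → ℂ) with hX
  have hθspan : pRegularPart p (θ : C → ℂ) ∈ Submodule.span ℂ
      ((fun η : IrrCharacter C => pRegularPart p (η : C → ℂ)) '' b) :=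
    Submodule.subset_span ⟨θ, hθ, rfl⟩
  have hXpart : ∀ χ j, X χ j = s * regSum p (part hS b χ j) (θ : C → ℂ) := by
    intro χ j
    have h := regSum_section_right hS hM R.hB χ j hθspan
    rw [regSum_pRegularPart_left, regSum_pRegularPart_left] at h
    simp only [hX]
    rw [← Brauer.regSum_conj p (θ : C → ℂ) (fun y : C => (χ : H → ℂ) (x ^ j.val * y)), h,
      Brauer.regSum_conj]
  choose a₀ ha₀ using fun χ => exists_cev_eq_regSum_part (b := b) hS (θ : C → ℂ) s hint χ
  set a : IrrCharacter H → ZMod (p ^ 1) → ℤ := fun χ d => a₀ χ d - a₀ χ 0 with ha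
  have hcev : ∀ χ (j : (ZMod (p ^ 1))ˣ), cev (a χ) j = X χ j := by
    intro χ j
    rw [hXpart, ← ha₀, cev, cev]
    simp only [ha, Int.cast_sub, sub_mul, Finset.sum_sub_distrib, ← Finset.mul_sum]
    rw [sub_eq_self]
    refine mul_eq_zero_of_right _ ?_
    rw [Finset.sum_congr rfl fun d _ => by rw [mul_comm (j : ZMod (p ^ 1)) d], sum_stdAddChar,
      if_neg j.ne_zero]
  have hpowv : ∀ j : ZMod (p ^ 1), ∀ i : ℤ, (i : ZMod (p ^ 1)) = j → x ^ i = x ^ j.val := by
    intro j i hi
    have h : ((i : ℤ) : ZMod (p ^ 1)) = (((j.val : ℕ) : ℤ) : ZMod (p ^ 1)) := by simp [hi]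
    rw [ZMod.intCast_eq_intCast_iff] at h
    rw [← zpow_natCast, zpow_eq_zpow_iff_modEq, hord]
    exact_mod_cast (show i ≡ ((j.val : ℕ) : ℤ) [ZMOD (p : ℤ)] by simpa using h)
  have hXβ : ∀ χ : IrrCharacter H, χ ∉ β → ∀ j : (ZMod (p ^ 1))ˣ, X χ j = 0 := by
    intro χ hχ j
    have h := part_eq_zero_of_notMem hS hM hind hχ j.isUnit
    rw [hXpart, h]
    simp [regSum]
  have hθc : IsClassFunction C (θ : C → ℂ) := Char.irr_isClassFunction θ.2
  -- conjugates
  have hnorm_map : ∀ n ∈ Subgroup.normalizer (Subgroup.zpowers x : Set H),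
      C.map (MulAut.conj n).toMonoidHom = C := fun n hn =>
    BrauerPairs.map_conj_of_mem_normalizer (BrauerPairs.normalizer_le_normalizer_centralizer _ hn)
  have hnexp : ∀ n ∈ Subgroup.normalizer (Subgroup.zpowers x : Set H),
      ∃ i : (ZMod (p ^ 1))ˣ, n⁻¹ * x * n = x ^ (i : ZMod (p ^ 1)).val := by
    intro n hn
    have h1 : n⁻¹ * x * n ∈ Subgroup.zpowers x := by
      have := (Subgroup.mem_normalizer_iff.1 (inv_mem hn) x).1 (Subgroup.mem_zpowers x)
      simpa using this
    obtain ⟨k, hk⟩ := Subgroup.mem_zpowers_iff.1 h1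
    refine ⟨(isUnit_of_ne_zero (d := (k : ZMod (p ^ 1))) fun h0 => ?_).unit, ?_⟩
    · have h2 := hpowv 0 k h0
      rw [ZMod.val_zero, pow_zero, hk] at h2
      have h3 : x = 1 := by
        calc x = n * (n⁻¹ * x * n) * n⁻¹ := by group
          _ = 1 := by rw [h2]; group
      rw [h3, orderOf_one] at hord
      exact hp.out.ne_one hord.symm
    · rw [IsUnit.unit_spec, ← hpowv _ k rfl, hk]
  have hsecmul : ∀ i j : ZMod (p ^ 1), (x ^ i.val) ^ j.val = x ^ (i * j).val := by
    intro i j
    rw [← pow_mul, ← zpow_natCast]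
    refine hpowv _ _ ?_
    push_cast [ZMod.natCast_zmod_val]
    rfl
  have hXconj : ∀ (n : H) (hn : n ∈ Subgroup.normalizer (Subgroup.zpowers x : Set H))
      (i : (ZMod (p ^ 1))ˣ), n⁻¹ * x * n = x ^ (i : ZMod (p ^ 1)).val →
      ∀ (χ : IrrCharacter H) (j : (ZMod (p ^ 1))ˣ),
      X χ ((i * j : (ZMod (p ^ 1))ˣ) : ZMod (p ^ 1)) =
        s * regSum p (fun y : C => (χ : H → ℂ) (x ^ (j : ZMod (p ^ 1)).val * y))
          (fun y : C => (θ : C → ℂ) ((BrauerPairs.conjEquiv n (hnorm_map n hn)).symm y)) := by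
    intro n hn i hi χ j
    rw [regSum_section_comp]
    have e : n⁻¹ * x ^ (j : ZMod (p ^ 1)).val * n =
        x ^ ((i * j : (ZMod (p ^ 1))ˣ) : ZMod (p ^ 1)).val := by
      rw [Units.val_mul, ← hsecmul, ← hi]
      generalize (j : ZMod (p ^ 1)).val = m
      induction m with
      | zero => simp
      | succ m ih => rw [pow_succ, pow_succ (n⁻¹ * x * n), ← ih]; group
    rw [e]
  have hθn : ∀ (n : H) (hn : n ∈ Subgroup.normalizer (Subgroup.zpowers x : Set H)),
      IsIrrCharacter C (fun y : C => (θ : C → ℂ) ((BrauerPairs.conjEquiv n (hnorm_map n hn)).symm y)) :=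
    fun n hn => BrauerPairs.isIrrCharacter_comp_conjEquiv n _ θ.2
  -- orthogonality of the columns
  have hsum : ∀ (j : (ZMod (p ^ 1))ˣ) (g : C → ℂ), IsClassFunction C g →
      ∑ χ : IrrCharacter H, X χ j *
        conj (s * regSum p (fun y : C => (χ : H → ℂ) (x ^ (j : ZMod (p ^ 1)).val * y)) g) =
      s * conj s * ((Nat.card C : ℂ) * regSum p g (θ : C → ℂ)) := by
    intro j g hg
    obtain ⟨hw, hwp⟩ := pow_section hS j.isUnit
    rw [← section_orth (p := p) (f := (θ : C → ℂ)) hw hwp hg, Finset.mul_sum]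
    refine Finset.sum_congr rfl fun χ _ => ?_
    rw [map_mul]
    simp only [hX]
    ring
  have hnorm : ∀ j : (ZMod (p ^ 1))ˣ,
      ∑ χ : IrrCharacter H, X χ j * conj (X χ j) = (p : ℂ) := by
    intro j
    have h := hsum j (θ : C → ℂ) hθc
    rw [show ∑ χ : IrrCharacter H, X χ j * conj (X χ j) = _ from h]
    have hsr : conj s = s := by rw [hs, map_div₀, map_natCast, map_natCast]
    rw [hsr, show s * s * ((Nat.card C : ℂ) * regSum p (θ : C → ℂ) (θ : C → ℂ)) =
      s * (Nat.card C : ℂ) * (s * regSum p (θ : C → ℂ) (θ : C → ℂ)) by ring, hθθ, mul_one, hs,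
      div_mul_cancel₀ _ (Nat.cast_ne_zero.2 Nat.card_pos.ne')]
  have hreg_eq : ∀ η ∈ b, ∀ (f : C → ℂ), (η : C → ℂ) 1 = (θ : C → ℂ) 1 →
      regSum p f (η : C → ℂ) = regSum p f (θ : C → ℂ) := by
    intro η hη f h1
    refine Finset.sum_congr rfl fun y hy => ?_
    rw [R.apply_regular hθ hθP hη (Finset.mem_filter.1 hy).2, h1,
      div_self (Char.irr_one_ne_zero θ.2), one_mul]
  have hdich : ∀ i : (ZMod (p ^ 1))ˣ,
      (∀ χ (j : (ZMod (p ^ 1))ˣ), X χ ((i * j : (ZMod (p ^ 1))ˣ) : ZMod (p ^ 1)) = X χ j) ∨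
      ∀ j : (ZMod (p ^ 1))ˣ,
        ∑ χ : IrrCharacter H, X χ j * conj (X χ ((i * j : (ZMod (p ^ 1))ˣ) : ZMod (p ^ 1))) = 0 := by
    intro i
    by_cases hex : ∃ n ∈ Subgroup.normalizer (Subgroup.zpowers x : Set H),
        n⁻¹ * x * n = x ^ (i : ZMod (p ^ 1)).val
    · obtain ⟨n, hn, hi⟩ := hex
      set θn : IrrCharacter C := ⟨_, hθn n hn⟩ with hθndef
      by_cases hmem : θn ∈ b
      · refine Or.inl fun χ j => ?_
        rw [hXconj n hn i hi χ j]
        show s * regSum p _ (θn : C → ℂ) = _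
        rw [hreg_eq θn hmem _ (by
          show (θ : C → ℂ) ((BrauerPairs.conjEquiv n (hnorm_map n hn)).symm 1) = _
          rw [map_one])]
      · refine Or.inr fun j => ?_
        simp only [hXconj n hn i hi]
        show ∑ χ : IrrCharacter H, X χ j * conj (s * regSum p _ (θn : C → ℂ)) = 0
        rw [hsum j _ (Char.irr_isClassFunction θn.2), ← Brauer.regSum_conj p (θ : C → ℂ),
          regSum_irr_eq_zero hM R.hB hθ hmem, map_zero, mul_zero, mul_zero]
    · refine Or.inr fun j => ?_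
      have hterm : ∀ y y' : C, ¬ p ∣ orderOf y → ¬ p ∣ orderOf y' →
          ∑ χ : IrrCharacter H, (χ : H → ℂ) (x ^ (j : ZMod (p ^ 1)).val * y) *
            conj ((χ : H → ℂ) (x ^ ((i * j : (ZMod (p ^ 1))ˣ) : ZMod (p ^ 1)).val * y')) = 0 := by
        intro y y' hy hy'
        rw [Char.sum_irr_mul_conj, if_neg]
        intro hconj
        apply hex
        obtain ⟨g, hg⟩ := isConj_iff.1 hconj
        have hpp : ∀ (t : (ZMod (p ^ 1))ˣ) (z : C), ¬ p ∣ orderOf z →
            Element.pPart p (x ^ (t : ZMod (p ^ 1)).val * (z : H)) = x ^ (t : ZMod (p ^ 1)).val := by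
          intro t z hz
          obtain ⟨hw, l, hl⟩ := pow_section hS t.isUnit
          exact ((Element.eq_pPart hp.out ((hw z).1 z.2).symm rfl hl
            (Nat.coprime_comm.1 (hp.out.coprime_iff_not_dvd.2
              (by rwa [Subgroup.orderOf_coe])))).1).symm
        have h1 := (Element.pPart_conj hp.out g (x ^ (j : ZMod (p ^ 1)).val * (y : H))).1
        rw [hg, hpp _ _ hy', hpp _ _ hy] at h1
        have h2 : g * x * g⁻¹ = x ^ (i : ZMod (p ^ 1)).val := by
          have e1 : ((j : ZMod (p ^ 1)) * (j⁻¹ : (ZMod (p ^ 1))ˣ)) = 1 := by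
            rw [← Units.val_mul, mul_inv_cancel, Units.val_one]
          have e2 : x ^ ((1 : ZMod (p ^ 1))).val = x := by
            rw [← hpowv 1 1 (by simp), zpow_one]
          have h3 := congrArg (fun z => z ^ ((j⁻¹ : (ZMod (p ^ 1))ˣ) : ZMod (p ^ 1)).val) h1
          simp only [conj_pow, hsecmul, e1, e2] at h3
          rw [← h3, Units.val_mul, mul_assoc, e1, mul_one]
        refine ⟨g⁻¹, inv_mem (Subgroup.mem_normalizer_iff.2 fun z => ?_), by
          rw [inv_inv]; exact h2⟩
        have hmap : (Subgroup.zpowers x).map (MulAut.conj g).toMonoidHom =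
            Subgroup.zpowers x := by
          refine Subgroup.eq_of_le_of_card_ge ?_ ?_
          · rw [MonoidHom.map_zpowers]
            refine Subgroup.zpowers_le.2 ?_
            simp only [MulEquiv.coe_toMonoidHom, MulAut.conj_apply, h2]
            exact Subgroup.npow_mem_zpowers x _
          · rw [Subgroup.card_map_of_injective (MulAut.conj g).injective]
        constructor
        · intro hz
          rw [← hmap]
          exact ⟨z, hz, rfl⟩
        · intro hz
          rw [← hmap] at hz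
          obtain ⟨w', hw', hw''⟩ := hz
          exact (MulAut.conj g).injective hw'' ▸ hw'
      simp only [hX, regSum, Finset.mul_sum, map_sum, map_mul, Finset.sum_mul]
      rw [Finset.sum_comm]
      refine Finset.sum_eq_zero fun y' hy' => ?_
      rw [Finset.sum_comm]
      refine Finset.sum_eq_zero fun y hy => ?_
      have h := hterm y y' (Finset.mem_filter.1 hy).2 (Finset.mem_filter.1 hy').2
      rw [← mul_zero (s * conj s * conj ((θ : C → ℂ) y) * conj (conj ((θ : C → ℂ) y'))), ← h,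
        Finset.mul_sum]
      exact Finset.sum_congr rfl fun χ _ => by ring
  -- to the members of the block
  have hβsum : ∀ f : IrrCharacter H → ℂ, (∀ χ, χ ∉ β → f χ = 0) →
      ∑ ξ : {χ : IrrCharacter H // χ ∈ β}, f ξ.1 = ∑ χ : IrrCharacter H, f χ := by
    intro f hf
    rw [← Finset.sum_subtype (Finset.univ.filter (· ∈ β)) (by simp) f,
      Finset.sum_filter_of_ne fun χ _ h => by_contra fun h' => h (hf χ h')]
  obtain ⟨χh, hχh, hh0⟩ := BlockVal.exists_height_zero (p := p) (pBlock_nonempty hβ)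
  obtain ⟨N, w, c, hc, hw, hsep, hcost⟩ := exists_functionals_of_columns
    (X := {χ : IrrCharacter H // χ ∈ β}) (fun ξ => a ξ.1) (fun ξ => by simp [ha])
    (fun ξ => by
      rw [show cev (a ξ.1) 1 = X ξ.1 1 from hcev ξ.1 1, hXpart]
      intro h0
      refine cM_ne_zero_major hS hM hind (by rw [hbd, hdef]) ξ.2 hχh hh0
        (isUnit_one : IsUnit (1 : ZMod (p ^ 1))) ?_
      have hprop : ∀ f ∈ Submodule.span ℂ
          ((fun η : IrrCharacter C => pRegularPart p (η : C → ℂ)) '' b),
          ∀ g : C → ℂ, regSum p g (θ : C → ℂ) = 0 → regSum p g f = 0 := by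
        intro f hf g hg
        refine Submodule.span_induction ?_ ?_ ?_ ?_ hf
        · rintro _ ⟨η, hη, rfl⟩
          rw [regSum_pRegularPart_right]
          have e : regSum p g (η : C → ℂ) =
              conj ((η : C → ℂ) 1 / (θ : C → ℂ) 1) * regSum p g (θ : C → ℂ) := by
            rw [regSum, regSum, Finset.mul_sum]
            refine Finset.sum_congr rfl fun y hy => ?_
            rw [R.apply_regular hθ hθP hη (Finset.mem_filter.1 hy).2, map_mul]
            ring
          rw [e, hg, mul_zero]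
        · simp [regSum]
        · intro f f' _ _ h1 h2
          rw [← Brauer.regSum_conj, regSum_add_left, map_add, Brauer.regSum_conj,
            Brauer.regSum_conj, h1, h2, add_zero]
        · intro t f _ h1; rw [regSum_smul_right, h1, mul_zero]
      have hs0 : s ≠ 0 := div_ne_zero (Nat.cast_ne_zero.2 hp.out.ne_zero)
        (Nat.cast_ne_zero.2 Nat.card_pos.ne')
      rw [cM, hprop _ (part_mem_span hS b χh 1) _ ((mul_eq_zero.1 h0).resolve_left hs0), mul_zero])
    (fun j => by
      simp only [hcev]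
      rw [hβsum (fun χ => X χ j * conj (X χ j)) (fun χ hχ => by rw [hXβ χ hχ, zero_mul]), hnorm])
    (fun i => by
      rcases hdich i with h | h
      · exact Or.inl fun ξ j => by rw [hcev, hcev, h]
      · refine Or.inr fun j => ?_
        simp only [hcev]
        rw [hβsum (fun χ => X χ j * conj (X χ (i * j : (ZMod (p ^ 1))ˣ)))
          (fun χ hχ => by rw [hXβ χ hχ, zero_mul]), h])
  have hFsum : ∀ (f : IrrCharacter H → ℂ),
      ∑ ξ ∈ Finset.univ.filter (· ∈ β), f ξ = ∑ ξ : {χ : IrrCharacter H // χ ∈ β}, f ξ.1 :=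
    fun f => Finset.sum_subtype _ (by simp) f
  -- vanishing and the columns
  have hvan : ∀ v : IrrCharacter H → ℂ,
      (∀ j : (ZMod (p ^ 1))ˣ, ∑ ξ ∈ Finset.univ.filter (· ∈ β), v ξ * X ξ j = 0) →
      ∀ g : H, p ∣ orderOf g →
        ∑ ξ ∈ Finset.univ.filter (· ∈ β), v ξ * (ξ : H → ℂ) g = 0 := by
    intro v hv g hg
    set F : H → ℂ := fun g => ∑ ξ ∈ Finset.univ.filter (· ∈ β), v ξ * (ξ : H → ℂ) g with hF
    have hFc : IsClassFunction H F := fun g h => by
      simp only [hF, Char.irr_isClassFunction (Subtype.prop _) g h]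
    show F g = 0
    set u := Element.pPart p g with hu
    have hu1 : u ≠ 1 := fun h => by
      have h1 := Element.orderOf_pPart_eq_pow hp.out g
      rw [← hu, h, orderOf_one] at h1
      exact absurd h1 (Nat.one_lt_pow (hp.out.factorization_pos_of_dvd (orderOf_pos g).ne' hg).ne'
        hp.out.one_lt).ne
    by_cases hmem : ∃ E, IsDefectGroup p M β E ∧ u ∈ E
    swap
    · push Not at hmem
      exact Finset.sum_eq_zero fun ξ hξ => by
        rw [char_eq_zero_of_pPart_notMem hM hβ (Finset.mem_filter.1 hξ).2 hmem, mul_zero]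
    obtain ⟨E, hE, huE⟩ := hmem
    obtain ⟨t, ht⟩ := isDefectGroup_exists_conj_eq hM hβ hQ hE
    rw [← ht] at huE
    obtain ⟨k, hk⟩ := Subgroup.mem_zpowers_iff.1 (BrauerPairs.mem_map_conj_iff.1 huE)
    have hk0 : (k : ZMod (p ^ 1)) ≠ 0 := fun h0 => hu1 (by
      have h2 := hpowv 0 k h0
      rw [ZMod.val_zero, pow_zero, hk] at h2
      calc u = t * (t⁻¹ * u * t) * t⁻¹ := by group
        _ = 1 := by rw [h2]; group)
    set j : (ZMod (p ^ 1))ˣ := (isUnit_of_ne_zero hk0).unit with hj
    set U := x ^ (j : ZMod (p ^ 1)).val with hU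
    have hUt : t⁻¹ * u * t = U := by rw [hU, hj, IsUnit.unit_spec, ← hk, hpowv _ k rfl]
    obtain ⟨hw, l, hl⟩ := pow_section hS j.isUnit
    have hCU : C = Subgroup.centralizer ({U} : Set H) := by
      ext z
      rw [Subgroup.mem_centralizer_singleton_iff]
      exact hw z
    have hordU : orderOf U = p ^ 1 := by
      rw [pow_one]
      refine orderOf_eq_prime ?_ ?_
      · have h1 := pow_orderOf_eq_one x
        rw [hord] at h1
        rw [hU, ← pow_mul, mul_comm, pow_mul, h1, one_pow]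
      · rw [← hUt]
        intro h1
        exact hu1 (by
          calc u = t * (t⁻¹ * u * t) * t⁻¹ := by group
            _ = 1 := by rw [h1]; group)
    set Fj : C → ℂ := fun y => F (U * y) with hFj
    have hFjc : IsClassFunction C Fj := SecCount.classFun_shift hCU hFc
    have hzero : ∀ η : IrrCharacter C, regSum p Fj (η : C → ℂ) = 0 := by
      intro η
      have e : regSum p Fj (η : C → ℂ) = ∑ ξ ∈ Finset.univ.filter (· ∈ β),
          v ξ * regSum p (fun y : C => (ξ : H → ℂ) (U * y)) (η : C → ℂ) := by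
        simp only [hFj, hF, regSum, Finset.sum_mul, Finset.mul_sum]
        rw [Finset.sum_comm]
        exact Finset.sum_congr rfl fun ξ _ => Finset.sum_congr rfl fun y _ => by ring
      rw [e]
      obtain ⟨B', hB'⟩ := inducedBlockDefined_of_brauer hM (P := Subgroup.zpowers x) hxQ hxC
        (le_of_eq rfl) (Subgroup.centralizer_le_normalizer _) (isPBlock_blockOf (M := M) η)
      by_cases hBB : B' = β
      swap
      · refine Finset.sum_eq_zero fun ξ hξ => ?_
        rw [SecCount.regSum_section_eq_zero hM hordU hCU hB' (fun h => hBB (pBlock_eq_of_mem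
          hB'.2.1 hβ h (Finset.mem_filter.1 hξ).2)) (mem_blockOf_self η), mul_zero]
      rw [hBB] at hB'
      have hpair := SubsecNZ.pairOf_of_isInducedBlock hM (⟨β, hβ⟩ : BrauerPairs.Blk M H) hxQ
        ⟨_, isPBlock_blockOf (M := M) η⟩ hB'
      obtain ⟨n, hn, hn'⟩ := BrauerPairs.MaxPair.exists_conj_same
        (ι := fun P => BrauerPairs.Blk M (Subgroup.centralizer (P : Set H)))
        (S := BrauerPairs.pairSys M H) (S₀ := BrauerPairs.blockSysTop M) (p := p)
        (B := (⟨β, hβ⟩ : BrauerPairs.Blk M H)) (P := Subgroup.zpowers x) (e := e₀)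
        (e' := ⟨_, isPBlock_blockOf (M := M) η⟩) he₀ hpair
      obtain ⟨i, hi⟩ := hnexp n hn
      set θn : IrrCharacter C := ⟨_, hθn n hn⟩ with hθndef
      have hθnmem : θn ∈ blockOf M (η : C → ℂ) := by
        refine BrauerPairs.mem_of_cj n (hnorm_map n hn) (i := e₀)
          (j := ⟨_, isPBlock_blockOf (M := M) η⟩) hn' hθ fun z z' hzz => ?_
        show (θ : C → ℂ) ((BrauerPairs.conjEquiv n (hnorm_map n hn)).symm z') = _
        refine congrArg _ (Subtype.ext ?_)
        show n⁻¹ * (z' : H) * n = z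
        rw [hzz]; group
      have R' := DefectOne.rootData hM hQ hCs hB'
      have hθnP : ∀ z ∈ P, (θn : C → ℂ) z = (θn : C → ℂ) 1 := by
        intro z hz
        show (θ : C → ℂ) ((BrauerPairs.conjEquiv n (hnorm_map n hn)).symm z) =
          (θ : C → ℂ) ((BrauerPairs.conjEquiv n (hnorm_map n hn)).symm 1)
        rw [map_one]
        refine hθP _ (Subgroup.mem_subgroupOf.2 ?_)
        show n⁻¹ * (z : H) * n ∈ Subgroup.zpowers x
        simpa using (Subgroup.mem_normalizer_iff.1 (inv_mem hn) (z : H)).1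
          (Subgroup.mem_subgroupOf.1 hz)
      have e2 : ∀ f : C → ℂ, regSum p f (η : C → ℂ) =
          conj ((η : C → ℂ) 1 / (θn : C → ℂ) 1) * regSum p f (θn : C → ℂ) := by
        intro f
        rw [regSum, regSum, Finset.mul_sum]
        refine Finset.sum_congr rfl fun y hy => ?_
        rw [R'.apply_regular hθnmem hθnP (mem_blockOf_self η) (Finset.mem_filter.1 hy).2, map_mul]
        ring
      have hv' := hv (i * j)
      have hs0 : s ≠ 0 := div_ne_zero (Nat.cast_ne_zero.2 hp.out.ne_zero)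
        (Nat.cast_ne_zero.2 Nat.card_pos.ne')
      simp only [hXconj n hn i hi, ← hU] at hv'
      refine mul_left_cancel₀ hs0 ?_
      rw [mul_zero, Finset.mul_sum, ← mul_zero (conj ((η : C → ℂ) 1 / (θn : C → ℂ) 1)), ← hv',
        Finset.mul_sum]
      refine Finset.sum_congr rfl fun ξ _ => ?_
      rw [e2]
      show _ = _ * (_ * (s * regSum p _ (θn : C → ℂ)))
      ring
    have hFF : regSum p Fj Fj = 0 := by
      have h := SecCount.regSum_parseval (p := p) hFjc
      simp only [hzero, zero_mul, Finset.sum_const_zero] at h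
      exact (mul_eq_zero.1 h.symm).resolve_left (Nat.cast_ne_zero.mpr Nat.card_pos.ne')
    -- the value at `g`
    set g' := t⁻¹ * g * t with hg'
    have hpg : Element.pPart p g' = U := by
      have := (Element.pPart_conj hp.out t⁻¹ g).1
      rw [inv_inv] at this
      rw [hg', this, ← hu, hUt]
    have hyC : Element.pComplPart p g' ∈ C := by
      rw [hCU, Subgroup.mem_centralizer_singleton_iff, ← hpg]
      exact (Element.commute_pPart_pComplPart p g').eq.symm
    have hy : ¬ p ∣ orderOf (⟨_, hyC⟩ : C) := by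
      rw [Subgroup.orderOf_mk]
      exact hp.out.coprime_iff_not_dvd.mp
        (Nat.coprime_comm.mp (Element.coprime_orderOf_pComplPart hp.out g'))
    have h2 : ((∑ y ∈ Finset.univ.filter (fun y : C => ¬ p ∣ orderOf y),
        Complex.normSq (Fj y) : ℝ) : ℂ) = 0 := by
      rw [Complex.ofReal_sum, ← hFF, regSum]
      exact Finset.sum_congr rfl fun y _ => (Complex.mul_conj _).symm
    rw [Complex.ofReal_eq_zero] at h2
    have h3 := Complex.normSq_eq_zero.1 ((Finset.sum_eq_zero_iff_of_nonneg fun y _ =>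
      Complex.normSq_nonneg _).1 h2 ⟨_, hyC⟩ (Finset.mem_filter.2 ⟨Finset.mem_univ _, hy⟩))
    simp only [hFj, ← hpg, Element.pPart_mul_pComplPart] at h3
    rw [← hFc g t⁻¹, inv_inv]
    exact h3
  have hcol : ∀ v : IrrCharacter H → ℂ,
      (∀ g : H, p ∣ orderOf g →
        ∑ ξ ∈ Finset.univ.filter (· ∈ β), v ξ * (ξ : H → ℂ) g = 0) →
      ∀ j : (ZMod (p ^ 1))ˣ, ∑ ξ ∈ Finset.univ.filter (· ∈ β), v ξ * X ξ j = 0 := by
    intro v hv j
    obtain ⟨hw, l, hl⟩ := pow_section hS j.isUnit
    simp only [hX, regSum, Finset.mul_sum]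
    rw [Finset.sum_comm]
    refine Finset.sum_eq_zero fun y hy => ?_
    have hyr : ¬ p ∣ orderOf (y : H) := by rw [Subgroup.orderOf_coe]; exact (Finset.mem_filter.1 hy).2
    have hsing : p ∣ orderOf (x ^ (j : ZMod (p ^ 1)).val * (y : H)) := by
      have hne : x ^ (j : ZMod (p ^ 1)).val ≠ 1 := by
        intro h1
        have h2 : (((j : ZMod (p ^ 1)).val : ℕ) : ZMod (p ^ 1)) = 0 :=
          (ZMod.natCast_eq_zero_iff _ _).2
            ((dvd_of_eq ((pow_one p).trans hord.symm)).trans (orderOf_dvd_of_pow_eq_one h1))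
        rw [ZMod.natCast_zmod_val] at h2
        exact j.ne_zero h2
      rw [(show Commute (x ^ (j : ZMod (p ^ 1)).val) (y : H) from
        ((hw y).1 y.2).symm).orderOf_mul_eq_mul_orderOf_of_coprime]
      · refine Dvd.dvd.mul_right ?_ _
        rw [hl]
        refine dvd_pow_self p fun h0 => hne ?_
        rw [← orderOf_eq_one_iff, hl, h0, pow_zero]
      · rw [hl]
        exact (hp.out.coprime_iff_not_dvd.2 hyr).pow_left l
    calc ∑ ξ ∈ Finset.univ.filter (· ∈ β), v ξ * (s * ((ξ : H → ℂ)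
          (x ^ (j : ZMod (p ^ 1)).val * (y : H)) * conj ((θ : C → ℂ) y)))
        = s * conj ((θ : C → ℂ) y) * ∑ ξ ∈ Finset.univ.filter (· ∈ β),
            v ξ * (ξ : H → ℂ) (x ^ (j : ZMod (p ^ 1)).val * (y : H)) := by
          rw [Finset.mul_sum]; exact Finset.sum_congr rfl fun ξ _ => by ring
      _ = 0 := by rw [hv _ hsing, mul_zero]
  have hext : ∀ r (ξ : {χ : IrrCharacter H // χ ∈ β}),
      (fun χ : IrrCharacter H => if h : χ ∈ β then w r ⟨χ, h⟩ else 0) ξ.1 = w r ξ :=
    fun r ξ => dif_pos ξ.2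
  refine ⟨N, fun r χ => if h : χ ∈ β then w r ⟨χ, h⟩ else 0, c, hc, fun r g hg => ?_,
    fun L hL => ?_, ?_⟩
  · refine hvan (fun χ => ((if h : χ ∈ β then w r ⟨χ, h⟩ else 0 : ℤ) : ℂ)) (fun j => ?_) g hg
    rw [hFsum]
    simp only [hext]
    rw [← hw r j]
    exact Finset.sum_congr rfl fun ξ _ => by rw [hcev]
  · obtain ⟨v, hv, hvL⟩ := hL
    have h1 := hsep (fun ξ => L ξ.1) ⟨fun ξ => v ξ.1, fun j => by
      simp only [hcev]
      rw [← hFsum (fun χ => v χ * X χ j)]
      exact hcol v hv j, by rw [← hFsum (fun χ => v χ * L χ)]; exact hvL⟩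
    refine h1.trans (le_of_eq ?_)
    refine Finset.sum_congr (Finset.filter_congr fun r _ => ?_) fun _ _ => rfl
    rw [hFsum]
    simp only [hext]
  · refine le_of_eq_of_le ?_ hcost
    refine Finset.sum_congr rfl fun r _ => ?_
    congr 1
    rw [Finset.sum_subtype (F := inferInstance) (Finset.univ.filter (· ∈ β)) (p := (· ∈ β))
      (by simp) (fun ξ => (((if h : ξ ∈ β then w r ⟨ξ, h⟩ else 0 : ℤ)) : ℝ) ^ 2)]
    simp only [hext]

end Cfsg.Agent.BlockCount
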