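import Cfsg.Agent.BrauerPairs.Nil.Main
import Cfsg.Agent.BrauerPairs.AbelianLocal

/-!
The parts on subsections of a function on a subgroup containing the centralizer.
-/

set_option autoImplicit false
set_option linter.style.haveILetI false
set_option linter.unusedSectionVars false

namespace Cfsg.Agent.BlockCount

open MonoidAlgebra Cfsg
open Cfsg.Agent.BrauerPairs Cfsg.Agent.BrauerPairs.Nil
open scoped ComplexConjugate Classical

universe u

variable {p : ℕ} [Fact p.Prime] {M : Ideal AlgInt} [M.IsPrime] [CharP (Block.ResF M) p]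
  {G : Type u} [Group G] [Fintype G]

/-- A function on a subgroup, continued by zero. -/
noncomputable def extFun (L : Subgroup G) (φ : L → ℂ) (g : G) : ℂ :=
  if h : g ∈ L then φ ⟨g, h⟩ else 0

theorem extFun_coe (L : Subgroup G) (φ : L → ℂ) (g : L) : extFun L φ (g : G) = φ g :=
  dif_pos g.2

/-- The parts transform under conjugation. -/
theorem phi_conj_fun {x : G} {a b : PairIdx M G} (h : CjRel (pairSys M G) x a b) (w : G)
    {φ ψ : G → ℂ} (hφ : ∀ g, φ (x * g * x⁻¹) = ψ g) (y : G) :
    Phi b (x * w * x⁻¹) φ (x * y * x⁻¹) = Phi a w ψ y := by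
  have hmap : (Subgroup.centralizer (a.1 : Set G)).map (MulAut.conj x).toMonoidHom =
      Subgroup.centralizer (b.1 : Set G) := by rw [← h.1, centralizer_map_conj]
  rw [phi_eq_sum, phi_eq_sum]
  refine (Fintype.sum_equiv (MulAut.conj x).toEquiv _ _ fun c => ?_).symm
  show _ = subgroupBlockCoeff _ b.2.1 (x * c * x⁻¹) *
    φ (x * w * x⁻¹ * (x * c * x⁻¹) * (x * y * x⁻¹))
  rw [subgroupBlockCoeff_cj x hmap h.2, show x⁻¹ * (x * c * x⁻¹) * x = c by group,
    show x * w * x⁻¹ * (x * c * x⁻¹) * (x * y * x⁻¹) = x * (w * c * y) * x⁻¹ by group,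
    hφ (w * c * y)]

theorem centralIn_incl' {R : Type*} [CommRing R] {L : Subgroup G} {K : Subgroup L}
    {a : MonoidAlgebra R L} (h : CentralIn K a) :
    CentralIn (K.map L.subtype) (Block.incl L a) := by
  refine ⟨fun g hg => ?_, ?_⟩
  · by_cases hgL : g ∈ L
    · refine (Block.coeff_incl_coe L a ⟨g, hgL⟩).trans (h.supp _ fun hK => hg ?_)
      exact ⟨⟨g, hgL⟩, hK, rfl⟩
    · exact Block.coeff_incl_of_notMem L a hgL
  · rintro _ ⟨y, hy, rfl⟩ g
    rw [Subgroup.coe_subtype]
    by_cases hgL : g ∈ L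
    · rw [show (y : G) * g * (y : G)⁻¹ = ((y * ⟨g, hgL⟩ * y⁻¹ : L) : G) from rfl,
        Block.coeff_incl_coe]
      refine (h.fixed y hy _).trans ?_
      exact (Block.coeff_incl_coe L a ⟨g, hgL⟩).symm
    · rw [Block.coeff_incl_of_notMem L a hgL, Block.coeff_incl_of_notMem L a]
      intro hc
      apply hgL
      simpa [mul_assoc] using L.mul_mem (L.mul_mem (L.inv_mem y.2) hc) y.2

/-- A pair of a subgroup containing the centralizer has the same idempotent. -/
theorem idemO_lifts {L : Subgroup G} {a' : PairIdx M L} {a : PairIdx M G} (h : Lifts L a' a) :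
    idemO (Subgroup.centralizer (a.1 : Set G)) a.2 =
      Block.incl L (idemO (Subgroup.centralizer (a'.1 : Set L)) a'.2) := by
  have hC : (Subgroup.centralizer (a'.1 : Set L)).map L.subtype =
      Subgroup.centralizer (a.1 : Set G) := by
    rw [← h.1, centralizer_map_subtype (by rw [h.1]; exact h.2.1)]
  refine lift_unique_in (centralIn_idemO _ _) (hC ▸ centralIn_incl' (centralIn_idemO _ _))
    (idemO_mul_self _ _) (by rw [← map_mul, idemO_mul_self]) ?_
  rw [toF_idemO, show Block.toF M (Block.incl L (idemO (Subgroup.centralizer (a'.1 : Set L)) a'.2)) =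
    Block.incl L (Block.toF M (idemO (Subgroup.centralizer (a'.1 : Set L)) a'.2)) from
      Block.mapR_incl _ _ _, toF_idemO]
  exact h.2.2

/-- The part of a function on a subgroup containing the centralizer. -/
theorem phi_lifts {L : Subgroup G} {a' : PairIdx M L} {a : PairIdx M G} (h : Lifts L a' a)
    (w y : L) (φ : L → ℂ) : Phi a (w : G) (extFun L φ) (y : G) = Phi a' w φ y := by
  rw [phi_eq_sum, phi_eq_sum]
  symm
  refine Finset.sum_bij_ne_zero (fun c _ _ => (c : G)) (fun _ _ _ => Finset.mem_univ _)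
    (fun _ _ _ _ _ _ he => Subtype.ext he) (fun g _ hg => ?_) fun c _ _ => ?_
  · have hgL : g ∈ L := by
      by_contra hn
      apply hg
      rw [← coeff_idemO, idemO_lifts h, Block.coeff_incl_of_notMem L _ hn]
      simp
    refine ⟨⟨g, hgL⟩, Finset.mem_univ _, fun h0 => hg ?_, rfl⟩
    rw [← coeff_idemO, idemO_lifts h, show g = ((⟨g, hgL⟩ : L) : G) from rfl,
      Block.coeff_incl_coe, coeff_idemO, ← Subgroup.coe_mul, ← Subgroup.coe_mul, extFun_coe]
    exact h0
  · rw [← coeff_idemO, ← coeff_idemO, idemO_lifts h, Block.coeff_incl_coe, ← Subgroup.coe_mul,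
      ← Subgroup.coe_mul, extFun_coe]

/-- The local block seen inside the centralizer, with the maximal pair lifted. -/
theorem exists_local_maxPair {P Q : Subgroup G} {B : Set (IrrCharacter G)}
    {c : Blk M (Subgroup.centralizer (P : Set G))}
    {f : Blk M (Subgroup.centralizer (Q : Set G))} (hm : IsMaximalBrauerPair p M B P c.1)
    (hab : ∀ x ∈ P, ∀ y ∈ P, x * y = y * x)
    (hn : NSub (pairSys M G) p ⟨Q, f⟩ ⟨P, c⟩) :
    ∃ a' : PairIdx M (Subgroup.centralizer (Q : Set G)),
      Lifts (Subgroup.centralizer (Q : Set G)) a' ⟨P, c⟩ ∧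
        IsMaximalBrauerPair p M f.1 a'.1 a'.2.1 := by
  have hPC : P ≤ Subgroup.centralizer (Q : Set G) := le_centralizer_of_abelian hab hn.2.1
  have hCC : Subgroup.centralizer (P : Set G) ≤ Subgroup.centralizer (Q : Set G) :=
    centralizer_anti hn.2.1
  obtain ⟨⟨R', r⟩, hl⟩ := exists_lifts_down (L := Subgroup.centralizer (Q : Set G))
    (⟨P, c⟩ : PairIdx M G) hPC hCC
  have hR : R'.map (Subgroup.centralizer (Q : Set G)).subtype = P := hl.1
  have hpair : PairOf (blockSysTop M) (pairSys M (Subgroup.centralizer (Q : Set G))) p f ⟨R', r⟩ :=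
    hl.pairOf (E := f) rfl hn
  have hne : NoExt p (⟨R', r⟩ : PairIdx M (Subgroup.centralizer (Q : Set G))) := by
    intro d hd
    obtain ⟨d₀, hd₀⟩ := exists_lifts_up (L := Subgroup.centralizer (Q : Set G)) d ((centralizer_anti (by
      rw [← hR]; exact Subgroup.map_mono hd.2.1)).trans hCC)
    have hG := hl.nsub hd₀ hd
    have hpB : PairOf (blockSysTop M) (pairSys M G) p (⟨B, hm.1.2.1⟩ : Blk M G) ⟨P, c⟩ :=
      (maxPair_of hm).1
    have h2 := noExt_of_isDef hpB (maxPair_of hm).isDef _ hG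
    rw [← hd₀.1] at h2
    exact Subgroup.map_injective (Subgroup.centralizer (Q : Set G)).subtype_injective
      (h2.trans hR.symm)
  exact ⟨⟨R', r⟩, hl, (isMaximalBrauerPair_iff f ⟨R', r⟩).2
    (maxPair_of_isDef hpair (isDef_of_noExt hpair hne))⟩

end Cfsg.Agent.BlockCount
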